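import Groth.Agent.Lib.Helper2.RSMod.Top

/-!
# Pointwise tools: restriction of local data, common neighbourhoods, exactness
-/

set_option autoImplicit false
universe u
open CategoryTheory CategoryTheory.Limits Opposite TopologicalSpace

namespace Groth.Agent.Lib.Helper2.RSMod

section Site

variable {D : Type u} [SmallCategory D] {J : GrothendieckTopology D} {R : Sheaf J RingCat.{u}}

theorem exists_lift_of_exact_mono (S : ShortComplex (SheafOfModules.{u} R)) (hS : S.Exact)
    [Mono S.f] {V : D} (t : S.X₂.val.obj (op V)) (ht : S.g.val.app (op V) t = 0) :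
    ∃ y : S.X₁.val.obj (op V), S.f.val.app (op V) y = t := by
  haveI := Groth.Agent.Lib.Helper2.Chaotic.evaluation_preservesLimits R (op V)
  have hS' := hS.map_of_mono_of_preservesKernel (SheafOfModules.evaluation.{u} R (op V))
    inferInstance inferInstance
  exact (ShortComplex.moduleCat_exact_iff _).1 hS' t ht

theorem exact_local (S : ShortComplex (SheafOfModules.{u} R)) (hS : S.Exact)
    {V : D} (t : S.X₂.val.obj (op V)) (ht : S.g.val.app (op V) t = 0) :
    ∃ S' : Sieve V, S' ∈ J V ∧ ∀ ⦃W : D⦄ (h : W ⟶ V), S' h →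
      ∃ y : S.X₁.val.obj (op W), S.f.val.app (op W) y = rs S.X₂ h t := by
  haveI : Epi (kernel.lift S.g S.f S.zero) := S.exact_iff_epi_kernel_lift.1 hS
  obtain ⟨z, hz⟩ := exists_kernel_lift S.g t ht
  obtain ⟨S', hS', h'⟩ := exists_local_lift (kernel.lift S.g S.f S.zero) z
  refine ⟨S', hS', fun W h hh => ?_⟩
  obtain ⟨y, hy⟩ := h' h hh
  refine ⟨y, ?_⟩
  have h1 : kernel.lift S.g S.f S.zero ≫ kernel.ι S.g = S.f := kernel.lift_ι _ _ _
  have h2 : S.f.val.app (op W) y =
      (kernel.ι S.g).val.app (op W) ((kernel.lift S.g S.f S.zero).val.app (op W) y) :=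
    (congrArg (fun ψ => (ψ.val.app (op W)).hom y) h1).symm
  rw [h2, hy, hom_rs, hz]

end Site

variable {X : TopCat.{u}} {O : TopCat.Sheaf CommRingCat.{u} X}

section Nbhd

/-- common neighbourhood for finitely many local conditions -/
theorem exists_common_nbhd {ι : Type*} [Finite ι] (x : X) (V : Opens X) (hxV : x ∈ V)
    (P : ι → Opens X → Prop) (hP : ∀ j (W W' : Opens X), W' ≤ W → P j W → P j W')
    (h : ∀ j, ∃ W : Opens X, W ≤ V ∧ x ∈ W ∧ P j W) :
    ∃ W : Opens X, W ≤ V ∧ x ∈ W ∧ ∀ j, P j W := by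
  classical
  haveI := Fintype.ofFinite ι
  choose W hWV hxW hPW using h
  refine ⟨V ⊓ Finset.univ.inf W, inf_le_left, ⟨hxV, ?_⟩, fun j => ?_⟩
  · exact Finset.inf_induction (p := fun W : Opens X => x ∈ W) trivial
      (fun a ha b hb => ⟨ha, hb⟩) (fun j _ => hxW j)
  · exact hP j (W j) _ (inf_le_right.trans (Finset.inf_le (Finset.mem_univ j))) (hPW j)

end Nbhd

section Restrict

variable {F : ModSite.Mod O} {U : Opens X} {I K : Type*} [Fintype I] [Fintype K]

lemma PGen.restrict {s : I → F.val.obj (op U)} (h : PGen F U s) {U' : Opens X} (hU' : U' ≤ U) :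
    PGen F U' (fun i => res F hU' (s i)) := by
  intro V hV t x hx
  obtain ⟨W, hW, hxW, a, ha⟩ := h V (hV.trans hU') t x hx
  refine ⟨W, hW, hxW, a, ?_⟩
  rw [ha]
  refine Finset.sum_congr rfl (fun i _ => ?_)
  rw [res_res]

lemma PRel.restrict {s : I → F.val.obj (op U)}
    {r : K → I → (ModSite.ringSh O).obj.obj (op U)} (h : PRel F U s r) {U' : Opens X}
    (hU' : U' ≤ U) :
    PRel F U' (fun i => res F hU' (s i)) (fun k i => rres O hU' (r k i)) := by
  intro V hV a ha x hx
  have ha' : ∑ i, a i • res F (hV.trans hU') (s i) = 0 := by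
    rw [← ha]
    refine Finset.sum_congr rfl (fun i _ => ?_)
    rw [res_res]
  obtain ⟨W, hW, hxW, c, hc⟩ := h V (hV.trans hU') a ha' x hx
  refine ⟨W, hW, hxW, c, fun i => ?_⟩
  rw [hc i]
  refine Finset.sum_congr rfl (fun k _ => ?_)
  rw [rres_rres]

lemma PGen.reindex {I' : Type*} [Fintype I'] (e : I ≃ I') {s : I → F.val.obj (op U)}
    (h : PGen F U s) : PGen F U (s ∘ e.symm) :=
  pGen_of_locGen ((locGen_of_pGen h).reindex e)

end Restrict

section Lift

variable {F G : ModSite.Mod O}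

theorem exists_lift_nbhd (θ : G ⟶ F) [Epi θ] {V : Opens X} (t : F.val.obj (op V)) (x : X)
    (hx : x ∈ V) :
    ∃ (W : Opens X) (hW : W ≤ V), x ∈ W ∧ ∃ g : G.val.obj (op W),
      θ.val.app (op W) g = res F hW t := by
  obtain ⟨S, hS, h'⟩ := exists_local_lift θ t
  obtain ⟨W, f, hf, hxW⟩ := hS x hx
  obtain ⟨y, hy⟩ := h' f hf
  exact ⟨W, leOfHom f, hxW, y, hy⟩

theorem exact_nbhd (S : ShortComplex (ModSite.Mod O)) (hS : S.Exact)
    {V : Opens X} (t : S.X₂.val.obj (op V)) (ht : S.g.val.app (op V) t = 0) (x : X)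
    (hx : x ∈ V) :
    ∃ (W : Opens X) (hW : W ≤ V), x ∈ W ∧ ∃ y : S.X₁.val.obj (op W),
      S.f.val.app (op W) y = res S.X₂ hW t := by
  obtain ⟨S', hS', h'⟩ := exact_local S hS t ht
  obtain ⟨W, f, hf, hxW⟩ := hS' x hx
  obtain ⟨y, hy⟩ := h' f hf
  exact ⟨W, leOfHom f, hxW, y, hy⟩

end Lift

section General

variable (F : ModSite.Mod O)

theorem isFiniteType_of_pGen
    (H : ∀ x : X, ∃ U : Opens X, x ∈ U ∧ ∃ (I : Type) (_ : Fintype I) (s : I → F.val.obj (op U)),
      PGen F U s) :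
    SheafOfModules.IsFiniteType (R := ModSite.ringSh O) F := by
  rw [isFiniteType_iff]
  intro x
  obtain ⟨U, hx, I, hI, s, hs⟩ := H x
  exact ⟨U, hx, Fintype.card I, s ∘ (Fintype.equivFin I).symm, hs.reindex (Fintype.equivFin I)⟩

end General

end Groth.Agent.Lib.Helper2.RSMod
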