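import Groth.Agent.Lib.Helper2.RSMod.Finite
import Groth.Prelude.Def_ModSite

/-!
# Sheaves of modules on a ringed space: pointwise local generators and relations
-/

set_option autoImplicit false
universe u
open CategoryTheory CategoryTheory.Limits Opposite TopologicalSpace

namespace Groth.Agent.Lib.Helper2.RSMod

variable {X : TopCat.{u}} {O : TopCat.Sheaf CommRingCat.{u} X}

section Res

variable (F G : ModSite.Mod O)

/-- restriction of sections to a smaller open -/
noncomputable def res {V W : Opens X} (h : W ≤ V) (t : F.val.obj (op V)) : F.val.obj (op W) :=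
  rs F (homOfLE h) t

variable (O) in
/-- restriction of functions to a smaller open -/
noncomputable def rres {V W : Opens X} (h : W ≤ V) :
    (ModSite.ringSh O).obj.obj (op V) →+* (ModSite.ringSh O).obj.obj (op W) :=
  ((ModSite.ringSh O).obj.map (homOfLE h).op).hom

variable {F G}

lemma rs_eq_res {V W : Opens X} (g : W ⟶ V) (t : F.val.obj (op V)) :
    rs F g t = res F (leOfHom g) t := rfl

@[simp] lemma res_self {V : Opens X} (h : V ≤ V) (t : F.val.obj (op V)) : res F h t = t :=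
  rs_id t

lemma res_res {V W W' : Opens X} (h : W ≤ V) (k : W' ≤ W) (t : F.val.obj (op V)) :
    res F k (res F h t) = res F (k.trans h) t :=
  (rs_comp (M := F) (homOfLE h) (homOfLE k) t).symm

@[simp] lemma res_zero {V W : Opens X} (h : W ≤ V) : res F h (0 : F.val.obj (op V)) = 0 :=
  rs_zero _

lemma res_add {V W : Opens X} (h : W ≤ V) (t t' : F.val.obj (op V)) :
    res F h (t + t') = res F h t + res F h t' := rs_add _ _ _

lemma res_smul {V W : Opens X} (h : W ≤ V) (a : (ModSite.ringSh O).obj.obj (op V))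
    (t : F.val.obj (op V)) : res F h (a • t) = rres O h a • res F h t := rs_smul _ _ _

lemma res_sum {V W : Opens X} (h : W ≤ V) {ι : Type*} (s : Finset ι) (f : ι → F.val.obj (op V)) :
    res F h (∑ i ∈ s, f i) = ∑ i ∈ s, res F h (f i) := rs_sum _ _ _

lemma hom_res (φ : F ⟶ G) {V W : Opens X} (h : W ≤ V) (t : F.val.obj (op V)) :
    φ.val.app (op W) (res F h t) = res G h (φ.val.app (op V) t) := hom_rs φ _ t

lemma res_sub {V W : Opens X} (h : W ≤ V) (t t' : F.val.obj (op V)) :
    res F h (t - t') = res F h t - res F h t' := by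
  unfold res rs
  exact map_sub _ _ _

lemma res_congr {V W : Opens X} (h h' : W ≤ V) (t : F.val.obj (op V)) :
    res F h t = res F h' t := rfl

lemma hom_smul (φ : F ⟶ G) {W : Opens X} (a : (ModSite.ringSh O).obj.obj (op W))
    (t : F.val.obj (op W)) : φ.val.app (op W) (a • t) = a • φ.val.app (op W) t :=
  (φ.val.app (op W)).hom.map_smul _ _

lemma hom_add (φ : F ⟶ G) {W : Opens X} (t t' : F.val.obj (op W)) :
    φ.val.app (op W) (t + t') = φ.val.app (op W) t + φ.val.app (op W) t' :=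
  (φ.val.app (op W)).hom.map_add _ _

lemma hom_sub (φ : F ⟶ G) {W : Opens X} (t t' : F.val.obj (op W)) :
    φ.val.app (op W) (t - t') = φ.val.app (op W) t - φ.val.app (op W) t' :=
  (φ.val.app (op W)).hom.map_sub _ _

lemma hom_zero (φ : F ⟶ G) {W : Opens X} :
    φ.val.app (op W) (0 : F.val.obj (op W)) = 0 :=
  (φ.val.app (op W)).hom.map_zero

lemma hom_sum (φ : F ⟶ G) {W : Opens X} {ι : Type*} (s : Finset ι) (f : ι → F.val.obj (op W)) :
    φ.val.app (op W) (∑ i ∈ s, f i) = ∑ i ∈ s, φ.val.app (op W) (f i) :=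
  map_sum (φ.val.app (op W)).hom _ _

lemma rres_rres {V W W' : Opens X} (h : W ≤ V) (k : W' ≤ W)
    (a : (ModSite.ringSh O).obj.obj (op V)) :
    rres O k (rres O h a) = rres O (k.trans h) a := by
  unfold rres
  have := (ModSite.ringSh O).obj.map_comp (homOfLE h).op (homOfLE k).op
  exact (congrArg (fun φ => φ.hom a) this).symm

end Res

section Pointwise

variable (F : ModSite.Mod O) (U : Opens X) {I K : Type*} [Fintype I] [Fintype K]

/-- pointwise form of `LocGen` -/
def PGen (s : I → F.val.obj (op U)) : Prop :=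
  ∀ (V : Opens X) (hV : V ≤ U) (t : F.val.obj (op V)) (x : X), x ∈ V →
    ∃ (W : Opens X) (hW : W ≤ V), x ∈ W ∧ ∃ a : I → (ModSite.ringSh O).obj.obj (op W),
      res F hW t = ∑ i, a i • res F (hW.trans hV) (s i)

/-- pointwise form of `RelGen` -/
def PRel (s : I → F.val.obj (op U)) (r : K → I → (ModSite.ringSh O).obj.obj (op U)) : Prop :=
  ∀ (V : Opens X) (hV : V ≤ U) (a : I → (ModSite.ringSh O).obj.obj (op V)),
    ∑ i, a i • res F hV (s i) = 0 → ∀ x : X, x ∈ V →
    ∃ (W : Opens X) (hW : W ≤ V), x ∈ W ∧ ∃ c : K → (ModSite.ringSh O).obj.obj (op W),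
      ∀ i, rres O hW (a i) = ∑ k, c k * rres O (hW.trans hV) (r k i)

variable {F U}

lemma pGen_of_locGen {s : I → F.val.obj (op U)} (h : LocGen F U s) : PGen F U s := by
  intro V hV t x hx
  obtain ⟨S, hS, h'⟩ := h V (homOfLE hV) t
  obtain ⟨W, f, hf, hxW⟩ := hS x hx
  obtain ⟨a, ha⟩ := h' f hf
  exact ⟨W, leOfHom f, hxW, a, ha⟩

lemma locGen_of_pGen {s : I → F.val.obj (op U)} (h : PGen F U s) : LocGen F U s := by
  intro V g t
  let S : Sieve V :=
    { arrows := fun W f => ∃ a : I → (ModSite.ringSh O).obj.obj (op W),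
        rs F f t = ∑ i, a i • rs F (f ≫ g) (s i)
      downward_closed := by
        intro W W' f ⟨a, ha⟩ k
        refine ⟨fun i => rres O (leOfHom k) (a i), ?_⟩
        rw [rs_comp, ha, rs_sum]
        refine Finset.sum_congr rfl (fun i _ => ?_)
        rw [rs_smul, ← rs_comp]
        rfl }
  refine ⟨S, ?_, fun W f hf => hf⟩
  intro x hx
  obtain ⟨W, hW, hxW, a, ha⟩ := h V (leOfHom g) t x hx
  exact ⟨W, homOfLE hW, ⟨a, ha⟩, hxW⟩

lemma pRel_of_relGen {s : I → F.val.obj (op U)}
    {r : K → I → (ModSite.ringSh O).obj.obj (op U)} (h : RelGen F U s r) : PRel F U s r := by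
  intro V hV a ha x hx
  obtain ⟨S, hS, h'⟩ := h V (homOfLE hV) a ha
  obtain ⟨W, f, hf, hxW⟩ := hS x hx
  obtain ⟨c, hc⟩ := h' f hf
  exact ⟨W, leOfHom f, hxW, c, hc⟩

lemma relGen_of_pRel {s : I → F.val.obj (op U)}
    {r : K → I → (ModSite.ringSh O).obj.obj (op U)} (h : PRel F U s r) : RelGen F U s r := by
  intro V g a ha
  let S : Sieve V :=
    { arrows := fun W f => ∃ c : K → (ModSite.ringSh O).obj.obj (op W),
        ∀ i, ((ModSite.ringSh O).obj.map f.op).hom (a i) =
          ∑ k, c k * ((ModSite.ringSh O).obj.map (f ≫ g).op).hom (r k i)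
      downward_closed := by
        intro W W' f ⟨c, hc⟩ k
        refine ⟨fun j => rres O (leOfHom k) (c j), fun i => ?_⟩
        have h1 : ((ModSite.ringSh O).obj.map (k ≫ f).op).hom (a i) =
            rres O (leOfHom k) (((ModSite.ringSh O).obj.map f.op).hom (a i)) :=
          (rres_rres (O := O) (leOfHom f) (leOfHom k) (a i)).symm
        rw [h1, hc i, map_sum]
        refine Finset.sum_congr rfl (fun j _ => ?_)
        rw [map_mul]
        congr 1
        exact rres_rres (O := O) (leOfHom (f ≫ g)) (leOfHom k) (r j i) }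
  refine ⟨S, ?_, fun W f hf => hf⟩
  intro x hx
  obtain ⟨W, hW, hxW, c, hc⟩ := h V (leOfHom g) a ha x hx
  exact ⟨W, homOfLE hW, ⟨c, hc⟩, hxW⟩

end Pointwise

section Iff

variable (F : ModSite.Mod O)

lemma coversTop_iff {ι : Type u} (Uf : ι → Opens X) :
    (Opens.grothendieckTopology X).CoversTop Uf ↔ ∀ x : X, ∃ i, x ∈ Uf i := by
  constructor
  · intro h x
    obtain ⟨W, f, ⟨i, ⟨k⟩⟩, hxW⟩ := h ⊤ x trivial
    exact ⟨i, leOfHom k hxW⟩
  · intro h W x hx
    obtain ⟨i, hi⟩ := h x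
    exact ⟨W ⊓ Uf i, homOfLE inf_le_left, ⟨i, ⟨homOfLE inf_le_right⟩⟩, ⟨hx, hi⟩⟩

theorem isFiniteType_iff :
    SheafOfModules.IsFiniteType (R := ModSite.ringSh O) F ↔
      ∀ x : X, ∃ U : Opens X, x ∈ U ∧ ∃ (n : ℕ) (s : Fin n → F.val.obj (op U)), PGen F U s := by
  constructor
  · intro hF x
    obtain ⟨ι, Uf, hU, H⟩ := locGen_of_isFiniteType F
    obtain ⟨i, hi⟩ := (coversTop_iff Uf).1 hU x
    obtain ⟨n, s, hs⟩ := H i
    exact ⟨Uf i, hi, n, s, pGen_of_locGen hs⟩
  · intro H
    choose Uf hx n s hs using H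
    exact isFiniteType_of_locGen F X Uf ((coversTop_iff Uf).2 (fun x => ⟨x, hx x⟩))
      (fun x => ⟨n x, s x, locGen_of_pGen (hs x)⟩)

theorem isFinitePresentation_iff :
    SheafOfModules.IsFinitePresentation (R := ModSite.ringSh O) F ↔
      ∀ x : X, ∃ U : Opens X, x ∈ U ∧ ∃ (n : ℕ) (s : Fin n → F.val.obj (op U)) (m : ℕ)
        (r : Fin m → Fin n → (ModSite.ringSh O).obj.obj (op U)),
        PGen F U s ∧ (∀ k, ∑ j, r k j • s j = 0) ∧ PRel F U s r := by
  constructor
  · intro hF x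
    obtain ⟨ι, Uf, hU, H⟩ := data_of_isFinitePresentation F
    obtain ⟨i, hi⟩ := (coversTop_iff Uf).1 hU x
    obtain ⟨n, s, m, r, hs, hr0, hr⟩ := H i
    exact ⟨Uf i, hi, n, s, m, r, pGen_of_locGen hs, hr0, pRel_of_relGen hr⟩
  · intro H
    choose Uf hx n s m r hs hr0 hr using H
    exact isFinitePresentation_of_data F X Uf ((coversTop_iff Uf).2 (fun x => ⟨x, hx x⟩))
      (fun x => ⟨n x, s x, m x, r x, locGen_of_pGen (hs x), hr0 x, relGen_of_pRel (hr x)⟩)

end Iff

end Groth.Agent.Lib.Helper2.RSMod
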