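import Groth.Agent.Lib.Helper2.RSMod.PHomGens

/-!
# Morphisms out of a finitely presented module commute with directed colimits
-/

set_option autoImplicit false
universe u
open CategoryTheory CategoryTheory.Limits Opposite TopologicalSpace

namespace Groth.Agent.Lib.Helper2.RSMod

variable {X : TopCat.{u}} {O : TopCat.Sheaf CommRingCat.{u} X}

section

variable {I : Type u} [Preorder I] [Nonempty I] [IsDirected I (· ≤ ·)]
  {D : I ⥤ ModSite.Mod O} {c : Cocone D} {G : ModSite.Mod O}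

/-- transition maps on sections compose -/
lemma tr_tr {i k l : I} (hik : i ≤ k) (hkl : k ≤ l) {W : Opens X} (y : (D.obj i).val.obj (op W)) :
    (D.map (homOfLE hkl)).val.app (op W) ((D.map (homOfLE hik)).val.app (op W) y) =
      (D.map (homOfLE (hik.trans hkl))).val.app (op W) y := by
  have h : D.map (homOfLE hik) ≫ D.map (homOfLE hkl) = D.map (homOfLE (hik.trans hkl)) := by
    rw [← D.map_comp]
    rfl
  exact congrArg (fun ψ => (ψ.val.app (op W)).hom y) h

lemma tr_eq {i k : I} (f : i ⟶ k) {W : Opens X} (y : (D.obj i).val.obj (op W)) :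
    (D.map f).val.app (op W) y = (D.map (homOfLE (leOfHom f))).val.app (op W) y := by
  have h : f = homOfLE (leOfHom f) := Subsingleton.elim _ _
  rw [← h]

set_option maxHeartbeats 1600000 in
theorem hom_local_inj (hc : IsColimit c)
    [SheafOfModules.IsFiniteType (R := ModSite.ringSh O) G] {i : I} {U : Opens X}
    (ψ ψ' : PHom G (D.obj i) U) (he : ψ.comp (c.ι.app i) = ψ'.comp (c.ι.app i)) (x : X)
    (hx : x ∈ U) :
    ∃ (W : Opens X) (hW : W ≤ U), x ∈ W ∧ ∃ (k : I) (hik : i ≤ k),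
      (ψ.restrict hW).comp (D.map (homOfLE hik)) =
        (ψ'.restrict hW).comp (D.map (homOfLE hik)) := by
  classical
  obtain ⟨W₀, hxW₀, n, s, hs⟩ := (isFiniteType_iff G).1 inferInstance x
  have hW₁U : W₀ ⊓ U ≤ U := inf_le_right
  have hW₁0 : W₀ ⊓ U ≤ W₀ := inf_le_left
  let y : Fin n → (D.obj i).val.obj (op (W₀ ⊓ U)) := fun a =>
    ψ.app (W₀ ⊓ U) hW₁U (res G hW₁0 (s a)) - ψ'.app (W₀ ⊓ U) hW₁U (res G hW₁0 (s a))
  have hy : ∀ a, (c.ι.app i).val.app (op (W₀ ⊓ U)) (y a) = 0 := by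
    intro a
    have h1 := congrArg (fun ψ => ψ.app (W₀ ⊓ U) hW₁U (res G hW₁0 (s a))) he
    show (c.ι.app i).val.app (op (W₀ ⊓ U)) (_ - _) = 0
    rw [hom_sub, sub_eq_zero]
    exact h1
  obtain ⟨W, hW, hxW, hk⟩ := exists_common_nbhd (ι := Fin n) x (W₀ ⊓ U) ⟨hxW₀, hx⟩
    (fun a W => ∃ (hW : W ≤ W₀ ⊓ U) (k : I) (hik : i ≤ k),
      (D.map (homOfLE hik)).val.app (op W) (res (D.obj i) hW (y a)) = 0)
    (by
      rintro a W W' hWW' ⟨hW, k, hik, h0⟩
      refine ⟨hWW'.trans hW, k, hik, ?_⟩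
      rw [← res_res hW hWW', hom_res, h0, res_zero])
    (fun a => by
      obtain ⟨W, hW, hxW, k, f, h0⟩ := colimit_ker_locally hc i (y a) (hy a) x ⟨hxW₀, hx⟩
      refine ⟨W, hW, hxW, hW, k, leOfHom f, ?_⟩
      rw [← tr_eq]
      exact h0)
  choose hW' k hik hk using hk
  obtain ⟨k₀, hk₀⟩ := Finset.exists_le (insert i (Finset.univ.image k))
  have hik₀ : i ≤ k₀ := hk₀ i (Finset.mem_insert_self _ _)
  have hkk₀ : ∀ a, k a ≤ k₀ := fun a =>
    hk₀ (k a) (Finset.mem_insert_of_mem (Finset.mem_image_of_mem k (Finset.mem_univ a)))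
  refine ⟨W, hW.trans hW₁U, hxW, k₀, hik₀, ?_⟩
  apply PHom.ext_of_gens (hs.restrict (hW.trans hW₁0))
  intro a
  show (D.map (homOfLE hik₀)).val.app (op W) (ψ.app W _ (res G (hW.trans hW₁0) (s a))) =
    (D.map (homOfLE hik₀)).val.app (op W) (ψ'.app W _ (res G (hW.trans hW₁0) (s a)))
  rw [← sub_eq_zero, ← hom_sub]
  have h2 : ψ.app W (le_rfl.trans (hW.trans hW₁U)) (res G (hW.trans hW₁0) (s a)) -
      ψ'.app W (le_rfl.trans (hW.trans hW₁U)) (res G (hW.trans hW₁0) (s a)) =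
      res (D.obj i) hW (y a) := by
    show _ = res (D.obj i) hW (_ - _)
    rw [res_sub, ← ψ.nat, ← ψ'.nat, res_res]
  rw [h2, ← tr_tr (hik a) (hkk₀ a), hk a, hom_zero]

set_option maxHeartbeats 1600000 in
theorem hom_inj_of_compact (hc : IsColimit c)
    [SheafOfModules.IsFiniteType (R := ModSite.ringSh O) G] {i : I} {U : Opens X}
    (hU : IsCompact (U : Set X))
    (ψ ψ' : PHom G (D.obj i) U) (he : ψ.comp (c.ι.app i) = ψ'.comp (c.ι.app i)) :
    ∃ (k : I) (hik : i ≤ k),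
      ψ.comp (D.map (homOfLE hik)) = ψ'.comp (D.map (homOfLE hik)) := by
  classical
  choose W hW hxW k hik hk using fun x : U => hom_local_inj hc ψ ψ' he x.1 x.2
  obtain ⟨T, hT⟩ := hU.elim_finite_subcover (fun x : U => ((W x : Opens X) : Set X))
    (fun x => (W x).isOpen) (fun z hz => Set.mem_iUnion.2 ⟨⟨z, hz⟩, hxW ⟨z, hz⟩⟩)
  obtain ⟨k₀, hk₀⟩ := Finset.exists_le (insert i (T.image k))
  have hik₀ : i ≤ k₀ := hk₀ i (Finset.mem_insert_self _ _)
  refine ⟨k₀, hik₀, ?_⟩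
  ext V hV t
  apply eq_of_locally
  intro z hz
  obtain ⟨x, hxT, hzx⟩ : ∃ x ∈ T, z ∈ W x := by
    have := hT (hV hz)
    simpa using this
  have hkk₀ : k x ≤ k₀ :=
    hk₀ (k x) (Finset.mem_insert_of_mem (Finset.mem_image_of_mem k hxT))
  have hVW : V ⊓ W x ≤ V := inf_le_left
  have hVWx : V ⊓ W x ≤ W x := inf_le_right
  refine ⟨V ⊓ W x, hVW, ⟨hz, hzx⟩, ?_⟩
  show res (D.obj k₀) hVW ((D.map (homOfLE hik₀)).val.app (op V) (ψ.app V hV t)) =
    res (D.obj k₀) hVW ((D.map (homOfLE hik₀)).val.app (op V) (ψ'.app V hV t))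
  rw [← hom_res, ← hom_res, ← ψ.nat, ← ψ'.nat, ← tr_tr (hik x) hkk₀, ← tr_tr (hik x) hkk₀]
  have h1 := congrArg (fun ψ => ψ.app (V ⊓ W x) hVWx (res G hVW t)) (hk x)
  exact congrArg (fun v => (D.map (homOfLE hkk₀)).val.app (op (V ⊓ W x)) v) h1

set_option maxHeartbeats 3200000 in
theorem hom_local_lift (hc : IsColimit c)
    [SheafOfModules.IsFinitePresentation (R := ModSite.ringSh O) G] (φ : G ⟶ c.pt) (x : X) :
    ∃ (W : Opens X), x ∈ W ∧ ∃ (k : I) (ψ : PHom G (D.obj k) W),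
      ψ.comp (c.ι.app k) = PHom.ofHom φ W := by
  classical
  obtain ⟨W₀, hxW₀, n, s, m, r, hs, hr0, hr⟩ := (isFinitePresentation_iff G).1 inferInstance x
  -- lift the images of the generators
  obtain ⟨W₂, hW₂, hxW₂, hl⟩ := exists_common_nbhd (ι := Fin n) x W₀ hxW₀
    (fun a W => ∃ (hW : W ≤ W₀) (i : I) (y : (D.obj i).val.obj (op W)),
      (c.ι.app i).val.app (op W) y = res c.pt hW (φ.val.app (op W₀) (s a)))
    (by
      rintro a W W' hWW' ⟨hW, i, y, hy⟩
      refine ⟨hWW'.trans hW, i, res (D.obj i) hWW' y, ?_⟩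
      rw [cocone_ι_res, hy, res_res])
    (fun a => by
      obtain ⟨W, hW, hxW, i, y, hy⟩ :=
        colimit_locally_from_stage hc (φ.val.app (op W₀) (s a)) x hxW₀
      exact ⟨W, hW, hxW, hW, i, y, hy⟩)
  choose hW₂' i y hy using hl
  obtain ⟨i₀, hi₀⟩ := Finset.exists_le (Finset.univ.image i)
  have hii₀ : ∀ a, i a ≤ i₀ := fun a =>
    hi₀ (i a) (Finset.mem_image_of_mem i (Finset.mem_univ a))
  let y' : Fin n → (D.obj i₀).val.obj (op W₂) := fun a =>
    (D.map (homOfLE (hii₀ a))).val.app (op W₂) (y a)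
  have hy' : ∀ a, (c.ι.app i₀).val.app (op W₂) (y' a) =
      res c.pt hW₂ (φ.val.app (op W₀) (s a)) := by
    intro a
    show (c.ι.app i₀).val.app (op W₂) ((D.map (homOfLE (hii₀ a))).val.app (op W₂) (y a)) = _
    rw [cocone_w_apply, hy a]
  -- the relations
  let ρ : Fin m → (D.obj i₀).val.obj (op W₂) := fun b => ∑ a, rres O hW₂ (r b a) • y' a
  have hρ : ∀ b, (c.ι.app i₀).val.app (op W₂) (ρ b) = 0 := by
    intro b
    show (c.ι.app i₀).val.app (op W₂) (∑ a, rres O hW₂ (r b a) • y' a) = 0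
    rw [hom_sum]
    have h1 : ∀ a, (c.ι.app i₀).val.app (op W₂) (rres O hW₂ (r b a) • y' a) =
        res c.pt hW₂ (φ.val.app (op W₀) (r b a • s a)) := by
      intro a
      rw [hom_smul, hy' a, hom_smul, res_smul]
    rw [Finset.sum_congr rfl (fun a _ => h1 a), ← res_sum, ← hom_sum, hr0 b, hom_zero, res_zero]
  obtain ⟨W, hW, hxW, hk⟩ := exists_common_nbhd (ι := Fin m) x W₂ hxW₂
    (fun b W => ∃ (hW : W ≤ W₂) (k : I) (hik : i₀ ≤ k),
      (D.map (homOfLE hik)).val.app (op W) (res (D.obj i₀) hW (ρ b)) = 0)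
    (by
      rintro b W W' hWW' ⟨hW, k, hik, h0⟩
      refine ⟨hWW'.trans hW, k, hik, ?_⟩
      rw [← res_res hW hWW', hom_res, h0, res_zero])
    (fun b => by
      obtain ⟨W, hW, hxW, k, f, h0⟩ := colimit_ker_locally hc i₀ (ρ b) (hρ b) x hxW₂
      refine ⟨W, hW, hxW, hW, k, leOfHom f, ?_⟩
      rw [← tr_eq]
      exact h0)
  choose hW' k hik hk using hk
  obtain ⟨k₀, hk₀⟩ := Finset.exists_le (insert i₀ (Finset.univ.image k))
  have hik₀ : i₀ ≤ k₀ := hk₀ i₀ (Finset.mem_insert_self _ _)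
  have hkk₀ : ∀ b, k b ≤ k₀ := fun b =>
    hk₀ (k b) (Finset.mem_insert_of_mem (Finset.mem_image_of_mem k (Finset.mem_univ b)))
  have hWW₀ : W ≤ W₀ := hW.trans hW₂
  let y'' : Fin n → (D.obj k₀).val.obj (op W) := fun a =>
    (D.map (homOfLE hik₀)).val.app (op W) (res (D.obj i₀) hW (y' a))
  have hrel : ∀ b, ∑ a, rres O hWW₀ (r b a) • y'' a = 0 := by
    intro b
    have h1 : ∑ a, rres O hWW₀ (r b a) • y'' a =
        (D.map (homOfLE hik₀)).val.app (op W) (res (D.obj i₀) hW (ρ b)) := by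
      show _ = (D.map (homOfLE hik₀)).val.app (op W)
        (res (D.obj i₀) hW (∑ a, rres O hW₂ (r b a) • y' a))
      rw [res_sum, hom_sum]
      refine Finset.sum_congr rfl (fun a _ => ?_)
      rw [res_smul, hom_smul, rres_rres]
    rw [h1, ← tr_tr (hik b) (hkk₀ b), hk b, hom_zero]
  refine ⟨W, hxW, k₀, PHom.ofGens (fun a => res G hWW₀ (s a)) (fun b a => rres O hWW₀ (r b a))
    (hs.restrict hWW₀) (hr.restrict hWW₀) y'' hrel, ?_⟩
  apply PHom.ext_of_gens (hs.restrict hWW₀)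
  intro a
  show (c.ι.app k₀).val.app (op W) ((PHom.ofGens _ _ _ _ y'' hrel).app W le_rfl
    (res G hWW₀ (s a))) = φ.val.app (op W) (res G hWW₀ (s a))
  rw [PHom.ofGens_gen]
  show (c.ι.app k₀).val.app (op W)
    ((D.map (homOfLE hik₀)).val.app (op W) (res (D.obj i₀) hW (y' a))) = _
  rw [cocone_w_apply, cocone_ι_res, hy' a, res_res, hom_res]

end

theorem isFiniteType_of_isFinitePresentation (G : ModSite.Mod O)
    [SheafOfModules.IsFinitePresentation (R := ModSite.ringSh O) G] :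
    SheafOfModules.IsFiniteType (R := ModSite.ringSh O) G := by
  rw [isFiniteType_iff]
  intro x
  obtain ⟨U, hxU, n, s, m, r, hs, -, -⟩ := (isFinitePresentation_iff G).1 inferInstance x
  exact ⟨U, hxU, n, s, hs⟩

theorem hom_eq_of_local {G H : ModSite.Mod O} (φ φ' : G ⟶ H)
    (h : ∀ (V : Opens X) (t : G.val.obj (op V)) (z : X), z ∈ V →
      ∃ (W : Opens X) (hW : W ≤ V), z ∈ W ∧
        res H hW (φ.val.app (op V) t) = res H hW (φ'.val.app (op V) t)) : φ = φ' := by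
  apply SheafOfModules.hom_ext
  apply PresheafOfModules.hom_ext
  intro Y
  ext t
  exact eq_of_locally H _ _ (fun z hz => h Y.unop t z hz)

section Main

variable {I : Type u} [Preorder I] [Nonempty I] [IsDirected I (· ≤ ·)]

set_option maxHeartbeats 3200000 in
theorem preservesColimit_coyoneda_of_fp
    (hX : ∀ (ι : Type u) (V : ι → Opens X), iSup V = ⊤ →
      ∃ (J : Type u) (_ : Finite J) (U : J → Opens X), iSup U = ⊤ ∧ (∀ j, ∃ i, U j ≤ V i) ∧
        ∀ j j', IsCompact ((U j ⊓ U j' : Opens X) : Set X))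
    (D : I ⥤ ModSite.Mod O) (G : ModSite.Mod O)
    [SheafOfModules.IsFinitePresentation (R := ModSite.ringSh O) G] :
    PreservesColimit D (coyoneda.obj (Opposite.op G)) := by
  classical
  haveI := isFiniteType_of_isFinitePresentation G
  constructor
  intro c hc
  refine ⟨Types.FilteredColimit.isColimitOf' _ _ ?_ ?_⟩
  · -- surjectivity
    intro φ
    change G ⟶ c.pt at φ
    choose W hxW k ψ hψ using hom_local_lift (D := D) (c := c) hc φ
    have hWtop : iSup W = ⊤ := by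
      rw [eq_top_iff]
      intro x _
      exact Opens.mem_iSup.2 ⟨x, hxW x⟩
    obtain ⟨J, hJ, U, hUtop, href, hcompact⟩ := hX X W hWtop
    haveI := Fintype.ofFinite J
    choose xj hxj using href
    have hcov : ∀ x : X, ∃ j, x ∈ U j := by
      intro x
      have : x ∈ iSup U := by rw [hUtop]; trivial
      exact Opens.mem_iSup.1 this
    obtain ⟨k₀, hk₀⟩ := Finset.exists_le (Finset.univ.image (fun j => k (xj j)))
    have hkk₀ : ∀ j, k (xj j) ≤ k₀ := fun j =>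
      hk₀ _ (Finset.mem_image_of_mem (fun j => k (xj j)) (Finset.mem_univ j))
    let ψ₀ : ∀ j, PHom G (D.obj k₀) (U j) := fun j =>
      ((ψ (xj j)).restrict (hxj j)).comp (D.map (homOfLE (hkk₀ j)))
    have hψ₀ : ∀ j, (ψ₀ j).comp (c.ι.app k₀) = PHom.ofHom φ (U j) := by
      intro j
      ext V hV t
      have h1 := congrArg (fun ψ => ψ.app V (hV.trans (hxj j)) t) (hψ (xj j))
      show (c.ι.app k₀).val.app (op V) ((D.map (homOfLE (hkk₀ j))).val.app (op V)
        ((ψ (xj j)).app V _ t)) = φ.val.app (op V) t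
      rw [cocone_w_apply]
      exact h1
    have hpair : ∀ p : J × J, ∃ (k : I) (hik : k₀ ≤ k),
        ((ψ₀ p.1).restrict (inf_le_left : U p.1 ⊓ U p.2 ≤ U p.1)).comp (D.map (homOfLE hik)) =
        ((ψ₀ p.2).restrict (inf_le_right : U p.1 ⊓ U p.2 ≤ U p.2)).comp
          (D.map (homOfLE hik)) := by
      intro p
      apply hom_inj_of_compact hc (hcompact p.1 p.2)
      ext V hV t
      have h1 := congrArg (fun ψ => ψ.app V (hV.trans inf_le_left) t) (hψ₀ p.1)
      have h2 := congrArg (fun ψ => ψ.app V (hV.trans inf_le_right) t) (hψ₀ p.2)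
      exact h1.trans h2.symm
    choose kp hkp hpair using hpair
    obtain ⟨k₁, hk₁⟩ := Finset.exists_le (insert k₀ (Finset.univ.image kp))
    have hk₀₁ : k₀ ≤ k₁ := hk₁ k₀ (Finset.mem_insert_self _ _)
    have hkp₁ : ∀ p, kp p ≤ k₁ := fun p =>
      hk₁ (kp p) (Finset.mem_insert_of_mem (Finset.mem_image_of_mem kp (Finset.mem_univ p)))
    let ψ₁ : ∀ j, PHom G (D.obj k₁) (U j) := fun j => (ψ₀ j).comp (D.map (homOfLE hk₀₁))
    have hcompat : ∀ j j', (ψ₁ j).restrict (inf_le_left : U j ⊓ U j' ≤ U j) =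
        (ψ₁ j').restrict (inf_le_right : U j ⊓ U j' ≤ U j') := by
      intro j j'
      ext V hV t
      have h1 := congrArg (fun ψ => ψ.app V hV t) (hpair (j, j'))
      show (D.map (homOfLE hk₀₁)).val.app (op V) ((ψ₀ j).app V _ t) =
        (D.map (homOfLE hk₀₁)).val.app (op V) ((ψ₀ j').app V _ t)
      rw [← tr_tr (hkp (j, j')) (hkp₁ (j, j')), ← tr_tr (hkp (j, j')) (hkp₁ (j, j'))]
      exact congrArg (fun v => (D.map (homOfLE (hkp₁ (j, j')))).val.app (op V) v) h1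
    refine ⟨k₁, (PHom.glue U hcov ψ₁ hcompat).toHom, ?_⟩
    show φ = (PHom.glue U hcov ψ₁ hcompat).toHom ≫ c.ι.app k₁
    apply hom_eq_of_local
    intro V t z hz
    obtain ⟨j, hj⟩ := hcov z
    have hVW : V ⊓ U j ≤ V := inf_le_left
    have hVU : V ⊓ U j ≤ U j := inf_le_right
    refine ⟨V ⊓ U j, hVW, ⟨hz, hj⟩, ?_⟩
    have h3 : ((PHom.glue U hcov ψ₁ hcompat).toHom ≫ c.ι.app k₁).val.app (op V) t =
        (c.ι.app k₁).val.app (op V) ((PHom.glue U hcov ψ₁ hcompat).app V le_top t) := rfl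
    rw [h3, ← cocone_ι_res, ← (PHom.glue U hcov ψ₁ hcompat).nat V (V ⊓ U j) le_top hVW t]
    have h4 := congrArg (fun ψ => ψ.app (V ⊓ U j) hVU (res G hVW t))
      (PHom.glue_restrict U hcov ψ₁ hcompat j)
    have h5 : (PHom.glue U hcov ψ₁ hcompat).app (V ⊓ U j) (hVW.trans le_top) (res G hVW t) =
        (ψ₁ j).app (V ⊓ U j) hVU (res G hVW t) := h4
    rw [h5]
    show _ = (c.ι.app k₁).val.app (op (V ⊓ U j)) ((D.map (homOfLE hk₀₁)).val.app (op (V ⊓ U j))
      ((ψ₀ j).app (V ⊓ U j) hVU (res G hVW t)))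
    rw [cocone_w_apply, ← hom_res]
    have h6 := congrArg (fun ψ => ψ.app (V ⊓ U j) hVU (res G hVW t)) (hψ₀ j)
    exact h6.symm
  · -- injectivity
    intro i ψ ψ' he
    change G ⟶ D.obj i at ψ ψ'
    have he' : ψ ≫ c.ι.app i = ψ' ≫ c.ι.app i := he
    obtain ⟨J, hJ, U, hUtop, -, hcompact⟩ := hX PUnit.{u+1} (fun _ => ⊤) (by simp)
    haveI := Fintype.ofFinite J
    have hcov : ∀ x : X, ∃ j, x ∈ U j := by
      intro x
      have : x ∈ iSup U := by rw [hUtop]; trivial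
      exact Opens.mem_iSup.1 this
    have hj : ∀ j, ∃ (k : I) (hik : i ≤ k),
        (PHom.ofHom ψ (U j)).comp (D.map (homOfLE hik)) =
          (PHom.ofHom ψ' (U j)).comp (D.map (homOfLE hik)) := by
      intro j
      have hc' : IsCompact ((U j : Opens X) : Set X) := by
        have := hcompact j j
        rwa [inf_idem] at this
      apply hom_inj_of_compact hc hc'
      ext V hV t
      exact congrArg (fun ψ => ψ.val.app (op V) t) he'
    choose kj hkj hj using hj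
    obtain ⟨k₀, hk₀⟩ := Finset.exists_le (insert i (Finset.univ.image kj))
    have hik₀ : i ≤ k₀ := hk₀ i (Finset.mem_insert_self _ _)
    have hkk₀ : ∀ j, kj j ≤ k₀ := fun j =>
      hk₀ (kj j) (Finset.mem_insert_of_mem (Finset.mem_image_of_mem kj (Finset.mem_univ j)))
    refine ⟨k₀, homOfLE hik₀, ?_⟩
    show ψ ≫ D.map (homOfLE hik₀) = ψ' ≫ D.map (homOfLE hik₀)
    apply hom_eq_of_local
    intro V t z hz
    obtain ⟨j, hzj⟩ := hcov z
    have hVW : V ⊓ U j ≤ V := inf_le_left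
    have hVU : V ⊓ U j ≤ U j := inf_le_right
    refine ⟨V ⊓ U j, hVW, ⟨hz, hzj⟩, ?_⟩
    show res (D.obj k₀) hVW ((D.map (homOfLE hik₀)).val.app (op V) (ψ.val.app (op V) t)) =
      res (D.obj k₀) hVW ((D.map (homOfLE hik₀)).val.app (op V) (ψ'.val.app (op V) t))
    rw [← hom_res, ← hom_res, ← hom_res, ← hom_res, ← tr_tr (hkj j) (hkk₀ j),
      ← tr_tr (hkj j) (hkk₀ j)]
    have h1 := congrArg (fun ψ => ψ.app (V ⊓ U j) hVU (res G hVW t)) (hj j)
    exact congrArg (fun v => (D.map (homOfLE (hkk₀ j))).val.app (op (V ⊓ U j)) v) h1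

end Main

end Groth.Agent.Lib.Helper2.RSMod
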