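import Groth.Agent.Lib.Helper2.RSMod.PushClosed
import Groth.Agent.Lib.Helper2.RSMod.HomColim

/-!
# Direct image along a closed immersion of ringed spaces: exactness, full faithfulness
-/

set_option autoImplicit false
universe u
open CategoryTheory CategoryTheory.Limits Opposite TopologicalSpace

namespace Groth.Agent.Lib.Helper2.RSMod

section

variable {Z X : TopCat.{u}} {i : Z ⟶ X}
    {O_Z : TopCat.Sheaf CommRingCat.{u} Z} {O_X : TopCat.Sheaf CommRingCat.{u} X}
    (c : O_X ⟶ ((TopologicalSpace.Opens.map i).sheafPushforwardContinuous CommRingCat.{u}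
      (Opens.grothendieckTopology X) (Opens.grothendieckTopology Z)).obj O_Z)

variable (i) in
/-- the direct image functor -/
noncomputable abbrev pushF : ModSite.Mod O_Z ⥤ ModSite.Mod O_X :=
  (ModSite.RMor.ofFlat (TopologicalSpace.Opens.map i) c).push

lemma pushF_map_apply {F F' : ModSite.Mod O_Z} (φ : F ⟶ F') (V : Opens X)
    (t : (pushObj i c F).val.obj (op V)) :
    toF i c F' (((pushF i c).map φ).val.app (op V) t) =
      φ.val.app (op (pre i V)) (toF i c F t) := rfl

section Til

variable (hi : Topology.IsClosedEmbedding i)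

/-- the largest open of `X` with a given preimage -/
def til (U : Opens Z) : Opens X :=
  ⟨(i '' ((U : Set Z)ᶜ))ᶜ, (hi.isClosedMap _ U.isOpen.isClosed_compl).isOpen_compl⟩

lemma pre_til_le (U : Opens Z) : pre i (til hi U) ≤ U := by
  intro z hz
  by_contra hzU
  exact hz ⟨z, hzU, rfl⟩

lemma le_pre_til (U : Opens Z) : U ≤ pre i (til hi U) := by
  rintro z hz ⟨z', hz', e⟩
  have : z' = z := hi.injective e
  exact hz' (this ▸ hz)

lemma le_til_pre (V : Opens X) : V ≤ til hi (pre i V) := by
  rintro x hx ⟨z, hz, rfl⟩
  exact hz hx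

lemma til_mono {U U' : Opens Z} (h : U ≤ U') : til hi U ≤ til hi U' := by
  rintro x hx ⟨z, hz, rfl⟩
  exact hx ⟨z, fun hzU => hz (h hzU), rfl⟩

end Til

section Exact

variable (hi : Topology.IsClosedEmbedding i)

include hi in
theorem pushF_map_epi {F F' : ModSite.Mod O_Z} (φ : F ⟶ F') [Epi φ] :
    Epi ((pushF i c).map φ) := by
  apply epi_of_pointwise_lift
  intro V t y hy
  by_cases hyr : y ∈ Set.range i
  · obtain ⟨z, rfl⟩ := hyr
    obtain ⟨WZ, hWZ, hzW, g, hg⟩ := exists_lift_nbhd φ (toF i c F' t) z hy
    obtain ⟨W, hWV, hyW, hWpre⟩ := exists_open_pre hi WZ z hzW V hy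
    refine ⟨W, hWV, hyW, ofF i c F (res F hWpre g), ?_⟩
    apply toF_injective i c F'
    rw [pushF_map_apply, toF_ofF, hom_res, hg, res_res, toF_res]
  · have hyc : y ∈ complRange hi := hyr
    refine ⟨V ⊓ complRange hi, inf_le_left, ⟨hy, hyc⟩, 0, ?_⟩
    apply toF_injective i c F'
    rw [pushF_map_apply]
    have h0 : toF i c F (0 : (pushObj i c F).val.obj (op (V ⊓ complRange hi))) = 0 := rfl
    rw [h0, hom_zero]
    exact (eq_zero_of_empty F' _ (pre_complRange hi _ inf_le_right)).symm

include hi in
theorem pushF_preservesFiniteColimits : PreservesFiniteColimits (pushF i c) := by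
  rw [Functor.preservesFiniteColimits_iff_forall_exact_map_and_epi]
  intro S hS
  haveI := hS.mono_f
  haveI := hS.epi_g
  refine ⟨hS.exact.map_of_mono_of_preservesKernel (pushF i c) inferInstance inferInstance, ?_⟩
  exact pushF_map_epi c hi S.g

end Exact

section FullFaithful

variable (hi : Topology.IsClosedEmbedding i) {F F' : ModSite.Mod O_Z}

include hi in
theorem pushF_faithful : (pushF i c).Faithful := by
  constructor
  intro F F' φ φ' h
  apply hom_eq_of_local
  intro UZ t z hz
  obtain ⟨V, -, hzV, hVU⟩ := exists_open_pre hi UZ z hz ⊤ trivial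
  refine ⟨pre i V, hVU, hzV, ?_⟩
  rw [← hom_res, ← hom_res]
  have h1 := congrArg (fun ψ => toF i c F' (ψ.val.app (op V) (ofF i c F (res F hVU t)))) h
  exact h1

/-- the map on sections over an arbitrary open of `Z` induced by a morphism of direct images -/
noncomputable def fullApp (ψ : pushObj i c F ⟶ pushObj i c F') (U : Opens Z)
    (t : F.val.obj (op U)) : F'.val.obj (op U) :=
  res F' (le_pre_til hi U)
    (toF i c F' (ψ.val.app (op (til hi U)) (ofF i c F (res F (pre_til_le hi U) t))))

lemma fullApp_pre (ψ : pushObj i c F ⟶ pushObj i c F') (V : Opens X)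
    (t : (pushObj i c F).val.obj (op V)) :
    fullApp c hi ψ (pre i V) (toF i c F t) = toF i c F' (ψ.val.app (op V) t) := by
  unfold fullApp
  have hV : V ≤ til hi (pre i V) := le_til_pre hi V
  have h1 : ψ.val.app (op V) t = res (pushObj i c F') hV
      (ψ.val.app (op (til hi (pre i V))) (ofF i c F (res F (pre_til_le hi (pre i V)) (toF i c F t)))) := by
    rw [← hom_res]
    congr 1
    apply toF_injective i c F
    rw [toF_res, toF_ofF, res_res, res_self]
  rw [h1, toF_res]

lemma fullApp_res (ψ : pushObj i c F ⟶ pushObj i c F') {U U' : Opens Z} (h : U' ≤ U)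
    (t : F.val.obj (op U)) :
    fullApp c hi ψ U' (res F h t) = res F' h (fullApp c hi ψ U t) := by
  unfold fullApp
  have hT : til hi U' ≤ til hi U := til_mono hi h
  have h1 : ofF i c F (res F (pre_til_le hi U') (res F h t)) =
      res (pushObj i c F) hT (ofF i c F (res F (pre_til_le hi U) t)) := by
    apply toF_injective i c F
    rw [toF_res, toF_ofF, toF_ofF, res_res, res_res]
  rw [h1, hom_res, toF_res, res_res, res_res]

/-- the partial morphism underlying a preimage under the direct image functor -/
noncomputable def fullPHom (hc : Sheaf.IsLocallySurjective c)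
    (ψ : pushObj i c F ⟶ pushObj i c F') : PHom F F' ⊤ where
  app U _ t := fullApp c hi ψ U t
  map_add U _ t t' := by
    unfold fullApp
    rw [res_add]
    have h1 : ofF i c F (res F (pre_til_le hi U) t + res F (pre_til_le hi U) t') =
        ofF i c F (res F (pre_til_le hi U) t) + ofF i c F (res F (pre_til_le hi U) t') := rfl
    rw [h1, hom_add, toF_add, res_add]
  map_smul U _ a t := by
    apply eq_of_locally
    intro z hz
    obtain ⟨W, hW, hzW, b, hb⟩ := cmap_locally_surjective i c hc
      (rres O_Z (pre_til_le hi U) a) (i z) (le_pre_til hi U hz)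
    have hWU : pre i W ≤ U := (pre_mono i hW).trans (pre_til_le hi U)
    refine ⟨pre i W, hWU, hzW, ?_⟩
    rw [← fullApp_res, res_smul, res_smul, ← fullApp_res]
    have hab : rres O_Z hWU a = cmap i c W b := by
      rw [hb, rres_rres]
    rw [hab]
    have h2 : cmap i c W b • res F hWU t = toF i c F (b • ofF i c F (res F hWU t)) := rfl
    rw [h2, fullApp_pre, hom_smul, toF_smul, ← fullApp_pre, toF_ofF]
  nat U U' _ h t := fullApp_res c hi ψ h t

include hi in
theorem pushF_full (hc : Sheaf.IsLocallySurjective c) : (pushF i c).Full := by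
  constructor
  intro F F' ψ
  refine ⟨(fullPHom c hi hc ψ).toHom, ?_⟩
  apply SheafOfModules.hom_ext
  apply PresheafOfModules.hom_ext
  intro Y
  ext t
  apply toF_injective i c F'
  exact fullApp_pre c hi ψ Y.unop t

end FullFaithful

end

end Groth.Agent.Lib.Helper2.RSMod
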