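import Groth.Agent.Lib.Helper2.RSMod.Stalk

/-!
# A finitely presented module with free stalk is free near the point
-/

set_option autoImplicit false
universe u
open CategoryTheory CategoryTheory.Limits Opposite TopologicalSpace

namespace Groth.Agent.Lib.Helper2.RSMod

variable {X : TopCat.{u}} {O : TopCat.Sheaf CommRingCat.{u} X}

section RingGerm

variable (O) (x : X)

/-- the germ at `x` of a function -/
noncomputable def gmR {U : Opens X} (hx : x ∈ U) :
    (ModSite.ringSh O).obj.obj (op U) →+* ModSite.stalkRing (pt x) O :=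
  ((pt x).toPresheafFiber U ⟨⟨hx⟩⟩ O.obj).hom

variable {O}

lemma gmR_rres {U W : Opens X} (h : W ≤ U) (hx : x ∈ W) (a : (ModSite.ringSh O).obj.obj (op U)) :
    gmR O x hx (rres O h a) = gmR O x (h hx) a :=
  (pt x).toPresheafFiber_w_apply (homOfLE h) ⟨⟨hx⟩⟩ O.obj a

lemma gmR_surj (r : ModSite.stalkRing (pt x) O) :
    ∃ (U : Opens X) (hx : x ∈ U) (a : (ModSite.ringSh O).obj.obj (op U)), gmR O x hx a = r := by
  obtain ⟨U, ⟨⟨hx⟩⟩, a, ha⟩ :=
    (pt x).toPresheafFiber_jointly_surjective (P := O.obj) r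
  exact ⟨U, hx, a, ha⟩

lemma gmR_eq_iff {U : Opens X} (hx : x ∈ U) (a b : (ModSite.ringSh O).obj.obj (op U)) :
    gmR O x hx a = gmR O x hx b ↔
      ∃ (W : Opens X) (h : W ≤ U), x ∈ W ∧ rres O h a = rres O h b := by
  refine ((pt x).toPresheafFiber_eq_iff' (P := O.obj) U ⟨⟨hx⟩⟩ a b).trans ?_
  constructor
  · rintro ⟨W, f, ⟨⟨hxW⟩⟩, -, h⟩
    exact ⟨W, leOfHom f, hxW, h⟩
  · rintro ⟨W, h, hxW, h'⟩
    exact ⟨W, homOfLE h, ⟨⟨hxW⟩⟩, rfl, h'⟩

lemma gm_smul {F : ModSite.Mod O} {U : Opens X} (hx : x ∈ U)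
    (a : (ModSite.ringSh O).obj.obj (op U)) (s : F.val.obj (op U)) :
    gm F x hx (a • s) = gmR O x hx a • gm F x hx s :=
  ModSite.germ_smul (pt x) F U ⟨⟨hx⟩⟩ a s

/-- functions which agree locally agree -/
theorem ring_eq_of_locally {V : Opens X} (a b : (ModSite.ringSh O).obj.obj (op V))
    (h : ∀ z ∈ V, ∃ (W : Opens X) (hW : W ≤ V), z ∈ W ∧ rres O hW a = rres O hW b) : a = b := by
  have hsh : Presieve.IsSheaf (Opens.grothendieckTopology X)
      (O.obj ⋙ forget CommRingCat.{u}) :=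
    (isSheaf_iff_isSheaf_of_type _ _).1
      ((Presheaf.isSheaf_iff_isSheaf_forget _ O.obj (forget CommRingCat.{u})).1 O.property)
  let S : Sieve V :=
    { arrows := fun W f => rres O (leOfHom f) a = rres O (leOfHom f) b
      downward_closed := by
        intro W W' f hf k
        have h1 : ∀ c, rres O (leOfHom (k ≫ f)) c = rres O (leOfHom k) (rres O (leOfHom f) c) :=
          fun c => (rres_rres _ _ _).symm
        rw [h1, h1, hf] }
  have hS : S ∈ Opens.grothendieckTopology X V := by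
    intro z hz
    obtain ⟨W, hW, hzW, h0⟩ := h z hz
    exact ⟨W, homOfLE hW, h0, hzW⟩
  refine (hsh.isSeparated S hS).ext (t₁ := a) (t₂ := b) ?_
  intro W f hf
  exact hf

end RingGerm

section IsoOfGen

variable (F : ModSite.Mod O) (U : Opens X)

theorem iso_of_pGen_indep {I : Type u} [Fintype I] [DecidableEq I] (s : I → F.val.obj (op U))
    (hgen : PGen F U s)
    (hind : ∀ (V : Opens X) (hV : V ≤ U) (a : I → (ModSite.ringSh O).obj.obj (op V)),
      ∑ i, a i • res F hV (s i) = 0 → ∀ i, a i = 0) :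
    Nonempty ((ModSite.restr O U).obj F ≅ SheafOfModules.free I) := by
  let π := freeDesc (tY U) (tY_comp U) (F.over U) s
  have hg : gens F U π = s := gens_freeDesc F U s
  haveI : Epi π := by
    apply epi_of_locGen
    rw [hg]
    exact locGen_of_pGen hgen
  haveI : Mono π := by
    apply mono_of_injective
    intro Y
    rw [injective_iff_map_eq_zero]
    intro y hy
    have h1 := hom_eq_sum π (op Y) y
    rw [hy] at h1
    have h2 : ∑ i, (show (ModSite.ringSh O).obj.obj (op Y.left) from coords (op Y) y i) •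
        res F (leOfHom Y.hom) (s i) = 0 := by
      refine Eq.trans ?_ h1.symm
      refine Finset.sum_congr rfl (fun i _ => ?_)
      rw [app_basisSec_over, hg]
      rfl
    have h3 := hind Y.left (leOfHom Y.hom) _ h2
    rw [eq_sum_coords (op Y) y]
    refine Finset.sum_eq_zero (fun i _ => ?_)
    have h4 : coords (op Y) y i = 0 := h3 i
    rw [h4, zero_smul]
  haveI : IsIso π := isIso_of_mono_of_epi π
  exact ⟨(asIso π).symm⟩

theorem iso_of_pGen_indep_fin {r : ℕ} (s : Fin r → F.val.obj (op U))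
    (hgen : PGen F U s)
    (hind : ∀ (V : Opens X) (hV : V ≤ U) (a : Fin r → (ModSite.ringSh O).obj.obj (op V)),
      ∑ i, a i • res F hV (s i) = 0 → ∀ i, a i = 0) :
    Nonempty ((ModSite.restr O U).obj F ≅ SheafOfModules.free (ULift.{u} (Fin r))) := by
  classical
  refine iso_of_pGen_indep F U (fun i : ULift.{u} (Fin r) => s i.down)
    (hgen.reindex (Equiv.ulift.{u, 0}.symm)) ?_
  intro V hV a ha i
  have h1 : ∑ k : Fin r, a ⟨k⟩ • res F hV (s k) = 0 := by
    rw [← ha]
    exact Fintype.sum_equiv (Equiv.ulift.{u, 0}.symm) _ _ (fun k => rfl)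
  exact hind V hV (fun k => a ⟨k⟩) h1 i.down

end IsoOfGen

section Main

variable (F : ModSite.Mod O) (x : X)

/-- a germ identity `t_x = ∑ c_k (s_k)_x` spreads out to a neighbourhood -/
theorem exists_coeffs_of_germ {r : ℕ} {U' U₀ : Opens X} (hx' : x ∈ U') (hx₀ : x ∈ U₀)
    (t : F.val.obj (op U')) (s : Fin r → F.val.obj (op U₀))
    (c : Fin r → ModSite.stalkRing (pt x) O)
    (h : gm F x hx' t = ∑ k, c k • gm F x hx₀ (s k)) :
    ∃ (W : Opens X) (hW' : W ≤ U') (hW₀ : W ≤ U₀), x ∈ W ∧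
      ∃ α : Fin r → (ModSite.ringSh O).obj.obj (op W),
        res F hW' t = ∑ k, α k • res F hW₀ (s k) := by
  obtain ⟨W₁, hW₁, hxW₁, hα⟩ := exists_common_nbhd (ι := Fin r) x (U' ⊓ U₀) ⟨hx', hx₀⟩
    (fun k W => ∀ hxW : x ∈ W, ∃ α : (ModSite.ringSh O).obj.obj (op W), gmR O x hxW α = c k)
    (by
      intro k W W' hWW' h hxW'
      obtain ⟨α, hα⟩ := h (hWW' hxW')
      exact ⟨rres O hWW' α, by rw [gmR_rres]; exact hα⟩)
    (fun k => by
      obtain ⟨U, hxU, α, hα⟩ := gmR_surj x (c k)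
      refine ⟨U ⊓ (U' ⊓ U₀), inf_le_right, ⟨hxU, hx', hx₀⟩, fun hxW => ?_⟩
      exact ⟨rres O inf_le_left α, by rw [gmR_rres]; exact hα⟩)
  choose α hα using fun k => hα k hxW₁
  have hW₁' : W₁ ≤ U' := hW₁.trans inf_le_left
  have hW₁₀ : W₁ ≤ U₀ := hW₁.trans inf_le_right
  have h1 : gm F x hxW₁ (res F hW₁' t) =
      gm F x hxW₁ (∑ k, α k • res F hW₁₀ (s k)) := by
    rw [gm_res, h, gm_sum]
    refine Finset.sum_congr rfl (fun k _ => ?_)
    rw [gm_smul, hα, gm_res]
  obtain ⟨W, hW, hxW, h2⟩ := (gm_eq_iff x hxW₁ _ _).1 h1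
  refine ⟨W, hW.trans hW₁', hW.trans hW₁₀, hxW, fun k => rres O hW (α k), ?_⟩
  rw [res_res] at h2
  rw [h2, res_sum]
  refine Finset.sum_congr rfl (fun k _ => ?_)
  rw [res_smul, res_res]

set_option maxHeartbeats 6400000 in
theorem free_nbhd_of_free_stalk
    [SheafOfModules.IsFinitePresentation (R := ModSite.ringSh O) F] (r : ℕ)
    (hx : Nonempty (ModSite.stalkMod (Opens.pointGrothendieckTopology x) F
      ≃ₗ[ModSite.stalkRing (Opens.pointGrothendieckTopology x) O]
        (Fin r → ModSite.stalkRing (Opens.pointGrothendieckTopology x) O))) :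
    ∃ U : Opens X, x ∈ U ∧
      Nonempty ((ModSite.restr O U).obj F ≅ SheafOfModules.free (ULift.{u} (Fin r))) := by
  classical
  obtain ⟨e⟩ := hx
  -- the basis of the stalk
  let m : Fin r → ModSite.stalkAb (pt x) F := fun k => e.symm (Pi.single k 1)
  have hem : ∀ k, e (m k) = Pi.single k 1 := fun k => e.apply_symm_apply _
  have hL1 : ∀ v : ModSite.stalkAb (pt x) F, v = ∑ k, (e v) k • m k := by
    intro v
    apply e.injective
    rw [map_sum]
    funext j
    rw [Finset.sum_apply]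
    have h1 : ∀ k, (e ((e v) k • m k)) j = if j = k then (e v) k else 0 := by
      intro k
      rw [map_smul, hem, Pi.smul_apply, Pi.single_apply, smul_eq_mul, mul_ite, mul_one, mul_zero]
    rw [Finset.sum_congr rfl (fun k _ => h1 k), Finset.sum_ite_eq, if_pos (Finset.mem_univ j)]
  have hL2 : ∀ c : Fin r → ModSite.stalkRing (pt x) O, ∑ k, c k • m k = 0 → ∀ k, c k = 0 := by
    intro c hc j
    have h1 := congrArg e hc
    rw [map_sum, map_zero] at h1
    have h2 := congrFun h1 j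
    rw [Finset.sum_apply] at h2
    have h3 : ∀ k, (e (c k • m k)) j = if j = k then c k else 0 := by
      intro k
      rw [map_smul, hem, Pi.smul_apply, Pi.single_apply, smul_eq_mul, mul_ite, mul_one, mul_zero]
    rw [Finset.sum_congr rfl (fun k _ => h3 k), Finset.sum_ite_eq, if_pos (Finset.mem_univ j)] at h2
    exact h2
  -- sections with these germs
  obtain ⟨U₀, -, hxU₀, hs⟩ := exists_common_nbhd (ι := Fin r) x ⊤ trivial
    (fun k W => ∀ hxW : x ∈ W, ∃ s : F.val.obj (op W), gm F x hxW s = m k)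
    (by
      intro k W W' hWW' h hxW'
      obtain ⟨s, hs⟩ := h (hWW' hxW')
      exact ⟨res F hWW' s, by rw [gm_res]; exact hs⟩)
    (fun k => by
      obtain ⟨U, hxU, s, hs⟩ := gm_surj x (m k)
      exact ⟨U, le_top, hxU, fun hxW => ⟨s, hs⟩⟩)
  choose s hs using fun k => hs k hxU₀
  -- the presentation of `F`
  obtain ⟨U₁, hxU₁, n, t, mm, rr, ht, hrr0, hrr⟩ := (isFinitePresentation_iff F).1 inferInstance x
  -- `s` in terms of `t`
  obtain ⟨WB, hWB, hxWB, hB⟩ := exists_common_nbhd (ι := Fin r) x (U₀ ⊓ U₁) ⟨hxU₀, hxU₁⟩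
    (fun k W => ∃ (hW0 : W ≤ U₀) (hW1 : W ≤ U₁) (b : Fin n → (ModSite.ringSh O).obj.obj (op W)),
      res F hW0 (s k) = ∑ j, b j • res F hW1 (t j))
    (by
      rintro k W W' hWW' ⟨hW0, hW1, b, hb⟩
      refine ⟨hWW'.trans hW0, hWW'.trans hW1, fun j => rres O hWW' (b j), ?_⟩
      have h1 : res F (hWW'.trans hW0) (s k) = res F hWW' (res F hW0 (s k)) := (res_res _ _ _).symm
      rw [h1, hb, res_sum]
      refine Finset.sum_congr rfl (fun j _ => ?_)
      rw [res_smul, res_res])
    (fun k => by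
      obtain ⟨W, hW, hxW, b, hb⟩ := ht (U₀ ⊓ U₁) inf_le_right (res F inf_le_left (s k)) x
        ⟨hxU₀, hxU₁⟩
      refine ⟨W, hW, hxW, hW.trans inf_le_left, hW.trans inf_le_right, b, ?_⟩
      rw [← hb, res_res])
  -- `t` in terms of `s`
  obtain ⟨U₂, hU₂, hxU₂, hA⟩ := exists_common_nbhd (ι := Fin n) x WB hxWB
    (fun j W => ∃ (hW0 : W ≤ U₀) (hW1 : W ≤ U₁) (a : Fin r → (ModSite.ringSh O).obj.obj (op W)),
      res F hW1 (t j) = ∑ k, a k • res F hW0 (s k))
    (by
      rintro j W W' hWW' ⟨hW0, hW1, a, ha⟩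
      refine ⟨hWW'.trans hW0, hWW'.trans hW1, fun k => rres O hWW' (a k), ?_⟩
      have h1 : res F (hWW'.trans hW1) (t j) = res F hWW' (res F hW1 (t j)) := (res_res _ _ _).symm
      rw [h1, ha, res_sum]
      refine Finset.sum_congr rfl (fun k _ => ?_)
      rw [res_smul, res_res])
    (fun j => by
      have h1 : gm F x hxU₁ (t j) = ∑ k, (e (gm F x hxU₁ (t j))) k • gm F x hxU₀ (s k) := by
        rw [Finset.sum_congr rfl (fun k _ => by rw [hs k])]
        exact hL1 _
      obtain ⟨W, hW', hW₀, hxW, α, hα⟩ := exists_coeffs_of_germ F x hxU₁ hxU₀ (t j) s _ h1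
      refine ⟨W ⊓ WB, inf_le_right, ⟨hxW, hxWB⟩, inf_le_left.trans hW₀, inf_le_left.trans hW',
        fun k => rres O inf_le_left (α k), ?_⟩
      have h2 : res F (inf_le_left.trans hW') (t j) =
          res F (inf_le_left : W ⊓ WB ≤ W) (res F hW' (t j)) := (res_res _ _ _).symm
      rw [h2, hα, res_sum]
      refine Finset.sum_congr rfl (fun k _ => ?_)
      rw [res_smul, res_res])
  choose hWB0 hWB1 B₀ hB₀ using hB
  choose hU₂0' hU₂1' A hA using hA
  have hU₂0 : U₂ ≤ U₀ := hU₂.trans (hWB.trans inf_le_left)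
  have hU₂1 : U₂ ≤ U₁ := hU₂.trans (hWB.trans inf_le_right)
  obtain ⟨B, hB⟩ : ∃ B : Fin r → Fin n → (ModSite.ringSh O).obj.obj (op U₂),
      ∀ k, res F hU₂0 (s k) = ∑ j, B k j • res F hU₂1 (t j) := by
    refine ⟨fun k j => rres O hU₂ (B₀ k j), ?_⟩
    intro k
    have h1 : res F hU₂0 (s k) = res F hU₂ (res F (hWB0 k) (s k)) := (res_res _ _ _).symm
    rw [h1, hB₀, res_sum]
    refine Finset.sum_congr rfl (fun j _ => ?_)
    rw [res_smul, res_res]
  -- the relation vectors
  let ρ : Fin r ⊕ Fin mm → Fin r → (ModSite.ringSh O).obj.obj (op U₂) :=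
    Sum.elim (fun l k => (if l = k then 1 else 0) - ∑ j, B l j * A j k)
      (fun i k => ∑ j, rres O hU₂1 (rr i j) * A j k)
  have hsumA : ∀ (a : Fin n → (ModSite.ringSh O).obj.obj (op U₂)),
      ∑ k, (∑ j, a j * A j k) • res F hU₂0 (s k) = ∑ j, a j • res F hU₂1 (t j) := by
    intro a
    simp only [Finset.sum_smul, mul_smul]
    rw [Finset.sum_comm]
    refine Finset.sum_congr rfl (fun j _ => ?_)
    rw [hA j, Finset.smul_sum]
  have hρ : ∀ idx, ∑ k, ρ idx k • res F hU₂0 (s k) = 0 := by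
    rintro (l | i)
    · show ∑ k, ((if l = k then 1 else 0) - ∑ j, B l j * A j k) • res F hU₂0 (s k) = 0
      simp only [sub_smul]
      rw [Finset.sum_sub_distrib, hsumA, ← hB l]
      simp only [ite_smul, one_smul, zero_smul, Finset.sum_ite_eq, Finset.mem_univ, if_true]
      exact sub_self _
    · show ∑ k, (∑ j, rres O hU₂1 (rr i j) * A j k) • res F hU₂0 (s k) = 0
      rw [hsumA]
      have h1 : ∀ j, rres O hU₂1 (rr i j) • res F hU₂1 (t j) = res F hU₂1 (rr i j • t j) :=
        fun j => (res_smul _ _ _).symm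
      rw [Finset.sum_congr rfl (fun j _ => h1 j), ← res_sum, hrr0 i, res_zero]
  -- their germs vanish
  have hρx : ∀ idx k, gmR O x hxU₂ (ρ idx k) = 0 := by
    intro idx
    apply hL2
    have h1 := congrArg (gm F x hxU₂) (hρ idx)
    rw [gm_sum, gm_zero] at h1
    rw [← h1]
    refine Finset.sum_congr rfl (fun k _ => ?_)
    rw [gm_smul, gm_res, hs]
  obtain ⟨U, hU, hxU, hρ0⟩ := exists_common_nbhd (ι := (Fin r ⊕ Fin mm) × Fin r) x U₂ hxU₂
    (fun p W => ∃ hW : W ≤ U₂, rres O hW (ρ p.1 p.2) = 0)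
    (by
      rintro p W W' hWW' ⟨hW, h0⟩
      refine ⟨hWW'.trans hW, ?_⟩
      rw [← rres_rres hW hWW', h0, map_zero])
    (fun p => by
      have h1 : gmR O x hxU₂ (ρ p.1 p.2) = gmR O x hxU₂ 0 := by
        rw [hρx, map_zero]
      obtain ⟨W, hW, hxW, h2⟩ := (gmR_eq_iff x hxU₂ _ _).1 h1
      refine ⟨W, hW, hxW, hW, ?_⟩
      rw [h2, map_zero])
  have hρ0' : ∀ (W : Opens X) (hW : W ≤ U) idx k, rres O (hW.trans hU) (ρ idx k) = 0 := by
    intro W hW idx k
    obtain ⟨hU', h0⟩ := hρ0 (idx, k)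
    rw [← rres_rres hU' hW, h0, map_zero]
  have hU0 : U ≤ U₀ := hU.trans hU₂0
  have hU1 : U ≤ U₁ := hU.trans hU₂1
  refine ⟨U, hxU, iso_of_pGen_indep_fin F U (fun k => res F hU0 (s k)) ?_ ?_⟩
  · -- generation
    intro V hV t' z hz
    obtain ⟨W', hW', hzW', a, ha⟩ := ht V (hV.trans hU1) t' z hz
    refine ⟨W', hW', hzW', fun k => ∑ j, a j * rres O (hW'.trans (hV.trans hU)) (A j k), ?_⟩
    rw [ha]
    simp only [Finset.sum_smul, mul_smul]
    rw [Finset.sum_comm]
    refine Finset.sum_congr rfl (fun j _ => ?_)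
    have h1 : res F (hW'.trans (hV.trans hU1)) (t j) =
        res F (hW'.trans (hV.trans hU)) (res F hU₂1 (t j)) := (res_res _ _ _).symm
    rw [h1, hA j, res_sum, Finset.smul_sum]
    refine Finset.sum_congr rfl (fun k _ => ?_)
    rw [res_smul, res_res, res_res]
  · -- independence
    intro V hV c hc k'
    apply ring_eq_of_locally
    intro z hz
    have hVU₂ : V ≤ U₂ := hV.trans hU
    have h1 : ∑ j, (∑ k, c k * rres O hVU₂ (B k j)) • res F (hV.trans hU1) (t j) = 0 := by
      rw [← hc]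
      simp only [Finset.sum_smul, mul_smul]
      rw [Finset.sum_comm]
      refine Finset.sum_congr rfl (fun k _ => ?_)
      have h2 : res F hV (res F hU0 (s k)) = res F hVU₂ (res F hU₂0 (s k)) := by
        rw [res_res, res_res]
      rw [h2, hB k, res_sum, Finset.smul_sum]
      refine Finset.sum_congr rfl (fun j _ => ?_)
      rw [res_smul, res_res]
    obtain ⟨W', hW', hzW', d, hd⟩ := hrr V (hV.trans hU1) _ h1 z hz
    refine ⟨W', hW', hzW', ?_⟩
    rw [map_zero]
    have hW'U : W' ≤ U := hW'.trans hV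
    -- the key identity on `W'`
    have key : rres O hW' (c k') =
        ∑ l, rres O hW' (c l) * rres O (hW'U.trans hU) (ρ (Sum.inl l) k') +
          ∑ i, d i * rres O (hW'U.trans hU) (ρ (Sum.inr i) k') := by
      show rres O hW' (c k') =
        ∑ l, rres O hW' (c l) * rres O (hW'U.trans hU)
            ((if l = k' then 1 else 0) - ∑ j, B l j * A j k') +
          ∑ i, d i * rres O (hW'U.trans hU) (∑ j, rres O hU₂1 (rr i j) * A j k')
      have h3 : ∀ j, ∑ l, rres O hW' (c l) * rres O (hW'U.trans hU) (B l j) =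
          ∑ i, d i * rres O (hW'.trans (hV.trans hU1)) (rr i j) := by
        intro j
        rw [← hd j, map_sum]
        refine Finset.sum_congr rfl (fun l _ => ?_)
        rw [map_mul, rres_rres]
      simp only [map_sub, map_sum, map_mul, mul_sub, Finset.sum_sub_distrib, Finset.mul_sum,
        rres_rres]
      have h4 : ∑ l, rres O hW' (c l) * rres O (hW'U.trans hU) (if l = k' then 1 else 0) =
          rres O hW' (c k') := by
        have h5 : ∀ l, rres O hW' (c l) * rres O (hW'U.trans hU) (if l = k' then 1 else 0) =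
            if l = k' then rres O hW' (c l) else 0 := by
          intro l
          split_ifs
          · rw [map_one, mul_one]
          · rw [map_zero, mul_zero]
        rw [Finset.sum_congr rfl (fun l _ => h5 l), Finset.sum_ite_eq', if_pos (Finset.mem_univ k')]
      rw [h4]
      have h6 : ∑ l, ∑ j, rres O hW' (c l) * (rres O (hW'U.trans hU) (B l j) *
          rres O (hW'U.trans hU) (A j k')) =
          ∑ i, ∑ j, d i * (rres O (hW'.trans (hV.trans hU1)) (rr i j) *
            rres O (hW'U.trans hU) (A j k')) := by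
        rw [Finset.sum_comm]
        conv_rhs => rw [Finset.sum_comm]
        refine Finset.sum_congr rfl (fun j _ => ?_)
        simp only [← mul_assoc]
        rw [← Finset.sum_mul, ← Finset.sum_mul, h3 j]
      rw [h6]
      abel
    rw [key]
    simp only [hρ0' W' hW'U, mul_zero, Finset.sum_const_zero, add_zero]

end Main

end Groth.Agent.Lib.Helper2.RSMod
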