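import Groth.Agent.Lib.Helper2.RSMod.ClosedImm
import Groth.Agent.Lib.Helper2.RSMod.FreeStalk

/-!
# Essential image of the direct image along a closed immersion of ringed spaces
-/

set_option autoImplicit false
universe u
open CategoryTheory CategoryTheory.Limits Opposite TopologicalSpace

namespace Groth.Agent.Lib.Helper2.RSMod

section

variable {Z X : TopCat.{u}} {i : Z ⟶ X}
    {O_Z : TopCat.Sheaf CommRingCat.{u} Z} {O_X : TopCat.Sheaf CommRingCat.{u} X}
    (c : O_X ⟶ ((TopologicalSpace.Opens.map i).sheafPushforwardContinuous CommRingCat.{u}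
      (Opens.grothendieckTopology X) (Opens.grothendieckTopology Z)).obj O_Z)
    (hi : Topology.IsClosedEmbedding i)

/-- the module is killed by the kernel of the comorphism -/
def KilledBy (G : ModSite.Mod O_X) : Prop :=
  ∀ (U : Opens X) (a : (ModSite.ringSh O_X).obj.obj (op U)), cmap i c U a = 0 →
    ∀ s : G.val.obj (op U), a • s = 0

theorem killedBy_of_iso {F : ModSite.Mod O_Z} {G : ModSite.Mod O_X} (e : pushObj i c F ≅ G) :
    KilledBy c G := by
  intro U a ha s
  have h1 : e.hom.val.app (op U) (e.inv.val.app (op U) s) = s :=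
    congrArg (fun ψ => (ψ.val.app (op U)).hom s) e.inv_hom_id
  rw [← h1, ← hom_smul]
  have h2 : a • e.inv.val.app (op U) s = 0 := by
    apply toF_injective i c F
    rw [toF_smul, ha, zero_smul]
    rfl
  rw [h2, hom_zero]

variable {c}

section Support

variable {G : ModSite.Mod O_X} (hG : KilledBy c G)

lemma ringZ_subsingleton (UZ : Opens Z) (hU : ∀ z, z ∉ UZ)
    (a b : (ModSite.ringSh O_Z).obj.obj (op UZ)) : a = b :=
  ring_eq_of_locally a b (fun z hz => absurd hz (hU z))

include hG in
lemma eq_zero_of_le_complRange {W : Opens X} (hW : W ≤ complRange hi) (s : G.val.obj (op W)) :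
    s = 0 := by
  have h1 : cmap i c W 1 = 0 := ringZ_subsingleton _ (pre_complRange hi W hW) _ _
  have h2 := hG W 1 h1 s
  rwa [one_smul] at h2

include hi hG in
/-- restriction between opens with the same preimage is injective -/
lemma res_injective_of_pre {V V' : Opens X} (h : V ≤ V') (hp : pre i V' ≤ pre i V)
    (s : G.val.obj (op V')) (hs : res G h s = 0) : s = 0 := by
  apply eq_zero_of_locally
  intro x hx
  by_cases hxr : x ∈ Set.range i
  · obtain ⟨z, rfl⟩ := hxr
    exact ⟨V, h, hp hx, hs⟩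
  · have hxc : x ∈ complRange hi := hxr
    exact ⟨V' ⊓ complRange hi, inf_le_left, ⟨hx, hxc⟩, eq_zero_of_le_complRange hi hG inf_le_right _⟩

include hi hG in
/-- restriction between opens with the same preimage is surjective -/
lemma res_surjective_of_pre {V V' : Opens X} (h : V ≤ V') (hp : pre i V' ≤ pre i V)
    (s : G.val.obj (op V)) : ∃ s' : G.val.obj (op V'), res G h s' = s := by
  let W : Bool → Opens X := fun b => if b then V else V' ⊓ complRange hi
  have hW : ∀ b, W b ≤ V' := by
    intro b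
    cases b
    · exact inf_le_left
    · exact h
  have hWf : W false ≤ complRange hi := inf_le_right
  obtain ⟨s', hs'⟩ := exists_glue G W hW
    (fun x hx => by
      by_cases hxr : x ∈ Set.range i
      · obtain ⟨z, rfl⟩ := hxr
        exact ⟨true, hp hx⟩
      · exact ⟨false, hx, hxr⟩)
    (fun b => match b with
      | true => s
      | false => 0)
    (by
      intro b b'
      cases b <;> cases b'
      · rfl
      · exact (eq_zero_of_le_complRange hi hG (inf_le_left.trans hWf) _).trans
          (eq_zero_of_le_complRange hi hG (inf_le_left.trans hWf) _).symm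
      · exact (eq_zero_of_le_complRange hi hG (inf_le_right.trans hWf) _).trans
          (eq_zero_of_le_complRange hi hG (inf_le_right.trans hWf) _).symm
      · rfl)
  exact ⟨s', hs' true⟩

end Support

section Act

variable {G : ModSite.Mod O_X} (hG : KilledBy c G) (hc : Sheaf.IsLocallySurjective c)

variable (c) in
/-- the section `b` over `W` represents `a` -/
def Rep {U : Opens Z} (a : (ModSite.ringSh O_Z).obj.obj (op U)) {W : Opens X} (hW : pre i W ≤ U)
    (b : (ModSite.ringSh O_X).obj.obj (op W)) : Prop :=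
  cmap i c W b = rres O_Z hW a

lemma Rep.restrict {U : Opens Z} {a : (ModSite.ringSh O_Z).obj.obj (op U)} {W : Opens X}
    {hW : pre i W ≤ U} {b : (ModSite.ringSh O_X).obj.obj (op W)} (h : Rep c a hW b)
    {W' : Opens X} (k : W' ≤ W) : Rep c a ((pre_mono i k).trans hW) (rres O_X k b) := by
  unfold Rep at h ⊢
  rw [cmap_rres, h, rres_rres]

include hi hc in
lemma exists_rep {U : Opens Z} (a : (ModSite.ringSh O_Z).obj.obj (op U)) {V : Opens X}
    (hV : pre i V ≤ U) (x : X) (hx : x ∈ V) :
    ∃ (W : Opens X) (hW : W ≤ V), x ∈ W ∧ ∃ b : (ModSite.ringSh O_X).obj.obj (op W),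
      Rep c a ((pre_mono i hW).trans hV) b := by
  by_cases hxr : x ∈ Set.range i
  · obtain ⟨z, rfl⟩ := hxr
    obtain ⟨W, hW, hzW, b, hb⟩ := cmap_locally_surjective i c hc (rres O_Z hV a) (i z) hx
    refine ⟨W, hW, hzW, b, ?_⟩
    unfold Rep
    rw [hb, rres_rres]
  · have hxc : x ∈ complRange hi := hxr
    refine ⟨V ⊓ complRange hi, inf_le_left, ⟨hx, hxc⟩, 0, ?_⟩
    exact ringZ_subsingleton _ (pre_complRange hi _ inf_le_right) _ _

include hG in
lemma smul_eq_of_rep {U : Opens Z} {a : (ModSite.ringSh O_Z).obj.obj (op U)} {W : Opens X}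
    {hW hW' : pre i W ≤ U} {b b' : (ModSite.ringSh O_X).obj.obj (op W)} (h : Rep c a hW b)
    (h' : Rep c a hW' b') (s : G.val.obj (op W)) : b • s = b' • s := by
  have h0 : cmap i c W (b - b') = 0 := by
    unfold Rep at h h'
    rw [map_sub, h, h', sub_self]
  have h1 := hG W (b - b') h0 s
  rw [sub_smul, sub_eq_zero] at h1
  exact h1

include hG in
theorem smulZ_exists {U : Opens Z} (a : (ModSite.ringSh O_Z).obj.obj (op U)) {V : Opens X}
    (hV : pre i V ≤ U) (s : G.val.obj (op V)) (hcov : ∀ x ∈ V, ∃ (W : Opens X) (hW : W ≤ V),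
      x ∈ W ∧ ∃ b : (ModSite.ringSh O_X).obj.obj (op W), Rep c a ((pre_mono i hW).trans hV) b) :
    ∃ t : G.val.obj (op V), ∀ (W : Opens X) (hW : W ≤ V) (b : (ModSite.ringSh O_X).obj.obj (op W)),
      Rep c a ((pre_mono i hW).trans hV) b → res G hW t = b • res G hW s := by
  let J := {p : Σ W : Opens X, (ModSite.ringSh O_X).obj.obj (op W) //
    ∃ hW : p.1 ≤ V, Rep c a ((pre_mono i hW).trans hV) p.2}
  have hWJ : ∀ j : J, j.1.1 ≤ V := fun j => j.2.choose
  have hRJ : ∀ j : J, Rep c a ((pre_mono i (hWJ j)).trans hV) j.1.2 := fun j => j.2.choose_spec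
  obtain ⟨t, ht⟩ := exists_glue G (fun j : J => j.1.1) hWJ
    (fun x hx => by
      obtain ⟨W, hW, hxW, b, hb⟩ := hcov x hx
      exact ⟨⟨⟨W, b⟩, hW, hb⟩, hxW⟩)
    (fun j => j.1.2 • res G (hWJ j) s)
    (by
      intro j j'
      rw [res_smul, res_smul, res_res, res_res]
      exact smul_eq_of_rep hG ((hRJ j).restrict inf_le_left) ((hRJ j').restrict inf_le_right) _)
  refine ⟨t, ?_⟩
  intro W hW b hb
  exact ht ⟨⟨W, b⟩, hW, hb⟩

/-- the action of functions on `Z` on sections of a module killed by the ideal -/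
noncomputable def smulZ {U : Opens Z} (a : (ModSite.ringSh O_Z).obj.obj (op U)) {V : Opens X}
    (hV : pre i V ≤ U) (s : G.val.obj (op V)) : G.val.obj (op V) :=
  (smulZ_exists hG a hV s (exists_rep hi hc a hV)).choose

lemma smulZ_spec {U : Opens Z} (a : (ModSite.ringSh O_Z).obj.obj (op U)) {V : Opens X}
    (hV : pre i V ≤ U) (s : G.val.obj (op V)) {W : Opens X} (hW : W ≤ V)
    {b : (ModSite.ringSh O_X).obj.obj (op W)} (hb : Rep c a ((pre_mono i hW).trans hV) b) :
    res G hW (smulZ hi hG hc a hV s) = b • res G hW s :=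
  (smulZ_exists hG a hV s (exists_rep hi hc a hV)).choose_spec W hW b hb

theorem smulZ_eq {U : Opens Z} (a : (ModSite.ringSh O_Z).obj.obj (op U)) {V : Opens X}
    (hV : pre i V ≤ U) (s t : G.val.obj (op V))
    (h : ∀ x ∈ V, ∃ (W : Opens X) (hW : W ≤ V), x ∈ W ∧
      ∃ b : (ModSite.ringSh O_X).obj.obj (op W), Rep c a ((pre_mono i hW).trans hV) b ∧
        res G hW t = b • res G hW s) :
    smulZ hi hG hc a hV s = t := by
  apply eq_of_locally
  intro x hx
  obtain ⟨W, hW, hxW, b, hb, e⟩ := h x hx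
  exact ⟨W, hW, hxW, by rw [smulZ_spec hi hG hc a hV s hW hb, e]⟩

lemma smulZ_of_rep {U : Opens Z} (a : (ModSite.ringSh O_Z).obj.obj (op U)) {V : Opens X}
    (hV : pre i V ≤ U) (s : G.val.obj (op V)) {b : (ModSite.ringSh O_X).obj.obj (op V)}
    (hb : Rep c a hV b) : smulZ hi hG hc a hV s = b • s := by
  have h := smulZ_spec hi hG hc a hV s le_rfl hb
  rwa [res_self, res_self] at h

lemma smulZ_res {U : Opens Z} (a : (ModSite.ringSh O_Z).obj.obj (op U)) {V V' : Opens X}
    (hV : pre i V ≤ U) (h : V' ≤ V) (s : G.val.obj (op V)) :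
    res G h (smulZ hi hG hc a hV s) = smulZ hi hG hc a ((pre_mono i h).trans hV) (res G h s) := by
  symm
  apply smulZ_eq
  intro x hx
  obtain ⟨W, hW, hxW, b, hb⟩ := exists_rep hi hc a ((pre_mono i h).trans hV) x hx
  refine ⟨W, hW, hxW, b, hb, ?_⟩
  rw [res_res, res_res]
  exact smulZ_spec hi hG hc a hV s (hW.trans h) hb

lemma smulZ_rres {U U' : Opens Z} (hU : U' ≤ U) (a : (ModSite.ringSh O_Z).obj.obj (op U))
    {V : Opens X} (hV : pre i V ≤ U') (s : G.val.obj (op V)) :
    smulZ hi hG hc (rres O_Z hU a) hV s = smulZ hi hG hc a (hV.trans hU) s := by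
  apply smulZ_eq
  intro x hx
  obtain ⟨W, hW, hxW, b, hb⟩ := exists_rep hi hc a (hV.trans hU) x hx
  refine ⟨W, hW, hxW, b, ?_, smulZ_spec hi hG hc a (hV.trans hU) s hW hb⟩
  unfold Rep at hb ⊢
  rw [hb, rres_rres]

lemma smulZ_one {U : Opens Z} {V : Opens X} (hV : pre i V ≤ U) (s : G.val.obj (op V)) :
    smulZ hi hG hc (1 : (ModSite.ringSh O_Z).obj.obj (op U)) hV s = s := by
  have h1 : Rep c (1 : (ModSite.ringSh O_Z).obj.obj (op U)) hV 1 := by
    unfold Rep
    rw [map_one, map_one]
  rw [smulZ_of_rep hi hG hc _ hV s h1, one_smul]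

lemma smulZ_zero_left {U : Opens Z} {V : Opens X} (hV : pre i V ≤ U) (s : G.val.obj (op V)) :
    smulZ hi hG hc (0 : (ModSite.ringSh O_Z).obj.obj (op U)) hV s = 0 := by
  have h1 : Rep c (0 : (ModSite.ringSh O_Z).obj.obj (op U)) hV 0 := by
    unfold Rep
    rw [map_zero, map_zero]
  rw [smulZ_of_rep hi hG hc _ hV s h1, zero_smul]

lemma smulZ_add_right {U : Opens Z} (a : (ModSite.ringSh O_Z).obj.obj (op U)) {V : Opens X}
    (hV : pre i V ≤ U) (s s' : G.val.obj (op V)) :
    smulZ hi hG hc a hV (s + s') = smulZ hi hG hc a hV s + smulZ hi hG hc a hV s' := by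
  apply smulZ_eq
  intro x hx
  obtain ⟨W, hW, hxW, b, hb⟩ := exists_rep hi hc a hV x hx
  refine ⟨W, hW, hxW, b, hb, ?_⟩
  rw [res_add, res_add, smulZ_spec hi hG hc a hV s hW hb, smulZ_spec hi hG hc a hV s' hW hb,
    smul_add]

lemma smulZ_zero_right {U : Opens Z} (a : (ModSite.ringSh O_Z).obj.obj (op U)) {V : Opens X}
    (hV : pre i V ≤ U) : smulZ hi hG hc a hV (0 : G.val.obj (op V)) = 0 := by
  have h := smulZ_add_right hi hG hc a hV 0 0
  rw [add_zero] at h
  exact left_eq_add.1 h

include hi hc in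
/-- two functions on `Z` can be represented simultaneously -/
lemma exists_rep₂ {U : Opens Z} (a a' : (ModSite.ringSh O_Z).obj.obj (op U)) {V : Opens X}
    (hV : pre i V ≤ U) (x : X) (hx : x ∈ V) :
    ∃ (W : Opens X) (hW : W ≤ V), x ∈ W ∧ ∃ b b' : (ModSite.ringSh O_X).obj.obj (op W),
      Rep c a ((pre_mono i hW).trans hV) b ∧ Rep c a' ((pre_mono i hW).trans hV) b' := by
  obtain ⟨W₁, hW₁, hxW₁, b₁, hb₁⟩ := exists_rep hi hc a hV x hx
  obtain ⟨W₂, hW₂, hxW₂, b₂, hb₂⟩ := exists_rep hi hc a' ((pre_mono i hW₁).trans hV) x hxW₁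
  exact ⟨W₂, hW₂.trans hW₁, hxW₂, rres O_X hW₂ b₁, b₂, hb₁.restrict hW₂, hb₂⟩

lemma smulZ_add_left {U : Opens Z} (a a' : (ModSite.ringSh O_Z).obj.obj (op U)) {V : Opens X}
    (hV : pre i V ≤ U) (s : G.val.obj (op V)) :
    smulZ hi hG hc (a + a') hV s = smulZ hi hG hc a hV s + smulZ hi hG hc a' hV s := by
  apply smulZ_eq
  intro x hx
  obtain ⟨W, hW, hxW, b, b', hb, hb'⟩ := exists_rep₂ hi hc a a' hV x hx
  refine ⟨W, hW, hxW, b + b', ?_, ?_⟩
  · unfold Rep at hb hb' ⊢
    rw [map_add, map_add, hb, hb']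
  · rw [res_add, smulZ_spec hi hG hc a hV s hW hb, smulZ_spec hi hG hc a' hV s hW hb', add_smul]

lemma smulZ_mul {U : Opens Z} (a a' : (ModSite.ringSh O_Z).obj.obj (op U)) {V : Opens X}
    (hV : pre i V ≤ U) (s : G.val.obj (op V)) :
    smulZ hi hG hc (a * a') hV s = smulZ hi hG hc a hV (smulZ hi hG hc a' hV s) := by
  apply smulZ_eq
  intro x hx
  obtain ⟨W, hW, hxW, b, b', hb, hb'⟩ := exists_rep₂ hi hc a a' hV x hx
  refine ⟨W, hW, hxW, b * b', ?_, ?_⟩
  · unfold Rep at hb hb' ⊢
    rw [map_mul, map_mul, hb, hb']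
  · rw [smulZ_spec hi hG hc a hV _ hW hb, smulZ_spec hi hG hc a' hV s hW hb', mul_smul]

end Act

section SheafZ

variable (G : ModSite.Mod O_X)

/-- `til` as a functor -/
def tilF : Opens Z ⥤ Opens X where
  obj U := til hi U
  map f := homOfLE (til_mono hi (leOfHom f))

/-- the underlying abelian presheaf of the module on `Z` -/
noncomputable def preM : (Opens Z)ᵒᵖ ⥤ AddCommGrpCat.{u} := (tilF hi).op ⋙ G.val.presheaf

/-- sections of `preM` as sections of `G` -/
def toG {U : Opens Z} (t : (preM hi G).obj (op U)) : G.val.obj (op (til hi U)) := t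

/-- sections of `G` as sections of `preM` -/
def ofG {U : Opens Z} (t : G.val.obj (op (til hi U))) : (preM hi G).obj (op U) := t

lemma preM_map {U U' : Opens Z} (g : U' ⟶ U) (t : (preM hi G).obj (op U)) :
    toG hi G ((preM hi G).map g.op t) = res G (til_mono hi (leOfHom g)) (toG hi G t) := rfl

variable {G}

lemma til_inf_le (U U' : Opens Z) : til hi U ⊓ til hi U' ≤ til hi (U ⊓ U') := by
  rintro x ⟨hx, hx'⟩ ⟨z, hz, rfl⟩
  by_cases h : z ∈ U
  · exact hx' ⟨z, fun h' => hz ⟨h, h'⟩, rfl⟩
  · exact hx ⟨z, h, rfl⟩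

/-- the covering of `til (⨆ U)` used for gluing -/
def covW {ι : Type u} (U : ι → Opens Z) : Option ι → Opens X
  | some j => til hi (U j)
  | none => til hi (iSup U) ⊓ complRange hi

lemma covW_le {ι : Type u} (U : ι → Opens Z) (o : Option ι) : covW hi U o ≤ til hi (iSup U) := by
  cases o with
  | none => exact inf_le_left
  | some j => exact til_mono hi (le_iSup U j)

lemma covW_cov {ι : Type u} (U : ι → Opens Z) (x : X) (hx : x ∈ til hi (iSup U)) :
    ∃ o, x ∈ covW hi U o := by
  by_cases hxr : x ∈ Set.range i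
  · obtain ⟨z, rfl⟩ := hxr
    have hz : z ∈ iSup U := pre_til_le hi _ hx
    obtain ⟨j, hj⟩ := Opens.mem_iSup.1 hz
    exact ⟨some j, le_pre_til hi (U j) hj⟩
  · exact ⟨none, hx, hxr⟩

theorem preM_isSheaf (hG : KilledBy c G) : TopCat.Presheaf.IsSheaf (preM hi G) := by
  rw [TopCat.Presheaf.isSheaf_iff_isSheafUniqueGluing]
  intro ι U sf hsf
  have hsf' : ∀ j j', res G (til_mono hi (inf_le_left : U j ⊓ U j' ≤ U j)) (toG hi G (sf j)) =
      res G (til_mono hi (inf_le_right : U j ⊓ U j' ≤ U j')) (toG hi G (sf j')) :=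
    fun j j' => hsf j j'
  let σ : ∀ o : Option ι, G.val.obj (op (covW hi U o)) := fun o =>
    match o with
    | some j => toG hi G (sf j)
    | none => 0
  have hnone : covW hi U none ≤ complRange hi := inf_le_right
  obtain ⟨s, hs⟩ := exists_glue G (covW hi U) (covW_le hi U) (covW_cov hi U) σ
    (by
      intro o o'
      cases o with
      | none =>
        exact (eq_zero_of_le_complRange hi hG (inf_le_left.trans hnone) _).trans
          (eq_zero_of_le_complRange hi hG (inf_le_left.trans hnone) _).symm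
      | some j =>
        cases o' with
        | none =>
          exact (eq_zero_of_le_complRange hi hG (inf_le_right.trans hnone) _).trans
            (eq_zero_of_le_complRange hi hG (inf_le_right.trans hnone) _).symm
        | some j' =>
          have h1 := congrArg (res G (til_inf_le hi (U j) (U j'))) (hsf' j j')
          rw [res_res, res_res] at h1
          exact h1)
  refine ⟨ofG hi G s, fun j => hs (some j), ?_⟩
  intro s' hs'
  have hs'' : ∀ j, res G (til_mono hi (le_iSup U j)) (toG hi G s') = toG hi G (sf j) :=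
    fun j => hs' j
  show toG hi G s' = s
  apply eq_of_locally
  intro x hx
  obtain ⟨o, ho⟩ := covW_cov hi U x hx
  cases o with
  | none =>
    exact ⟨covW hi U none, covW_le hi U none, ho,
      (eq_zero_of_le_complRange hi hG hnone _).trans (eq_zero_of_le_complRange hi hG hnone _).symm⟩
  | some j =>
    exact ⟨covW hi U (some j), covW_le hi U (some j), ho, (hs'' j).trans (hs (some j)).symm⟩

end SheafZ

section ModZ

variable {G : ModSite.Mod O_X} (hG : KilledBy c G) (hc : Sheaf.IsLocallySurjective c)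

/-- the module structure on the sections of `preM` -/
noncomputable def moduleZ (Y : (Opens Z)ᵒᵖ) :
    Module ((ModSite.ringSh O_Z).obj.obj Y) ((preM hi G).obj Y) where
  smul a s := smulZ hi hG hc (U := Y.unop) a (pre_til_le hi Y.unop) (toG hi G (U := Y.unop) s)
  one_smul s := smulZ_one hi hG hc (U := Y.unop) (pre_til_le hi Y.unop) (toG hi G (U := Y.unop) s)
  mul_smul a a' s := smulZ_mul hi hG hc (U := Y.unop) a a' (pre_til_le hi Y.unop)
    (toG hi G (U := Y.unop) s)
  smul_zero a := smulZ_zero_right hi hG hc (U := Y.unop) a (pre_til_le hi Y.unop)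
  smul_add a s s' := smulZ_add_right hi hG hc (U := Y.unop) a (pre_til_le hi Y.unop)
    (toG hi G (U := Y.unop) s) (toG hi G (U := Y.unop) s')
  add_smul a a' s := smulZ_add_left hi hG hc (U := Y.unop) a a' (pre_til_le hi Y.unop)
    (toG hi G (U := Y.unop) s)
  zero_smul s := smulZ_zero_left hi hG hc (U := Y.unop) (pre_til_le hi Y.unop)
    (toG hi G (U := Y.unop) s)

/-- the presheaf of modules on `Z` -/
noncomputable def preModZ : PresheafOfModules.{u} (ModSite.ringSh O_Z).obj :=
  @PresheafOfModules.ofPresheaf _ _ (ModSite.ringSh O_Z).obj (preM hi G) (moduleZ hi hG hc)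
    (by
      intro Y Y' f r m
      show res G (til_mono hi (leOfHom f.unop))
          (smulZ hi hG hc (U := Y.unop) r (pre_til_le hi Y.unop) (toG hi G (U := Y.unop) m)) =
        smulZ hi hG hc (U := Y'.unop) (rres O_Z (leOfHom f.unop) r) (pre_til_le hi Y'.unop)
          (res G (til_mono hi (leOfHom f.unop)) (toG hi G (U := Y.unop) m))
      rw [smulZ_res, smulZ_rres])

/-- the module on `Z` whose direct image is `G` -/
noncomputable def sheafZ : ModSite.Mod O_Z where
  val := preModZ hi hG hc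
  isSheaf := preM_isSheaf hi hG

/-- sections of `sheafZ` as sections of `G` -/
def toG' {U : Opens Z} (t : (sheafZ hi hG hc).val.obj (op U)) : G.val.obj (op (til hi U)) := t

lemma toG'_res {U U' : Opens Z} (h : U' ≤ U) (t : (sheafZ hi hG hc).val.obj (op U)) :
    toG' hi hG hc (res (sheafZ hi hG hc) h t) = res G (til_mono hi h) (toG' hi hG hc t) := rfl

lemma toG'_smul {U : Opens Z} (a : (ModSite.ringSh O_Z).obj.obj (op U))
    (t : (sheafZ hi hG hc).val.obj (op U)) :
    toG' hi hG hc (a • t) = smulZ hi hG hc a (pre_til_le hi U) (toG' hi hG hc t) := rfl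

lemma toG'_add {U : Opens Z} (t t' : (sheafZ hi hG hc).val.obj (op U)) :
    toG' hi hG hc (t + t') = toG' hi hG hc t + toG' hi hG hc t' := rfl

end ModZ

section IsoZ

variable {G : ModSite.Mod O_X} (hG : KilledBy c G) (hc : Sheaf.IsLocallySurjective c)

lemma rres_self' {V : Opens Z} (h : V ≤ V) (a : (ModSite.ringSh O_Z).obj.obj (op V)) :
    rres O_Z h a = a := by
  have h1 := (ModSite.ringSh O_Z).obj.map_id (op V)
  exact congrArg (fun φ => φ.hom a) h1

/-- the comparison map from the direct image of `sheafZ` to `G`, on sections -/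
noncomputable def compApp (V : Opens X)
    (t : (pushObj i c (sheafZ hi hG hc)).val.obj (op V)) : G.val.obj (op V) :=
  res G (le_til_pre hi V) (toG' hi hG hc (toF i c (sheafZ hi hG hc) t))

/-- the comparison morphism, as a partial morphism over the whole space -/
noncomputable def compPHom : PHom (pushObj i c (sheafZ hi hG hc)) G ⊤ where
  app V _ t := compApp hi hG hc V t
  map_add V _ t t' := by
    unfold compApp
    rw [toF_add, toG'_add, res_add]
  map_smul V _ b t := by
    unfold compApp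
    rw [toF_smul, toG'_smul]
    refine smulZ_spec hi hG hc _ _ _ (le_til_pre hi V) ?_
    unfold Rep
    rw [rres_self']
  nat V W _ hW t := by
    unfold compApp
    rw [toF_res, toG'_res, res_res, res_res]

/-- the comparison morphism from the direct image of `sheafZ` to `G` -/
noncomputable def compHom : pushObj i c (sheafZ hi hG hc) ⟶ G := (compPHom hi hG hc).toHom

lemma compHom_apply (V : Opens X) (t : (pushObj i c (sheafZ hi hG hc)).val.obj (op V)) :
    (compHom hi hG hc).val.app (op V) t = compApp hi hG hc V t := rfl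

instance compHom_mono : Mono (compHom hi hG hc) := by
  apply mono_of_injective
  intro V
  rw [injective_iff_map_eq_zero]
  intro t ht
  rw [compHom_apply] at ht
  apply toF_injective i c (sheafZ hi hG hc)
  exact res_injective_of_pre hi hG (le_til_pre hi V) (pre_til_le hi (pre i V)) _ ht

instance compHom_epi : Epi (compHom hi hG hc) := by
  apply epi_of_pointwise_lift
  intro V t x hx
  obtain ⟨s', hs'⟩ := res_surjective_of_pre hi hG (le_til_pre hi V) (pre_til_le hi (pre i V)) t
  refine ⟨V, le_rfl, hx, ofF i c (sheafZ hi hG hc) s', ?_⟩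
  rw [res_self, compHom_apply]
  exact hs'

instance compHom_isIso : IsIso (compHom hi hG hc) := isIso_of_mono_of_epi _

include hi hG hc in
theorem essImage_of_killedBy : (pushF i c).essImage G :=
  ⟨sheafZ hi hG hc, ⟨asIso (compHom hi hG hc)⟩⟩

end IsoZ

end

end Groth.Agent.Lib.Helper2.RSMod
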