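import Groth.Agent.Lib.Helper2.RSMod.Sub

/-!
# Sections of a directed colimit of modules come locally from a stage
-/

set_option autoImplicit false
universe u
open CategoryTheory CategoryTheory.Limits Opposite TopologicalSpace

namespace Groth.Agent.Lib.Helper2.RSMod

variable {X : TopCat.{u}} {O : TopCat.Sheaf CommRingCat.{u} X}

section Colim

variable {I : Type u} [SmallCategory I] [IsFiltered I]
  (D : I ⥤ ModSite.Mod O) (c : Cocone D)

lemma cocone_w_apply {i k : I} (f : i ⟶ k) {W : Opens X} (y : (D.obj i).val.obj (op W)) :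
    (c.ι.app k).val.app (op W) ((D.map f).val.app (op W) y) = (c.ι.app i).val.app (op W) y := by
  have h := c.w f
  exact congrArg (fun ψ => (ψ.val.app (op W)).hom y) h

lemma cocone_ι_res (i : I) {V W : Opens X} (h : W ≤ V) (y : (D.obj i).val.obj (op V)) :
    (c.ι.app i).val.app (op W) (res (D.obj i) h y) =
      res c.pt h ((c.ι.app i).val.app (op V) y) :=
  hom_res (G := c.pt) (c.ι.app i) h y

/-- sections which come locally from some stage -/
def colimSub : LocSub c.pt where
  carrier V :=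
    { carrier := {t | ∀ x ∈ V, ∃ (W : Opens X) (h : W ≤ V), x ∈ W ∧
        ∃ (i : I) (y : (D.obj i).val.obj (op W)), (c.ι.app i).val.app (op W) y = res c.pt h t}
      zero_mem' := by
        intro x hx
        obtain ⟨i⟩ := (IsFiltered.nonempty : Nonempty I)
        refine ⟨V, le_rfl, hx, i, 0, ?_⟩
        rw [res_zero, hom_zero]
      add_mem' := by
        intro t₁ t₂ h₁ h₂ x hx
        obtain ⟨W₁, hW₁, hx₁, i₁, y₁, e₁⟩ := h₁ x hx
        obtain ⟨W₂, hW₂, hx₂, i₂, y₂, e₂⟩ := h₂ x hx
        refine ⟨W₁ ⊓ W₂, inf_le_left.trans hW₁, ⟨hx₁, hx₂⟩, IsFiltered.max i₁ i₂,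
          (D.map (IsFiltered.leftToMax i₁ i₂)).val.app (op (W₁ ⊓ W₂))
            (res (D.obj i₁) inf_le_left y₁) +
          (D.map (IsFiltered.rightToMax i₁ i₂)).val.app (op (W₁ ⊓ W₂))
            (res (D.obj i₂) inf_le_right y₂), ?_⟩
        rw [hom_add, cocone_w_apply, cocone_w_apply, cocone_ι_res, cocone_ι_res, e₁, e₂, res_res,
          res_res, res_add]
      smul_mem' := by
        intro a t h x hx
        obtain ⟨W, hW, hxW, i, y, e⟩ := h x hx
        refine ⟨W, hW, hxW, i, rres O hW a • y, ?_⟩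
        rw [hom_smul, e, res_smul] }
  res_mem := by
    intro V W h t ht x hx
    obtain ⟨W', hW', hxW', i, y, e⟩ := ht x (h hx)
    refine ⟨W' ⊓ W, inf_le_right, ⟨hxW', hx⟩, i, res (D.obj i) inf_le_left y, ?_⟩
    rw [cocone_ι_res, e, res_res, res_res]
  loc := by
    intro V t H x hx
    obtain ⟨W, hW, hxW, h'⟩ := H x hx
    obtain ⟨W', hW', hxW', i, y, e⟩ := h' x hxW
    refine ⟨W', hW'.trans hW, hxW', i, y, ?_⟩
    rw [e, res_res]

variable {D c}

theorem colimit_locally_from_stage (hc : IsColimit c) {V : Opens X} (t : c.pt.val.obj (op V))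
    (x : X) (hx : x ∈ V) :
    ∃ (W : Opens X) (h : W ≤ V), x ∈ W ∧ ∃ (i : I) (y : (D.obj i).val.obj (op W)),
      (c.ι.app i).val.app (op W) y = res c.pt h t := by
  let N := colimSub D c
  have h1 : ∀ i, c.ι.app i ≫ cokernel.π N.ι = 0 := by
    intro i
    apply SheafOfModules.hom_ext
    apply PresheafOfModules.hom_ext
    intro Y
    ext y
    refine N.cokernel_π_apply ((c.ι.app i).val.app Y y) ?_
    intro x hx
    exact ⟨Y.unop, le_rfl, hx, i, y, (res_self _ _).symm⟩
  have h2 : cokernel.π N.ι = 0 := hc.hom_ext (fun i => by rw [h1 i, comp_zero])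
  haveI : Epi N.ι := N.epi_of_cokernel h2
  exact N.mem_of_epi t x hx

end Colim

end Groth.Agent.Lib.Helper2.RSMod
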