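import Groth.Agent.Lib.Helper2.RSMod.Colim
import Groth.Agent.Lib.Helper17.ModSiteColim

/-!
# Finite type directed colimits on quasi-compact ringed spaces
-/

set_option autoImplicit false
universe u
open CategoryTheory CategoryTheory.Limits Opposite TopologicalSpace

namespace Groth.Agent.Lib.Helper2.RSMod

variable {X : TopCat.{u}} {O : TopCat.Sheaf CommRingCat.{u} X}

/-- pointwise local lifting implies epi -/
theorem epi_of_pointwise_lift {F G : ModSite.Mod O} (φ : G ⟶ F)
    (H : ∀ (V : Opens X) (t : F.val.obj (op V)) (z : X), z ∈ V →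
      ∃ (W' : Opens X) (hW' : W' ≤ V), z ∈ W' ∧ ∃ y : G.val.obj (op W'),
        φ.val.app (op W') y = res F hW' t) : Epi φ := by
  apply epi_of_local_lift
  intro V t
  let S : Sieve V :=
    { arrows := fun W f => ∃ y : G.val.obj (op W), φ.val.app (op W) y = rs F f t
      downward_closed := by
        rintro W W' f ⟨y, hy⟩ k
        refine ⟨rs G k y, ?_⟩
        rw [hom_rs, hy, ← rs_comp] }
  refine ⟨S, ?_, fun W f hf => hf⟩
  intro z hz
  obtain ⟨W', hW', hzW', y, hy⟩ := H V t z hz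
  exact ⟨W', homOfLE hW', ⟨y, hy⟩, hzW'⟩

section Colim

variable {I : Type u} [Preorder I] [Nonempty I] [IsDirected I (· ≤ ·)]
  {D : I ⥤ ModSite.Mod O} {c : Cocone D}

theorem mono_ι_of_mono_map (hc : IsColimit c) (hD : ∀ (i j : I) (f : i ⟶ j), Mono (D.map f))
    (i : I) : Mono (c.ι.app i) := by
  haveI := Groth.Agent.Lib.Helper17.ModSiteColim.toSheaf_preservesColimits (ModSite.ringSh O)
  haveI := Groth.Agent.Lib.Helper17.ModSiteColim.toSheaf_preservesLimits (ModSite.ringSh O)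
  have hc' : IsColimit ((SheafOfModules.toSheaf (ModSite.ringSh O)).mapCocone c) :=
    isColimitOfPreserves _ hc
  haveI : ∀ (j j' : I) (φ : j ⟶ j'),
      Mono ((D ⋙ SheafOfModules.toSheaf (ModSite.ringSh O)).map φ) := fun j j' φ => by
    haveI := hD j j' φ
    dsimp
    infer_instance
  have h1 := IsColimit.mono_ι_app_of_isFiltered hc' i
  exact (SheafOfModules.toSheaf (ModSite.ringSh O)).mono_of_mono_map h1

end Colim

section Main

variable {I : Type u} [Preorder I] [Nonempty I] [IsDirected I (· ≤ ·)]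
  {D : I ⥤ ModSite.Mod O} {c : Cocone D}

/-- near each point, sections of a finite type colimit come from a fixed stage -/
theorem exists_stage_nbhd (hc : IsColimit c)
    [SheafOfModules.IsFiniteType (R := ModSite.ringSh O) c.pt] (x : X) :
    ∃ (W : Opens X) (_ : x ∈ W) (i : I), ∀ (V : Opens X) (hV : V ≤ W) (t : c.pt.val.obj (op V))
      (z : X), z ∈ V → ∃ (W' : Opens X) (hW' : W' ≤ V), z ∈ W' ∧
        ∃ y : (D.obj i).val.obj (op W'), (c.ι.app i).val.app (op W') y = res c.pt hW' t := by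
  classical
  obtain ⟨U, hxU, n, s, hs⟩ := (isFiniteType_iff c.pt).1 inferInstance x
  obtain ⟨W, hW, hxW, hst⟩ := exists_common_nbhd (ι := Fin n) x U hxU
    (fun k W => ∃ (hWU : W ≤ U) (i : I) (y : (D.obj i).val.obj (op W)),
      (c.ι.app i).val.app (op W) y = res c.pt hWU (s k))
    (by
      rintro k W W' hWW' ⟨hWU, i, y, hy⟩
      refine ⟨hWW'.trans hWU, i, res (D.obj i) hWW' y, ?_⟩
      rw [cocone_ι_res, hy, res_res])
    (fun k => by
      obtain ⟨W, hW, hxW, i, y, hy⟩ := colimit_locally_from_stage hc (s k) x hxU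
      exact ⟨W, hW, hxW, hW, i, y, hy⟩)
  choose hWU i y hy using hst
  obtain ⟨k₀, hk₀⟩ := Finset.exists_le (Finset.univ.image i)
  have hik : ∀ k, i k ≤ k₀ := fun k => hk₀ (i k) (Finset.mem_image_of_mem i (Finset.mem_univ k))
  refine ⟨W, hxW, k₀, ?_⟩
  intro V hV t z hz
  obtain ⟨W', hW', hzW', a, ha⟩ := hs V (hV.trans hW) t z hz
  refine ⟨W', hW', hzW', ∑ k, a k • (D.map (homOfLE (hik k))).val.app (op W')
    (res (D.obj (i k)) (hW'.trans hV) (y k)), ?_⟩
  rw [ha, hom_sum]
  refine Finset.sum_congr rfl (fun k _ => ?_)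
  rw [hom_smul, cocone_w_apply, cocone_ι_res, hy, res_res]

theorem exists_epi_ι [CompactSpace X] (hc : IsColimit c)
    [SheafOfModules.IsFiniteType (R := ModSite.ringSh O) c.pt] :
    ∃ i : I, Epi (c.ι.app i) := by
  classical
  choose W hxW i hQ using exists_stage_nbhd (D := D) (c := c) hc
  obtain ⟨T, hT⟩ := isCompact_univ.elim_finite_subcover (fun x : X => ((W x : Opens X) : Set X))
    (fun x => (W x).isOpen) (fun z _ => Set.mem_iUnion.2 ⟨z, hxW z⟩)
  obtain ⟨k₀, hk₀⟩ := Finset.exists_le (T.image i)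
  refine ⟨k₀, epi_of_pointwise_lift (G := D.obj k₀) (F := c.pt) (c.ι.app k₀) ?_⟩
  intro V t z hz
  obtain ⟨x, hxT, hzx⟩ : ∃ x ∈ T, z ∈ W x := by
    have := hT (Set.mem_univ z)
    simpa using this
  have hik : i x ≤ k₀ := hk₀ (i x) (Finset.mem_image_of_mem i hxT)
  obtain ⟨W', hW', hzW', y, hy⟩ := hQ x (V ⊓ W x) inf_le_right (res c.pt inf_le_left t) z
    ⟨hz, hzx⟩
  refine ⟨W', hW'.trans inf_le_left, hzW', (D.map (homOfLE hik)).val.app (op W') y, ?_⟩
  rw [cocone_w_apply, hy, res_res]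

theorem colimit_finiteType_main [CompactSpace X] (hc : IsColimit c)
    [SheafOfModules.IsFiniteType (R := ModSite.ringSh O) c.pt] :
    (∃ i : I, Epi (c.ι.app i)) ∧
      ((∀ (i j : I) (f : i ⟶ j), Mono (D.map f)) → ∃ i : I, IsIso (c.ι.app i)) := by
  obtain ⟨i, hi⟩ := exists_epi_ι (D := D) (c := c) hc
  refine ⟨⟨i, hi⟩, fun hD => ⟨i, ?_⟩⟩
  haveI := mono_ι_of_mono_map hc hD i
  exact isIso_of_mono_of_epi _

end Main

end Groth.Agent.Lib.Helper2.RSMod
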