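import Groth.Agent.Lib.Helper2.RSMod.ColimFT
import Groth.Agent.Lib.Helper17.ModSiteExact

/-!
# Sections of a stage which die in a filtered colimit die locally at a later stage
-/

set_option autoImplicit false
universe u
open CategoryTheory CategoryTheory.Limits Opposite TopologicalSpace

namespace Groth.Agent.Lib.Helper2.RSMod

variable {X : TopCat.{u}} {O : TopCat.Sheaf CommRingCat.{u} X}

section Ker

variable {I : Type u} [SmallCategory I] [IsFiltered I]
  {D : I ⥤ ModSite.Mod O} {c : Cocone D}

attribute [local instance] IsFiltered.isConnected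

set_option maxHeartbeats 1600000 in
theorem colimit_ker_locally (hc : IsColimit c) (i : I) {V : Opens X}
    (y : (D.obj i).val.obj (op V)) (hy : (c.ι.app i).val.app (op V) y = 0) (x : X) (hx : x ∈ V) :
    ∃ (W : Opens X) (hW : W ≤ V), x ∈ W ∧ ∃ (k : I) (f : i ⟶ k),
      (D.map f).val.app (op W) (res (D.obj i) hW y) = 0 := by
  haveI : HasExactColimitsOfShape (Under i) (ModSite.Mod O) :=
    Groth.Agent.Lib.Helper17.ModSiteExact.hasExactColimitsOfShape_filtered (ModSite.ringSh O)
      (Under i)
  let α : (Functor.const (Under i)).obj (D.obj i) ⟶ Under.forget i ⋙ D :=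
    { app j := D.map j.hom
      naturality _ _ g := by
        dsimp
        simp only [Category.id_comp, ← D.map_comp, Under.w] }
  let S : ShortComplex (Under i ⥤ ModSite.Mod O) :=
    ShortComplex.mk (kernel.ι α) α (kernel.condition α)
  have hS : S.Exact := ShortComplex.exact_of_f_is_kernel _ (kernelIsKernel α)
  let c₁ : Cocone S.X₁ := colimit.cocone (kernel α)
  have hc₁ : IsColimit c₁ := colimit.isColimit (kernel α)
  let c₂ : Cocone S.X₂ := constCocone (Under i) (D.obj i)
  have hc₂ : IsColimit c₂ := isColimitConstCocone (Under i) (D.obj i)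
  let c₃ : Cocone S.X₃ := c.whisker (Under.forget i)
  have hc₃ : IsColimit c₃ := (Functor.Final.isColimitWhiskerEquiv _ _).symm hc
  let f : c₁.pt ⟶ c₂.pt := colimit.desc (kernel α) ⟨D.obj i, kernel.ι α⟩
  let g : c₂.pt ⟶ c₃.pt := c.ι.app i
  have hf : ∀ j, c₁.ι.app j ≫ f = S.f.app j ≫ c₂.ι.app j := by
    intro j
    have h1 : colimit.ι (kernel α) j ≫ colimit.desc (kernel α) ⟨D.obj i, kernel.ι α⟩ =
        (kernel.ι α).app j := colimit.ι_desc _ _
    refine h1.trans ?_
    exact (Category.comp_id _).symm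
  have hg : ∀ j, c₂.ι.app j ≫ g = S.g.app j ≫ c₃.ι.app j := by
    intro j
    have h1 : D.map j.hom ≫ c.ι.app j.right = c.ι.app i := c.w j.hom
    refine Eq.trans (Category.id_comp _) ?_
    exact h1.symm
  have hex := colim.exact_mapShortComplex hS hc₁ hc₂ hc₃ f g hf hg
  obtain ⟨W, hW, hxW, w, hw⟩ := exact_nbhd _ hex y hy x hx
  obtain ⟨W', hW', hxW', j, z, hz⟩ := colimit_locally_from_stage hc₁ w x hxW
  refine ⟨W', hW'.trans hW, hxW', j.right, j.hom, ?_⟩
  have h2 : res (D.obj i) (hW'.trans hW) y =
      ((kernel.ι α).app j).val.app (op W') z := by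
    have h3 : res (D.obj i) (hW'.trans hW) y = res (D.obj i) hW' (res (D.obj i) hW y) :=
      (res_res _ _ _).symm
    rw [h3]
    have h4 : res (D.obj i) hW' (res (D.obj i) hW y) =
        res (D.obj i) hW' (f.val.app (op W) w) := congrArg _ hw.symm
    rw [h4]
    have h5 : res (D.obj i) hW' (f.val.app (op W) w) =
        f.val.app (op W') (res c₁.pt hW' w) := (hom_res (G := D.obj i) f hW' w).symm
    rw [h5, ← hz]
    exact congrArg (fun ψ => (ψ.val.app (op W')).hom z) (hf j)
  rw [h2]
  have h6 := congrArg (fun (ψ : kernel α ⟶ Under.forget i ⋙ D) => ((ψ.app j).val.app (op W')).hom z)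
    (kernel.condition α)
  exact h6

end Ker

end Groth.Agent.Lib.Helper2.RSMod
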