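import Groth.Agent.Lib.Helper2.RSMod.Over

/-!
# Finite type and finite presentation of sheaves of modules, elementwise
-/

set_option autoImplicit false
universe u
open CategoryTheory CategoryTheory.Limits Opposite

namespace Groth.Agent.Lib.Helper2.RSMod

variable {D : Type u} [SmallCategory D] {J : GrothendieckTopology D} {R : Sheaf J RingCat.{u}}

section Reindex

variable {M : SheafOfModules.{u} R} {U : D} {I I' K K' : Type*} [Fintype I] [Fintype I']
  [Fintype K] [Fintype K']

lemma LocGen.reindex (e : I ≃ I') {s : I → M.val.obj (op U)} (h : LocGen M U s) :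
    LocGen M U (s ∘ e.symm) := by
  intro V g t
  obtain ⟨S, hS, h'⟩ := h V g t
  refine ⟨S, hS, fun W k hk => ?_⟩
  obtain ⟨a, ha⟩ := h' k hk
  refine ⟨a ∘ e.symm, ?_⟩
  rw [ha]
  exact (Fintype.sum_equiv e.symm _ _ (fun i' => rfl)).symm

lemma RelGen.reindex (e : I ≃ I') (f : K ≃ K') {s : I → M.val.obj (op U)}
    {r : K → I → R.obj.obj (op U)} (h : RelGen M U s r) :
    RelGen M U (s ∘ e.symm) (fun k' i' => r (f.symm k') (e.symm i')) := by
  intro V g a ha
  have ha' : ∑ i, (a ∘ e) i • rs M g (s i) = 0 := by
    rw [← ha]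
    refine Fintype.sum_equiv e _ _ (fun i => ?_)
    simp
  obtain ⟨S, hS, h'⟩ := h V g (a ∘ e) ha'
  refine ⟨S, hS, fun W k hk => ?_⟩
  obtain ⟨c, hc⟩ := h' k hk
  refine ⟨c ∘ f.symm, fun i' => ?_⟩
  have := hc (e.symm i')
  simp only [Function.comp_apply, Equiv.apply_symm_apply] at this
  rw [this]
  exact (Fintype.sum_equiv f.symm _ _ (fun k' => rfl)).symm

end Reindex

section FT

variable (M : SheafOfModules.{u} R)

lemma tY_terminal_left (U : D) : (tY U (Over.mk (𝟙 U))).left = 𝟙 U := rfl

lemma gens_freeDesc (U : D) {I : Type u} [Fintype I] [DecidableEq I]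
    (s : I → M.val.obj (op U)) :
    gens M U (freeDesc (tY U) (tY_comp U) (M.over U) s) = s := by
  funext i
  unfold gens
  rw [freeDesc_basisSec]
  exact rs_id (M := M) (s i)

/-- generating sections of `M.over U` from local generators -/
noncomputable def genSections (U : D) {I : Type u} [Fintype I]
    (s : I → M.val.obj (op U)) (h : LocGen M U s) : (M.over U).GeneratingSections where
  I := I
  s := fun j => secOf (tY U) (tY_comp U) (M.over U) (s j)
  epi := by
    classical
    have h1 : Epi (freeDesc (tY U) (tY_comp U) (M.over U) s) := by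
      apply epi_of_locGen M U
      rw [gens_freeDesc]
      exact h
    unfold freeDesc at h1
    exact h1

lemma genSections_π (U : D) {I : Type u} [Fintype I]
    (s : I → M.val.obj (op U)) (h : LocGen M U s) :
    (genSections M U s h).π = freeDesc (tY U) (tY_comp U) (M.over U) s := rfl

theorem isFiniteType_of_locGen (ι : Type u) (Uf : ι → D) (hU : J.CoversTop Uf)
    (H : ∀ i, ∃ (n : ℕ) (s : Fin n → M.val.obj (op (Uf i))), LocGen M (Uf i) s) :
    M.IsFiniteType := by
  classical
  choose n s hs using H
  let σ : SheafOfModules.LocalGeneratorsData.{u} M :=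
    { I := ι
      X := Uf
      coversTop := hU
      generators := fun i => genSections M (Uf i) (fun j : ULift.{u} (Fin (n i)) => s i j.down)
        ((hs i).reindex Equiv.ulift.symm) }
  exact { exists_localGeneratorsData := ⟨σ, { isFiniteType := fun i =>
    { finite := inferInstanceAs (Finite (ULift.{u} (Fin (n i)))) } }⟩ }

theorem locGen_of_isFiniteType [M.IsFiniteType] :
    ∃ (ι : Type u) (Uf : ι → D), J.CoversTop Uf ∧
      ∀ i, ∃ (n : ℕ) (s : Fin n → M.val.obj (op (Uf i))), LocGen M (Uf i) s := by
  classical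
  obtain ⟨σ, hσ⟩ := SheafOfModules.IsFiniteType.exists_localGeneratorsData M
  refine ⟨σ.I, σ.X, σ.coversTop, fun i => ?_⟩
  haveI : Finite (σ.generators i).I := (hσ.isFiniteType i).finite
  haveI : Fintype (σ.generators i).I := Fintype.ofFinite _
  have h := locGen_of_epi M (σ.X i) (σ.generators i).π
  exact ⟨_, _, h.reindex (Fintype.equivFin (σ.generators i).I)⟩

end FT

section FP

variable (M : SheafOfModules.{u} R)

lemma tY_terminal (U : D) : tY U (Over.mk (𝟙 U)) = 𝟙 _ := by
  apply Over.OverMorphism.ext
  rfl

lemma rs_tY_terminal (U : D) (N : SheafOfModules.{u} (R.over U))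
    (x : N.val.obj (op (Over.mk (𝟙 U)))) : rs N (tY U (Over.mk (𝟙 U))) x = x := by
  rw [rs_congr (tY_terminal U), rs_id]

section Data

variable (U : D) {I K : Type u} [Fintype I] [Fintype K]
  (s : I → M.val.obj (op U)) (r : K → I → R.obj.obj (op U))

/-- the morphism `free I ⟶ M.over U` attached to `s` -/
noncomputable abbrev piOf : SheafOfModules.free (R := R.over U) I ⟶ M.over U :=
  freeDesc (tY U) (tY_comp U) (M.over U) s

/-- the relation element in the free module -/
noncomputable def relElt (k : K) :
    (SheafOfModules.free (R := R.over U) I).val.obj (op (Over.mk (𝟙 U))) :=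
  ∑ i, (show (R.over U).obj.obj (op (Over.mk (𝟙 U))) from r k i) •
    basisSec (R.over U) I (op (Over.mk (𝟙 U))) i

lemma app_relElt (hr0 : ∀ k, ∑ i, r k i • s i = 0) (k : K) :
    (piOf M U s).val.app (op (Over.mk (𝟙 U))) (relElt U r k) = 0 := by
  classical
  unfold relElt
  rw [app_sum_basisSec M U (piOf M U s) (Over.mk (𝟙 U)) (r k), gens_freeDesc]
  refine Eq.trans (Finset.sum_congr rfl (fun i _ => ?_)) (hr0 k)
  congr 1
  exact rs_id _

/-- the lifts of the relation elements to the kernel -/
noncomputable def relLift (hr0 : ∀ k, ∑ i, r k i • s i = 0) (k : K) :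
    (kernel (piOf M U s)).val.obj (op (Over.mk (𝟙 U))) :=
  (exists_kernel_lift (piOf M U s) (relElt U r k) (app_relElt M U s r hr0 k)).choose

lemma relLift_spec (hr0 : ∀ k, ∑ i, r k i • s i = 0) (k : K) :
    (kernel.ι (piOf M U s)).val.app (op (Over.mk (𝟙 U))) (relLift M U s r hr0 k) =
      relElt U r k :=
  (exists_kernel_lift (piOf M U s) (relElt U r k) (app_relElt M U s r hr0 k)).choose_spec

/-- the morphism `free K ⟶ kernel π` attached to `r` -/
noncomputable abbrev rhoOf (hr0 : ∀ k, ∑ i, r k i • s i = 0) :
    SheafOfModules.free (R := R.over U) K ⟶ kernel (piOf M U s) :=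
  freeDesc (tY U) (tY_comp U) (kernel (piOf M U s)) (relLift M U s r hr0)

lemma rels_freeDesc [DecidableEq I] [DecidableEq K] (hr0 : ∀ k, ∑ i, r k i • s i = 0) :
    rels M U (piOf M U s) (rhoOf M U s r hr0) = r := by
  funext k
  unfold rels
  have h1 : (rhoOf M U s r hr0 ≫ kernel.ι (piOf M U s)).val.app (op (Over.mk (𝟙 U)))
      (basisSec (R.over U) K (op (Over.mk (𝟙 U))) k) = relElt U r k := by
    change (kernel.ι (piOf M U s)).val.app (op (Over.mk (𝟙 U)))
      ((rhoOf M U s r hr0).val.app (op (Over.mk (𝟙 U)))
        (basisSec (R.over U) K (op (Over.mk (𝟙 U))) k)) = _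
    rw [freeDesc_basisSec, rs_tY_terminal, relLift_spec]
  rw [h1]
  unfold relElt
  exact coords_sum_smul (op (Over.mk (𝟙 U))) _

lemma epi_rhoOf (hr0 : ∀ k, ∑ i, r k i • s i = 0) (hr : RelGen M U s r) :
    Epi (rhoOf M U s r hr0) := by
  classical
  apply epi_of_relGen M U (piOf M U s)
  rw [rels_freeDesc, gens_freeDesc]
  exact hr

/-- the generating sections of the kernel -/
noncomputable def relSections (hr0 : ∀ k, ∑ i, r k i • s i = 0) (hr : RelGen M U s r) :
    (kernel (piOf M U s)).GeneratingSections where
  I := K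
  s := fun k => secOf (tY U) (tY_comp U) (kernel (piOf M U s)) (relLift M U s r hr0 k)
  epi := by
    have h1 := epi_rhoOf M U s r hr0 hr
    unfold rhoOf freeDesc at h1
    exact h1

/-- presentation of `M.over U` from local generators and relations -/
noncomputable def presOfData (hs : LocGen M U s) (hr0 : ∀ k, ∑ i, r k i • s i = 0)
    (hr : RelGen M U s r) : (M.over U).Presentation where
  generators := genSections M U s hs
  relations := relSections M U s r hr0 hr

end Data

theorem isFinitePresentation_of_data (ι : Type u) (Uf : ι → D) (hU : J.CoversTop Uf)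
    (H : ∀ i, ∃ (n : ℕ) (s : Fin n → M.val.obj (op (Uf i))) (m : ℕ)
      (r : Fin m → Fin n → R.obj.obj (op (Uf i))), LocGen M (Uf i) s ∧
        (∀ k, ∑ j, r k j • s j = 0) ∧ RelGen M (Uf i) s r) :
    M.IsFinitePresentation := by
  classical
  choose n s m r hs hr0 hr using H
  let σ : SheafOfModules.QuasicoherentData.{u, u, u, u} M :=
    { I := ι
      X := Uf
      coversTop := hU
      presentation := fun i => presOfData M (Uf i)
        (fun j : ULift.{u} (Fin (n i)) => s i j.down)
        (fun (k : ULift.{u} (Fin (m i))) (j : ULift.{u} (Fin (n i))) => r i k.down j.down)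
        ((hs i).reindex Equiv.ulift.symm)
        (fun k => by
          rw [← hr0 i k.down]
          exact Fintype.sum_equiv Equiv.ulift _ _ (fun j => rfl))
        ((hr i).reindex Equiv.ulift.symm Equiv.ulift.symm) }
  exact { exists_quasicoherentData := ⟨σ, { isFinite_presentation := fun i =>
    { isFiniteType_generators := { finite := inferInstanceAs (Finite (ULift.{u} (Fin (n i)))) }
      isFiniteType_relations := { finite := inferInstanceAs (Finite (ULift.{u} (Fin (m i)))) } } }⟩ }

theorem data_of_presentation (U : D) (P : (M.over U).Presentation) [hP : P.IsFinite] :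
    ∃ (n : ℕ) (s : Fin n → M.val.obj (op U)) (m : ℕ)
      (r : Fin m → Fin n → R.obj.obj (op U)), LocGen M U s ∧
        (∀ k, ∑ j, r k j • s j = 0) ∧ RelGen M U s r := by
  classical
  haveI : Finite P.generators.I := hP.isFiniteType_generators.finite
  haveI : Finite P.relations.I := hP.isFiniteType_relations.finite
  haveI : Fintype P.generators.I := Fintype.ofFinite _
  haveI : Fintype P.relations.I := Fintype.ofFinite _
  have h1 : LocGen M U (gens M U P.generators.π) := locGen_of_epi M U P.generators.π
  have h2 : RelGen M U (gens M U P.generators.π) (rels M U P.generators.π P.relations.π) :=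
    relGen_of_epi M U P.generators.π P.relations.π
  have h3 : ∀ k, ∑ i, rels M U P.generators.π P.relations.π k i • gens M U P.generators.π i = 0 :=
    sum_rels_smul_gens M U P.generators.π P.relations.π
  generalize gens M U P.generators.π = s at h1 h2 h3
  generalize rels M U P.generators.π P.relations.π = r at h2 h3
  let e := Fintype.equivFin P.generators.I
  let f := Fintype.equivFin P.relations.I
  refine ⟨Fintype.card P.generators.I, s ∘ e.symm, Fintype.card P.relations.I,
    fun k' i' => r (f.symm k') (e.symm i'), h1.reindex e, fun k => ?_, h2.reindex e f⟩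
  rw [← h3 (f.symm k)]
  exact Fintype.sum_equiv e.symm _ _ (fun j => rfl)

theorem data_of_isFinitePresentation [M.IsFinitePresentation] :
    ∃ (ι : Type u) (Uf : ι → D), J.CoversTop Uf ∧
      ∀ i, ∃ (n : ℕ) (s : Fin n → M.val.obj (op (Uf i))) (m : ℕ)
        (r : Fin m → Fin n → R.obj.obj (op (Uf i))), LocGen M (Uf i) s ∧
          (∀ k, ∑ j, r k j • s j = 0) ∧ RelGen M (Uf i) s r := by
  obtain ⟨σ, hσ⟩ := SheafOfModules.IsFinitePresentation.exists_quasicoherentData M
  refine ⟨σ.I, σ.X, σ.coversTop, fun i => ?_⟩
  haveI : (σ.presentation i).IsFinite := hσ.isFinite_presentation i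
  exact data_of_presentation M (σ.X i) (σ.presentation i)

end FP

end Groth.Agent.Lib.Helper2.RSMod
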