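import Groth.Agent.Lib.Helper2.RSMod.Perm

/-!
# Free restrictions and exact bases
-/

set_option autoImplicit false
universe u
open CategoryTheory CategoryTheory.Limits Opposite TopologicalSpace

namespace Groth.Agent.Lib.Helper2.RSMod

section Site

variable {D : Type u} [SmallCategory D] {J : GrothendieckTopology D} {R : Sheaf J RingCat.{u}}

theorem mono_of_injective {M N : SheafOfModules.{u} R} (φ : M ⟶ N)
    (h : ∀ V : D, Function.Injective (φ.val.app (op V))) : Mono φ := by
  haveI : Mono φ.val := PresheafOfModules.mono_of_injective (fun X => h X.unop)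
  exact (SheafOfModules.forget R).mono_of_mono_map this

variable (M : SheafOfModules.{u} R) (U : D) {I : Type u} [Fintype I] [DecidableEq I]

/-- an exact basis of `M` over `U` -/
def BasisOn (s : I → M.val.obj (op U)) : Prop :=
  (∀ (V : D) (g : V ⟶ U) (t : M.val.obj (op V)), ∃ a : I → R.obj.obj (op V),
      t = ∑ i, a i • rs M g (s i)) ∧
  (∀ (V : D) (g : V ⟶ U) (a : I → R.obj.obj (op V)), ∑ i, a i • rs M g (s i) = 0 → ∀ i, a i = 0)

theorem basisOn_of_iso (e : SheafOfModules.free (R := R.over U) I ≅ M.over U) :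
    BasisOn M U (gens M U e.hom) := by
  constructor
  · intro V g t
    let Y : Over U := Over.mk g
    let t' : (M.over U).val.obj (op Y) := t
    let y := e.inv.val.app (op Y) t'
    have h1 := hom_eq_sum e.hom (op Y) y
    have h2 : e.hom.val.app (op Y) y = t' :=
      congrArg (fun ψ => (ψ.val.app (op Y)).hom t') e.inv_hom_id
    refine ⟨coords (op Y) y, ?_⟩
    refine h2.symm.trans (h1.trans (Finset.sum_congr rfl (fun i _ => ?_)))
    rw [app_basisSec_over]
    rfl
  · intro V g a ha
    let Y : Over U := Over.mk g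
    let a' : I → (R.over U).obj.obj (op Y) := a
    have h1 : e.hom.val.app (op Y) (∑ i, a' i • basisSec (R.over U) I (op Y) i) = 0 := by
      rw [map_sum]
      refine Eq.trans ?_ ha
      refine Finset.sum_congr rfl (fun i _ => ?_)
      have h2 : e.hom.val.app (op Y) (a' i • basisSec (R.over U) I (op Y) i) =
          a' i • e.hom.val.app (op Y) (basisSec (R.over U) I (op Y) i) :=
        (e.hom.val.app (op Y)).hom.map_smul _ _
      rw [h2, app_basisSec_over]
      rfl
    have h3 : (∑ i, a' i • basisSec (R.over U) I (op Y) i) = 0 := by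
      apply mono_injective e.hom Y
      rw [h1]
      exact ((e.hom.val.app (op Y)).hom.map_zero).symm
    have h4 := coords_sum_smul (op Y) a'
    rw [h3, map_zero] at h4
    intro i
    exact (congrFun h4 i).symm

theorem iso_of_basisOn (s : I → M.val.obj (op U)) (h : BasisOn M U s) :
    Nonempty (M.over U ≅ SheafOfModules.free (R := R.over U) I) := by
  let π := freeDesc (tY U) (tY_comp U) (M.over U) s
  have hg : gens M U π = s := gens_freeDesc M U s
  haveI : Epi π := by
    apply epi_of_locGen
    rw [hg]
    intro V g t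
    obtain ⟨a, ha⟩ := h.1 V g t
    refine ⟨⊤, J.top_mem V, fun W k _ => ⟨fun i => (R.obj.map k.op).hom (a i), ?_⟩⟩
    rw [ha, rs_sum]
    refine Finset.sum_congr rfl (fun i _ => ?_)
    rw [rs_smul, ← rs_comp]
  haveI : Mono π := by
    apply mono_of_injective
    intro Y
    rw [injective_iff_map_eq_zero]
    intro y hy
    have h1 := hom_eq_sum π (op Y) y
    rw [hy] at h1
    have h2 : ∑ i, (show R.obj.obj (op Y.left) from coords (op Y) y i) •
        rs M Y.hom (s i) = 0 := by
      refine Eq.trans ?_ h1.symm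
      refine Finset.sum_congr rfl (fun i _ => ?_)
      rw [app_basisSec_over, hg]
      rfl
    have h3 := h.2 Y.left Y.hom _ h2
    rw [eq_sum_coords (op Y) y]
    refine Finset.sum_eq_zero (fun i _ => ?_)
    have h4 : coords (op Y) y i = 0 := h3 i
    rw [h4, zero_smul]
  haveI : IsIso π := isIso_of_mono_of_epi π
  exact ⟨(asIso π).symm⟩

end Site

section Top

variable {X : TopCat.{u}} {O : TopCat.Sheaf CommRingCat.{u} X} (F : ModSite.Mod O)

/-- a section which vanishes locally vanishes -/
theorem eq_zero_of_locally {V : Opens X} (t : F.val.obj (op V))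
    (h : ∀ x ∈ V, ∃ (W : Opens X) (hW : W ≤ V), x ∈ W ∧ res F hW t = 0) : t = 0 := by
  have hsh : Presieve.IsSheaf (Opens.grothendieckTopology X)
      (F.val.presheaf ⋙ forget AddCommGrpCat.{u}) :=
    (isSheaf_iff_isSheaf_of_type _ _).1
      ((Presheaf.isSheaf_iff_isSheaf_forget _ F.val.presheaf (forget AddCommGrpCat.{u})).1
        F.isSheaf)
  let S : Sieve V :=
    { arrows := fun W f => res F (leOfHom f) t = 0
      downward_closed := by
        intro W W' f hf k
        have h1 : res F (leOfHom (k ≫ f)) t = res F (leOfHom k) (res F (leOfHom f) t) :=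
          (res_res _ _ _).symm
        rw [h1, hf, res_zero] }
  have hS : S ∈ Opens.grothendieckTopology X V := by
    intro x hx
    obtain ⟨W, hW, hxW, h0⟩ := h x hx
    exact ⟨W, homOfLE hW, h0, hxW⟩
  refine (hsh.isSeparated S hS).ext (t₁ := t) (t₂ := (0 : F.val.obj (op V))) ?_
  intro W f hf
  have h2 : res F (leOfHom f) (0 : F.val.obj (op V)) = 0 := res_zero _
  exact hf.trans h2.symm

variable (U : Opens X) {I : Type*} [Fintype I]

/-- pointwise form of an exact basis over `U` -/
def PBasis (s : I → F.val.obj (op U)) : Prop :=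
  (∀ (V : Opens X) (hV : V ≤ U) (t : F.val.obj (op V)),
      ∃ a : I → (ModSite.ringSh O).obj.obj (op V), t = ∑ i, a i • res F hV (s i)) ∧
  (∀ (V : Opens X) (hV : V ≤ U) (a : I → (ModSite.ringSh O).obj.obj (op V)),
      ∑ i, a i • res F hV (s i) = 0 → ∀ i, a i = 0)

variable {F U}

lemma PBasis.eq_of_sum_eq {s : I → F.val.obj (op U)} (h : PBasis F U s) {V : Opens X}
    (hV : V ≤ U) (a b : I → (ModSite.ringSh O).obj.obj (op V))
    (hab : ∑ i, a i • res F hV (s i) = ∑ i, b i • res F hV (s i)) : a = b := by
  funext i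
  have h1 : ∑ i, (a i - b i) • res F hV (s i) = 0 := by
    simp only [sub_smul]
    rw [Finset.sum_sub_distrib, hab, sub_self]
  exact sub_eq_zero.1 (h.2 V hV _ h1 i)

lemma PBasis.restrict {s : I → F.val.obj (op U)} (h : PBasis F U s) {U' : Opens X}
    (hU' : U' ≤ U) : PBasis F U' (fun i => res F hU' (s i)) := by
  constructor
  · intro V hV t
    obtain ⟨a, ha⟩ := h.1 V (hV.trans hU') t
    refine ⟨a, ha.trans (Finset.sum_congr rfl (fun i _ => ?_))⟩
    rw [res_res]
  · intro V hV a ha
    refine h.2 V (hV.trans hU') a (Eq.trans (Finset.sum_congr rfl (fun i _ => ?_)) ha)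
    rw [res_res]

lemma PBasis.pGen {s : I → F.val.obj (op U)} (h : PBasis F U s) : PGen F U s := by
  intro V hV t x hx
  obtain ⟨a, ha⟩ := h.1 V hV t
  refine ⟨V, le_rfl, hx, a, ?_⟩
  rw [res_self]
  exact ha

variable (F U)

theorem exists_pBasis_of_iso {I : Type u} [Fintype I] [DecidableEq I]
    (e : (ModSite.restr O U).obj F ≅ SheafOfModules.free I) :
    ∃ s : I → F.val.obj (op U), PBasis F U s := by
  let e' : SheafOfModules.free (R := (ModSite.ringSh O).over U) I ≅ F.over U := e.symm
  have h := basisOn_of_iso F U e'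
  refine ⟨gens F U e'.hom, ?_, ?_⟩
  · intro V hV t
    exact h.1 V (homOfLE hV) t
  · intro V hV a ha
    exact h.2 V (homOfLE hV) a ha

theorem iso_of_pBasis {I : Type u} [Fintype I] [DecidableEq I] (s : I → F.val.obj (op U))
    (h : PBasis F U s) :
    Nonempty ((ModSite.restr O U).obj F ≅ SheafOfModules.free I) := by
  have h' : BasisOn F U s := by
    constructor
    · intro V g t
      exact h.1 V (leOfHom g) t
    · intro V g a ha
      exact h.2 V (leOfHom g) a ha
  exact iso_of_basisOn F U s h'

end Top

end Groth.Agent.Lib.Helper2.RSMod
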