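import Groth.Agent.Lib.Helper2.RSMod.Free
import Mathlib.LinearAlgebra.Matrix.NonsingularInverse

/-!
# Maps between finite locally free modules of the same rank
-/

set_option autoImplicit false
universe u
open CategoryTheory CategoryTheory.Limits Opposite TopologicalSpace

namespace Groth.Agent.Lib.Helper2.RSMod

variable {X : TopCat.{u}} {O : TopCat.Sheaf CommRingCat.{u} X}

/-- left inverse matrices over the ring of functions are right inverses -/
lemma mul_comm_of_mul_eq_one {I : Type*} [Fintype I] [DecidableEq I] (W : Opens X)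
    (A B : I → I → (ModSite.ringSh O).obj.obj (op W))
    (hBA : ∀ j l, ∑ k, B j k * A k l = if j = l then 1 else 0) :
    ∀ i k, ∑ l, A i l * B l k = if i = k then 1 else 0 := by
  let A' : Matrix I I (O.obj.obj (op W)) := Matrix.of A
  let B' : Matrix I I (O.obj.obj (op W)) := Matrix.of B
  have h1 : B' * A' = 1 := by
    ext j l
    rw [Matrix.mul_apply, Matrix.one_apply]
    exact hBA j l
  have h2 : A' * B' = 1 := mul_eq_one_comm.1 h1
  intro i k
  have h3 := congrFun (congrFun h2 i) k
  rw [Matrix.mul_apply, Matrix.one_apply] at h3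
  exact h3

set_option maxHeartbeats 1600000 in
theorem isIso_iff_epi_of_locFree (r : ℕ) {F G : ModSite.Mod O}
    (hF : ∀ x : X, ∃ U : Opens X, x ∈ U ∧
      Nonempty ((ModSite.restr O U).obj F ≅ SheafOfModules.free (ULift.{u} (Fin r))))
    (hG : ∀ x : X, ∃ U : Opens X, x ∈ U ∧
      Nonempty ((ModSite.restr O U).obj G ≅ SheafOfModules.free (ULift.{u} (Fin r))))
    (φ : F ⟶ G) : IsIso φ ↔ Epi φ := by
  classical
  constructor
  · intro h
    infer_instance
  · intro hE
    haveI : Mono φ := by
      apply mono_of_injective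
      intro V
      rw [injective_iff_map_eq_zero]
      intro y hy
      apply eq_zero_of_locally
      intro x hx
      obtain ⟨UF, hxF, ⟨eF⟩⟩ := hF x
      obtain ⟨UG, hxG, ⟨eG⟩⟩ := hG x
      obtain ⟨sF, hsF⟩ := exists_pBasis_of_iso F UF eF
      obtain ⟨sG, hsG⟩ := exists_pBasis_of_iso G UG eG
      have hW₀G : V ⊓ UF ⊓ UG ≤ UG := inf_le_right
      obtain ⟨W, hW, hxW, hlift⟩ := exists_common_nbhd (ι := ULift.{u} (Fin r)) x (V ⊓ UF ⊓ UG)
        ⟨⟨hx, hxF⟩, hxG⟩
        (fun j W => ∃ (hWG : W ≤ UG) (g : F.val.obj (op W)),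
          φ.val.app (op W) g = res G hWG (sG j))
        (by
          rintro j W W' hWW' ⟨hWG, g, hg⟩
          refine ⟨hWW'.trans hWG, res F hWW' g, ?_⟩
          rw [hom_res, hg, res_res])
        (fun j => by
          obtain ⟨W, hW, hxW, g, hg⟩ := exists_lift_nbhd φ (res G hW₀G (sG j)) x
            ⟨⟨hx, hxF⟩, hxG⟩
          refine ⟨W, hW, hxW, hW.trans hW₀G, g, ?_⟩
          rw [hg, res_res])
      choose hWG' g hg using hlift
      have hWF : W ≤ UF := hW.trans (inf_le_left.trans inf_le_right)
      have hWG : W ≤ UG := hW.trans hW₀G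
      have hWV : W ≤ V := hW.trans (inf_le_left.trans inf_le_left)
      choose A hA using fun i => hsG.1 W hWG (φ.val.app (op W) (res F hWF (sF i)))
      choose B hB using fun j => hsF.1 W hWF (g j)
      have hBA : ∀ j l, ∑ k, B j k * A k l = if j = l then 1 else 0 := by
        intro j
        have h1 : (fun l => ∑ k, B j k * A k l) = (fun l => if j = l then 1 else 0) := by
          apply hsG.eq_of_sum_eq hWG
          have h2 : ∑ l, (∑ k, B j k * A k l) • res G hWG (sG l) = φ.val.app (op W) (g j) := by
            rw [hB j, hom_sum]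
            simp only [hom_smul, hA, Finset.smul_sum, Finset.sum_smul, mul_smul]
            rw [Finset.sum_comm]
          rw [h2, hg j]
          simp only [ite_smul, one_smul, zero_smul, Finset.sum_ite_eq, Finset.mem_univ, if_true]
        exact fun l => congrFun h1 l
      have hAB := mul_comm_of_mul_eq_one W A B hBA
      refine ⟨W, hWV, hxW, ?_⟩
      obtain ⟨c, hc⟩ := hsF.1 W hWF (res F hWV y)
      have h3 : ∑ l, (∑ i, c i * A i l) • res G hWG (sG l) = 0 := by
        have h4 : φ.val.app (op W) (res F hWV y) = 0 := by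
          rw [hom_res, hy, res_zero]
        rw [← h4, hc, hom_sum]
        simp only [hom_smul, hA, Finset.smul_sum, Finset.sum_smul, mul_smul]
        rw [Finset.sum_comm]
      have h5 := hsG.2 W hWG _ h3
      have h6 : ∀ k, c k = 0 := by
        intro k
        have h7 : c k = ∑ l, (∑ i, c i * A i l) * B l k := by
          simp only [Finset.sum_mul, mul_assoc]
          rw [Finset.sum_comm]
          simp only [← Finset.mul_sum, hAB]
          simp only [mul_ite, mul_one, mul_zero, Finset.sum_ite_eq', Finset.mem_univ, if_true]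
        rw [h7]
        refine Finset.sum_eq_zero (fun l _ => ?_)
        rw [h5 l, zero_mul]
      rw [hc]
      refine Finset.sum_eq_zero (fun i _ => ?_)
      rw [h6 i, zero_smul]
    exact isIso_of_mono_of_epi φ

end Groth.Agent.Lib.Helper2.RSMod
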