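import Groth.Agent.Lib.Helper2.RSMod.Site

/-!
# Local generators and relations of sheaves of modules, elementwise
-/

set_option autoImplicit false
universe u
open CategoryTheory CategoryTheory.Limits Opposite

namespace Groth.Agent.Lib.Helper2.RSMod

section Terminal

variable {D : Type u} [SmallCategory D] {J : GrothendieckTopology D} {R : Sheaf J RingCat.{u}}
variable {T : D} (τ : ∀ X : D, X ⟶ T) (hτ : ∀ {X Y : D} (f : X ⟶ Y), f ≫ τ Y = τ X)

/-- The global section attached to an element over the terminal object. -/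
noncomputable def secOf (M : SheafOfModules.{u} R) (m : M.val.obj (op T)) : M.sections :=
  PresheafOfModules.sectionsMk (fun X => M.val.map (τ X.unop).op m) (by
    intro X Y f
    rw [← PresheafOfModules.map_comp_apply]
    exact PresheafOfModules.congr_map_apply _
      (congrArg Quiver.Hom.op (hτ f.unop)) m)

lemma secOf_val (M : SheafOfModules.{u} R) (m : M.val.obj (op T)) (X : Dᵒᵖ) :
    (secOf τ hτ M m).val X = rs M (τ X.unop) m := rfl

/-- the morphism from a free module attached to a family of elements over the terminal object -/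
noncomputable def freeDesc (M : SheafOfModules.{u} R) {I : Type u} (s : I → M.val.obj (op T)) :
    SheafOfModules.free (R := R) I ⟶ M :=
  M.freeHomEquiv.symm (fun i => secOf τ hτ M (s i))

lemma freeDesc_basisSec (M : SheafOfModules.{u} R) {I : Type u} (s : I → M.val.obj (op T))
    (X : Dᵒᵖ) (i : I) :
    (freeDesc τ hτ M s).val.app X (basisSec R I X i) = rs M (τ X.unop) (s i) := by
  have h : M.freeHomEquiv (freeDesc τ hτ M s) i = secOf τ hτ M (s i) := by
    unfold freeDesc
    rw [Equiv.apply_symm_apply]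
  have h2 := congrArg (fun σ => σ.val X) h
  exact h2

lemma app_basisSec {N : SheafOfModules.{u} R} {I : Type u}
    (π : SheafOfModules.free (R := R) I ⟶ N) (X : Dᵒᵖ) (i : I) :
    π.val.app X (basisSec R I X i) =
      rs N (τ X.unop) (π.val.app (op T) (basisSec R I (op T) i)) := by
  rw [← hom_rs, basisSec_rs]

end Terminal

variable {D : Type u} [SmallCategory D] {J : GrothendieckTopology D} {R : Sheaf J RingCat.{u}}

section LocGen

variable (M : SheafOfModules.{u} R) (U : D) {I K : Type*} [Fintype I] [Fintype K]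

/-- the sections `s` generate `M` locally over `U` -/
def LocGen (s : I → M.val.obj (op U)) : Prop :=
  ∀ (V : D) (g : V ⟶ U) (t : M.val.obj (op V)), ∃ S : Sieve V, S ∈ J V ∧
    ∀ ⦃W : D⦄ (h : W ⟶ V), S h → ∃ a : I → R.obj.obj (op W),
      rs M h t = ∑ i, a i • rs M (h ≫ g) (s i)

/-- the tuples `r` generate the relations between the `s` locally over `U` -/
def RelGen (s : I → M.val.obj (op U)) (r : K → I → R.obj.obj (op U)) : Prop :=
  ∀ (V : D) (g : V ⟶ U) (a : I → R.obj.obj (op V)), ∑ i, a i • rs M g (s i) = 0 →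
    ∃ S : Sieve V, S ∈ J V ∧ ∀ ⦃W : D⦄ (h : W ⟶ V), S h → ∃ c : K → R.obj.obj (op W),
      ∀ i, (R.obj.map h.op).hom (a i) = ∑ k, c k * (R.obj.map (h ≫ g).op).hom (r k i)

end LocGen

section Bridge

variable (M : SheafOfModules.{u} R) (U : D)

/-- the canonical map to the terminal object of `Over U` -/
def tY (Y : Over U) : Y ⟶ Over.mk (𝟙 U) := Over.homMk Y.hom (by simp)

lemma tY_comp {X Y : Over U} (f : X ⟶ Y) : f ≫ tY U Y = tY U X := by
  apply Over.OverMorphism.ext
  simp [tY]

variable {I : Type u} [Fintype I] [DecidableEq I]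

/-- the elements of `M(U)` attached to a morphism `free I ⟶ M.over U` -/
noncomputable def gens (π : SheafOfModules.free (R := R.over U) I ⟶ M.over U) (i : I) :
    M.val.obj (op U) :=
  π.val.app (op (Over.mk (𝟙 U))) (basisSec (R.over U) I (op (Over.mk (𝟙 U))) i)

lemma app_basisSec_over (π : SheafOfModules.free (R := R.over U) I ⟶ M.over U) (Y : Over U)
    (i : I) :
    π.val.app (op Y) (basisSec (R.over U) I (op Y) i) = rs M Y.hom (gens M U π i) :=
  app_basisSec (tY U) π (op Y) i

theorem locGen_of_epi (π : SheafOfModules.free (R := R.over U) I ⟶ M.over U) [Epi π] :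
    LocGen M U (gens M U π) := by
  intro V g t
  obtain ⟨S', hS', h'⟩ := exists_local_lift π (V := Over.mk g) t
  refine ⟨Sieve.overEquiv (Over.mk g) S', (J.mem_over_iff S').1 hS', fun W h hh => ?_⟩
  have hh' : S' (Over.homMk h : Over.mk (h ≫ g) ⟶ Over.mk g) :=
    (Sieve.overEquiv_iff (Y := Over.mk g) S' h).1 hh
  obtain ⟨y, hy⟩ := h' _ hh'
  refine ⟨coords (op (Over.mk (h ≫ g))) y, ?_⟩
  have h1 := hom_eq_sum π (op (Over.mk (h ≫ g))) y
  rw [hy] at h1
  refine h1.trans (Finset.sum_congr rfl (fun i _ => ?_))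
  rw [app_basisSec_over]
  rfl

theorem epi_of_locGen (π : SheafOfModules.free (R := R.over U) I ⟶ M.over U)
    (H : LocGen M U (gens M U π)) : Epi π := by
  apply epi_of_local_lift
  intro Y t
  obtain ⟨S, hS, h'⟩ := H Y.left Y.hom t
  refine ⟨(Sieve.overEquiv Y).symm S, (J.mem_over_iff _).2
    (((Sieve.overEquiv Y).apply_symm_apply S).symm ▸ hS), fun Y' k hk => ?_⟩
  have hk' : S k.left := (Sieve.overEquiv_symm_iff S k).1 hk
  obtain ⟨a, ha⟩ := h' k.left hk'
  let a' : I → (R.over U).obj.obj (op Y') := a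
  refine ⟨∑ i, a' i • basisSec (R.over U) I (op Y') i, ?_⟩
  rw [map_sum]
  refine Eq.trans ?_ ha.symm
  refine Finset.sum_congr rfl (fun i _ => ?_)
  have h2 : π.val.app (op Y') (a' i • basisSec (R.over U) I (op Y') i) =
      a' i • π.val.app (op Y') (basisSec (R.over U) I (op Y') i) :=
    (π.val.app (op Y')).hom.map_smul _ _
  rw [h2, app_basisSec_over]
  have h3 : Y'.hom = k.left ≫ Y.hom := (Over.w k).symm
  rw [rs_congr h3]
  rfl

end Bridge

section Rel

variable (M : SheafOfModules.{u} R) (U : D)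
variable {I K : Type u} [Fintype I] [DecidableEq I] [Fintype K] [DecidableEq K]
variable (π : SheafOfModules.free (R := R.over U) I ⟶ M.over U)

/-- the relation tuples attached to a morphism `free K ⟶ kernel π` -/
noncomputable def rels (ρ : SheafOfModules.free (R := R.over U) K ⟶ kernel π) (k : K) :
    I → R.obj.obj (op U) :=
  coords (op (Over.mk (𝟙 U))) ((ρ ≫ kernel.ι π).val.app (op (Over.mk (𝟙 U)))
    (basisSec (R.over U) K (op (Over.mk (𝟙 U))) k))

lemma coords_comp_basisSec (ρ : SheafOfModules.free (R := R.over U) K ⟶ kernel π) (Y : Over U)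
    (k : K) (i : I) :
    coords (op Y) ((ρ ≫ kernel.ι π).val.app (op Y) (basisSec (R.over U) K (op Y) k)) i =
      (R.obj.map Y.hom.op).hom (rels M U π ρ k i) := by
  rw [app_basisSec (tY U) (ρ ≫ kernel.ι π) (op Y) k, coords_rs]
  rfl

/-- the value of `π` on a combination of basis sections -/
lemma app_sum_basisSec (Y : Over U) (a : I → R.obj.obj (op Y.left)) :
    π.val.app (op Y) (∑ i, (show (R.over U).obj.obj (op Y) from a i) •
      basisSec (R.over U) I (op Y) i) = ∑ i, a i • rs M Y.hom (gens M U π i) := by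
  rw [map_sum]
  refine Finset.sum_congr rfl (fun i _ => ?_)
  have h2 : π.val.app (op Y) ((show (R.over U).obj.obj (op Y) from a i) •
      basisSec (R.over U) I (op Y) i) =
      (show (R.over U).obj.obj (op Y) from a i) •
        π.val.app (op Y) (basisSec (R.over U) I (op Y) i) :=
    (π.val.app (op Y)).hom.map_smul _ _
  rw [h2, app_basisSec_over]
  rfl

theorem relGen_of_epi (ρ : SheafOfModules.free (R := R.over U) K ⟶ kernel π) [Epi ρ] :
    RelGen M U (gens M U π) (rels M U π ρ) := by
  intro V g a ha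
  let Y : Over U := Over.mk g
  let a' : I → (R.over U).obj.obj (op Y) := a
  let y : (SheafOfModules.free (R := R.over U) I).val.obj (op Y) :=
    ∑ i, a' i • basisSec (R.over U) I (op Y) i
  have hy : π.val.app (op Y) y = 0 := (app_sum_basisSec M U π Y a).trans ha
  obtain ⟨z, hz⟩ := exists_kernel_lift π y hy
  obtain ⟨S', hS', h'⟩ := exists_local_lift ρ (V := Y) z
  refine ⟨Sieve.overEquiv Y S', (J.mem_over_iff S').1 hS', fun W h hh => ?_⟩
  have hh' : S' (Over.homMk h : Over.mk (h ≫ g) ⟶ Over.mk g) :=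
    (Sieve.overEquiv_iff (Y := Over.mk g) S' h).1 hh
  obtain ⟨w, hw⟩ := h' _ hh'
  let Y' : Over U := Over.mk (h ≫ g)
  let kk : Y' ⟶ Y := Over.homMk h
  refine ⟨coords (op Y') w, fun i => ?_⟩
  -- compute `rs y` in two ways
  have e1 : (ρ ≫ kernel.ι π).val.app (op Y') w = rs _ kk y := by
    change (kernel.ι π).val.app (op Y') (ρ.val.app (op Y') w) = _
    rw [hw, hom_rs, hz]
  have e2 : coords (op Y') (rs _ kk y) i = (R.obj.map h.op).hom (a i) := by
    rw [coords_rs]
    have : coords (op Y) y = a' := coords_sum_smul (op Y) a'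
    rw [this]
    rfl
  rw [← e2, ← e1, hom_eq_sum (ρ ≫ kernel.ι π) (op Y') w, map_sum, Finset.sum_apply]
  refine Finset.sum_congr rfl (fun k _ => ?_)
  rw [map_smul, Pi.smul_apply, coords_comp_basisSec]
  rfl

theorem epi_of_relGen (ρ : SheafOfModules.free (R := R.over U) K ⟶ kernel π)
    (H : RelGen M U (gens M U π) (rels M U π ρ)) : Epi ρ := by
  apply epi_of_local_lift
  intro Y z
  let y := (kernel.ι π).val.app (op Y) z
  let a : I → R.obj.obj (op Y.left) := coords (op Y) y
  have hy : π.val.app (op Y) y = 0 := kernel_ι_comp_apply π z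
  have ha : ∑ i, a i • rs M Y.hom (gens M U π i) = 0 := by
    rw [← app_sum_basisSec M U π Y a]
    have : (∑ i, (show (R.over U).obj.obj (op Y) from a i) • basisSec (R.over U) I (op Y) i) = y :=
      (eq_sum_coords (op Y) y).symm
    rw [this, hy]
    rfl
  obtain ⟨S, hS, h'⟩ := H Y.left Y.hom a ha
  refine ⟨(Sieve.overEquiv Y).symm S, (J.mem_over_iff _).2
    (((Sieve.overEquiv Y).apply_symm_apply S).symm ▸ hS), fun Y' k hk => ?_⟩
  have hk' : S k.left := (Sieve.overEquiv_symm_iff S k).1 hk
  obtain ⟨c, hc⟩ := h' k.left hk'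
  let c' : K → (R.over U).obj.obj (op Y') := c
  let w : (SheafOfModules.free (R := R.over U) K).val.obj (op Y') :=
    ∑ k, c' k • basisSec (R.over U) K (op Y') k
  refine ⟨w, ?_⟩
  apply mono_injective (kernel.ι π) Y'
  -- compare coordinates
  have hinj : Function.Injective (coords (R := R.over U) (I := I) (op Y')) := by
    intro p q hpq
    rw [eq_sum_coords (op Y') p, eq_sum_coords (op Y') q, hpq]
  apply hinj
  funext i
  have e1 : (kernel.ι π).val.app (op Y') (ρ.val.app (op Y') w) =
      (ρ ≫ kernel.ι π).val.app (op Y') w := rfl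
  rw [e1, hom_eq_sum (ρ ≫ kernel.ι π) (op Y') w, map_sum, Finset.sum_apply]
  have hw : coords (op Y') w = c' := coords_sum_smul (op Y') c'
  rw [hw, hom_rs, coords_rs]
  have h3 : Y'.hom = k.left ≫ Y.hom := (Over.w k).symm
  refine Eq.trans ?_ (hc i).symm
  refine Finset.sum_congr rfl (fun k' _ => ?_)
  rw [map_smul, Pi.smul_apply, coords_comp_basisSec]
  have h4 : (R.obj.map Y'.hom.op).hom (rels M U π ρ k' i) =
      (R.obj.map (k.left ≫ Y.hom).op).hom (rels M U π ρ k' i) := by rw [h3]
  rw [h4]
  rfl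

theorem sum_rels_smul_gens (ρ : SheafOfModules.free (R := R.over U) K ⟶ kernel π) (k : K) :
    ∑ i, rels M U π ρ k i • gens M U π i = 0 := by
  let T : Over U := Over.mk (𝟙 U)
  let y := (ρ ≫ kernel.ι π).val.app (op T) (basisSec (R.over U) K (op T) k)
  have hy : π.val.app (op T) y = 0 := kernel_ι_comp_apply π _
  have h1 := app_sum_basisSec M U π T (rels M U π ρ k)
  have : (∑ i, (show (R.over U).obj.obj (op T) from rels M U π ρ k i) •
      basisSec (R.over U) I (op T) i) = y := (eq_sum_coords (op T) y).symm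
  rw [this, hy] at h1
  refine Eq.trans (Finset.sum_congr rfl (fun i _ => ?_)) h1.symm
  congr 1
  exact (rs_id _).symm

end Rel

end Groth.Agent.Lib.Helper2.RSMod
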