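import Groth.Agent.Lib.Helper2.RSMod.ColimKer
import Mathlib.Topology.Sheaves.SheafCondition.UniqueGluing

/-!
# Partial morphisms of sheaves of modules over an open subset, and gluing
-/

set_option autoImplicit false
universe u
open CategoryTheory CategoryTheory.Limits Opposite TopologicalSpace

namespace Groth.Agent.Lib.Helper2.RSMod

variable {X : TopCat.{u}} {O : TopCat.Sheaf CommRingCat.{u} X}

section Glue

variable (H : ModSite.Mod O)

theorem eq_of_locally {V : Opens X} (s s' : H.val.obj (op V))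
    (h : ∀ x ∈ V, ∃ (W : Opens X) (hW : W ≤ V), x ∈ W ∧ res H hW s = res H hW s') : s = s' := by
  rw [← sub_eq_zero]
  apply eq_zero_of_locally
  intro x hx
  obtain ⟨W, hW, hxW, e⟩ := h x hx
  exact ⟨W, hW, hxW, by rw [res_sub, e, sub_self]⟩

theorem exists_glue {V : Opens X} {J : Type*} (W : J → Opens X) (hW : ∀ j, W j ≤ V)
    (hcov : ∀ x ∈ V, ∃ j, x ∈ W j) (σ : ∀ j, H.val.obj (op (W j)))
    (hcompat : ∀ j j', res H (inf_le_left : W j ⊓ W j' ≤ W j) (σ j) =
      res H (inf_le_right : W j ⊓ W j' ≤ W j') (σ j')) :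
    ∃ s : H.val.obj (op V), ∀ j, res H (hW j) s = σ j := by
  let Hs : TopCat.Sheaf AddCommGrpCat.{u} X := ⟨H.val.presheaf, H.isSheaf⟩
  obtain ⟨s, hs, -⟩ := Hs.existsUnique_gluing' W V (fun j => homOfLE (hW j))
    (fun x hx => Opens.mem_iSup.2 (hcov x hx)) σ (fun j j' => hcompat j j')
  exact ⟨s, hs⟩

end Glue

/-- a morphism `G|_U ⟶ H|_U`, given on sections over the opens contained in `U` -/
structure PHom (G H : ModSite.Mod O) (U : Opens X) where
  app : ∀ (V : Opens X), V ≤ U → G.val.obj (op V) → H.val.obj (op V)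
  map_add : ∀ V hV t t', app V hV (t + t') = app V hV t + app V hV t'
  map_smul : ∀ V hV (a : (ModSite.ringSh O).obj.obj (op V)) t,
    app V hV (a • t) = a • app V hV t
  nat : ∀ V W (hV : V ≤ U) (hW : W ≤ V) t,
    app W (hW.trans hV) (res G hW t) = res H hW (app V hV t)

namespace PHom

variable {G H K : ModSite.Mod O} {U : Opens X}

@[ext]
lemma ext {ψ ψ' : PHom G H U} (h : ∀ V hV t, ψ.app V hV t = ψ'.app V hV t) : ψ = ψ' := by
  cases ψ; cases ψ'
  congr
  funext V hV t
  exact h V hV t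

lemma map_zero (ψ : PHom G H U) (V : Opens X) (hV : V ≤ U) : ψ.app V hV 0 = 0 := by
  have h := ψ.map_add V hV 0 0
  rw [add_zero] at h
  exact left_eq_add.1 h

lemma map_sum (ψ : PHom G H U) (V : Opens X) (hV : V ≤ U) {ι : Type*} (T : Finset ι)
    (f : ι → G.val.obj (op V)) : ψ.app V hV (∑ i ∈ T, f i) = ∑ i ∈ T, ψ.app V hV (f i) := by
  classical
  induction T using Finset.induction_on with
  | empty => simp [map_zero]
  | insert a T ha ih => rw [Finset.sum_insert ha, Finset.sum_insert ha, ψ.map_add, ih]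

lemma map_neg (ψ : PHom G H U) (V : Opens X) (hV : V ≤ U) (t : G.val.obj (op V)) :
    ψ.app V hV (-t) = - ψ.app V hV t := by
  have h := ψ.map_add V hV t (-t)
  rw [add_neg_cancel, map_zero] at h
  exact (neg_eq_of_add_eq_zero_right h.symm).symm

lemma map_sub (ψ : PHom G H U) (V : Opens X) (hV : V ≤ U) (t t' : G.val.obj (op V)) :
    ψ.app V hV (t - t') = ψ.app V hV t - ψ.app V hV t' := by
  rw [sub_eq_add_neg, ψ.map_add, map_neg, ← sub_eq_add_neg]

/-- the partial morphism of a morphism -/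
def ofHom (φ : G ⟶ H) (U : Opens X) : PHom G H U where
  app V _ t := φ.val.app (op V) t
  map_add V _ t t' := hom_add φ t t'
  map_smul V _ a t := hom_smul φ a t
  nat V W _ hW t := hom_res φ hW t

/-- restriction to a smaller open -/
def restrict (ψ : PHom G H U) {U' : Opens X} (h : U' ≤ U) : PHom G H U' where
  app V hV t := ψ.app V (hV.trans h) t
  map_add V hV t t' := ψ.map_add V _ t t'
  map_smul V hV a t := ψ.map_smul V _ a t
  nat V W hV hW t := ψ.nat V W _ hW t

/-- composition with a morphism -/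
def comp (ψ : PHom G H U) (φ : H ⟶ K) : PHom G K U where
  app V hV t := φ.val.app (op V) (ψ.app V hV t)
  map_add V hV t t' := by rw [ψ.map_add, hom_add]
  map_smul V hV a t := by rw [ψ.map_smul, hom_smul]
  nat V W hV hW t := by rw [ψ.nat, hom_res]

/-- a partial morphism over the whole space is a morphism -/
noncomputable def toHom (ψ : PHom G H ⊤) : G ⟶ H :=
  ⟨{ app := fun Y => ModuleCat.ofHom
        { toFun := ψ.app Y.unop le_top
          map_add' := ψ.map_add _ _
          map_smul' := ψ.map_smul _ _ }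
     naturality := by
      intro Y Z f
      ext t
      exact ψ.nat Y.unop Z.unop le_top (leOfHom f.unop) t }⟩

lemma toHom_apply (ψ : PHom G H ⊤) (V : Opens X) (t : G.val.obj (op V)) :
    ψ.toHom.val.app (op V) t = ψ.app V le_top t := rfl

lemma ofHom_toHom (ψ : PHom G H ⊤) : ofHom ψ.toHom ⊤ = ψ := by
  ext V hV t
  rfl

lemma toHom_ofHom (φ : G ⟶ H) : (ofHom φ ⊤).toHom = φ := by
  apply SheafOfModules.hom_ext
  apply PresheafOfModules.hom_ext
  intro Y
  ext t
  rfl

end PHom

namespace PHom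

variable {G H K : ModSite.Mod O} {U : Opens X}

theorem ext_of_gens {I : Type*} [Fintype I] {s : I → G.val.obj (op U)} (hs : PGen G U s)
    (ψ ψ' : PHom G H U) (h : ∀ i, ψ.app U le_rfl (s i) = ψ'.app U le_rfl (s i)) : ψ = ψ' := by
  ext V hV t
  apply eq_of_locally
  intro x hx
  obtain ⟨W, hW, hxW, a, ha⟩ := hs V hV t x hx
  refine ⟨W, hW, hxW, ?_⟩
  rw [← ψ.nat, ← ψ'.nat, ha, map_sum, map_sum]
  refine Finset.sum_congr rfl (fun i _ => ?_)
  rw [ψ.map_smul, ψ'.map_smul]
  have h1 := ψ.nat U W le_rfl (hW.trans hV) (s i)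
  have h2 := ψ'.nat U W le_rfl (hW.trans hV) (s i)
  rw [h1, h2, h i]

section Glue

variable {J : Type*} (Uc : J → Opens X) (hcov : ∀ x : X, ∃ j, x ∈ Uc j)
  (ψ : ∀ j, PHom G H (Uc j))
  (hcompat : ∀ j j', (ψ j).restrict (inf_le_left : Uc j ⊓ Uc j' ≤ Uc j) =
    (ψ j').restrict (inf_le_right : Uc j ⊓ Uc j' ≤ Uc j'))

include hcov hcompat in
lemma glue_exists (V : Opens X) (t : G.val.obj (op V)) :
    ∃ v : H.val.obj (op V), ∀ j, res H (inf_le_left : V ⊓ Uc j ≤ V) v =
      (ψ j).app (V ⊓ Uc j) inf_le_right (res G inf_le_left t) := by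
  apply exists_glue H (fun j => V ⊓ Uc j) (fun j => inf_le_left)
    (fun x hx => by obtain ⟨j, hj⟩ := hcov x; exact ⟨j, hx, hj⟩)
  intro j j'
  rw [← (ψ j).nat, ← (ψ j').nat, res_res, res_res]
  have hle : (V ⊓ Uc j) ⊓ (V ⊓ Uc j') ≤ Uc j ⊓ Uc j' :=
    le_inf (inf_le_left.trans inf_le_right) (inf_le_right.trans inf_le_right)
  exact congrArg (fun ψ => ψ.app ((V ⊓ Uc j) ⊓ (V ⊓ Uc j')) hle
    (res G (inf_le_left.trans inf_le_left) t)) (hcompat j j')

/-- the value of the glued morphism -/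
noncomputable def glueVal (V : Opens X) (t : G.val.obj (op V)) : H.val.obj (op V) :=
  (glue_exists Uc hcov ψ hcompat V t).choose

lemma glueVal_spec (V : Opens X) (t : G.val.obj (op V)) (j : J) (W : Opens X) (hW : W ≤ V)
    (hWj : W ≤ Uc j) :
    res H hW (glueVal Uc hcov ψ hcompat V t) = (ψ j).app W hWj (res G hW t) := by
  have h1 := (glue_exists Uc hcov ψ hcompat V t).choose_spec j
  have hW' : W ≤ V ⊓ Uc j := le_inf hW hWj
  have h2 : res H hW (glueVal Uc hcov ψ hcompat V t) =
      res H hW' (res H inf_le_left (glueVal Uc hcov ψ hcompat V t)) := (res_res _ _ _).symm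
  rw [h2]
  unfold glueVal
  rw [h1, ← (ψ j).nat, res_res]

/-- gluing of partial morphisms over an open cover of the space -/
noncomputable def glue : PHom G H ⊤ where
  app V _ t := glueVal Uc hcov ψ hcompat V t
  map_add V _ t t' := by
    apply eq_of_locally
    intro x hx
    obtain ⟨j, hj⟩ := hcov x
    refine ⟨V ⊓ Uc j, inf_le_left, ⟨hx, hj⟩, ?_⟩
    rw [res_add, glueVal_spec Uc hcov ψ hcompat V _ j _ inf_le_left inf_le_right,
      glueVal_spec Uc hcov ψ hcompat V _ j _ inf_le_left inf_le_right,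
      glueVal_spec Uc hcov ψ hcompat V _ j _ inf_le_left inf_le_right, res_add, (ψ j).map_add]
  map_smul V _ a t := by
    apply eq_of_locally
    intro x hx
    obtain ⟨j, hj⟩ := hcov x
    refine ⟨V ⊓ Uc j, inf_le_left, ⟨hx, hj⟩, ?_⟩
    rw [res_smul, glueVal_spec Uc hcov ψ hcompat V _ j _ inf_le_left inf_le_right,
      glueVal_spec Uc hcov ψ hcompat V _ j _ inf_le_left inf_le_right, res_smul, (ψ j).map_smul]
  nat V W _ hW t := by
    apply eq_of_locally
    intro x hx
    obtain ⟨j, hj⟩ := hcov x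
    refine ⟨W ⊓ Uc j, inf_le_left, ⟨hx, hj⟩, ?_⟩
    rw [glueVal_spec Uc hcov ψ hcompat W _ j _ inf_le_left inf_le_right, res_res, res_res,
      glueVal_spec Uc hcov ψ hcompat V _ j _ (inf_le_left.trans hW) inf_le_right]

lemma glue_restrict (j : J) : (glue Uc hcov ψ hcompat).restrict le_top = ψ j := by
  ext V hV t
  show glueVal Uc hcov ψ hcompat V t = _
  have h1 := glueVal_spec Uc hcov ψ hcompat V t j V le_rfl hV
  rw [res_self, res_self] at h1
  exact h1

end Glue

end PHom

end Groth.Agent.Lib.Helper2.RSMod
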