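import Groth.Agent.Lib.Helper2.RSMod.PHom

/-!
# Partial morphisms out of a locally presented module, from values on generators
-/

set_option autoImplicit false
universe u
open CategoryTheory CategoryTheory.Limits Opposite TopologicalSpace

namespace Groth.Agent.Lib.Helper2.RSMod

variable {X : TopCat.{u}} {O : TopCat.Sheaf CommRingCat.{u} X}

namespace PHom

variable {G H : ModSite.Mod O} {U : Opens X} {n m : ℕ}
  (s : Fin n → G.val.obj (op U)) (r : Fin m → Fin n → (ModSite.ringSh O).obj.obj (op U))
  (hgen : PGen G U s) (hrel : PRel G U s r)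
  (h : Fin n → H.val.obj (op U)) (hh : ∀ k, ∑ a, r k a • h a = 0)

include hrel hh in
/-- combinations of the generators with the same value have the same image -/
lemma combo_eq {W : Opens X} (hW : W ≤ U) (a a' : Fin n → (ModSite.ringSh O).obj.obj (op W))
    (e : ∑ k, a k • res G hW (s k) = ∑ k, a' k • res G hW (s k)) :
    ∑ k, a k • res H hW (h k) = ∑ k, a' k • res H hW (h k) := by
  apply eq_of_locally
  intro x hx
  have e0 : ∑ k, (a k - a' k) • res G hW (s k) = 0 := by
    simp only [sub_smul]
    rw [Finset.sum_sub_distrib, e, sub_self]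
  obtain ⟨W', hW', hxW', c, hc⟩ := hrel W hW (fun k => a k - a' k) e0 x hx
  refine ⟨W', hW', hxW', ?_⟩
  rw [← sub_eq_zero, ← res_sub, ← Finset.sum_sub_distrib]
  simp only [← sub_smul]
  rw [res_sum]
  have h1 : ∀ k, res H hW' ((a k - a' k) • res H hW (h k)) =
      ∑ b, c b • res H (hW'.trans hW) (r b k • h k) := by
    intro k
    rw [res_smul, hc k, Finset.sum_smul, res_res]
    refine Finset.sum_congr rfl (fun b _ => ?_)
    rw [res_smul, mul_smul]
  rw [Finset.sum_congr rfl (fun k _ => h1 k), Finset.sum_comm]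
  refine Finset.sum_eq_zero (fun b _ => ?_)
  rw [← Finset.smul_sum, ← res_sum, hh b, res_zero, smul_zero]

include hgen hrel hh in
lemma ofGens_exists (V : Opens X) (hV : V ≤ U) (t : G.val.obj (op V)) :
    ∃ v : H.val.obj (op V), ∀ (W : Opens X) (hW : W ≤ V)
      (a : Fin n → (ModSite.ringSh O).obj.obj (op W)),
      res G hW t = ∑ k, a k • res G (hW.trans hV) (s k) →
      res H hW v = ∑ k, a k • res H (hW.trans hV) (h k) := by
  let Idx := {p : (W : Opens X) × (Fin n → (ModSite.ringSh O).obj.obj (op W)) //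
    ∃ hW : p.1 ≤ V, res G hW t = ∑ k, p.2 k • res G (hW.trans hV) (s k)}
  have hle : ∀ p : Idx, p.1.1 ≤ V := fun p => p.2.choose
  have hp : ∀ p : Idx, res G (hle p) t = ∑ k, p.1.2 k • res G ((hle p).trans hV) (s k) :=
    fun p => p.2.choose_spec
  obtain ⟨v, hv⟩ := exists_glue H (fun p : Idx => p.1.1) hle
    (fun x hx => by
      obtain ⟨W, hW, hxW, a, ha⟩ := hgen V hV t x hx
      exact ⟨⟨⟨W, a⟩, hW, ha⟩, hxW⟩)
    (fun p => ∑ k, p.1.2 k • res H ((hle p).trans hV) (h k))
    (by
      intro p p'
      rw [res_sum, res_sum]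
      simp only [res_smul, res_res]
      apply combo_eq s r hrel h hh
      have e1 := congrArg (res G (inf_le_left : p.1.1 ⊓ p'.1.1 ≤ p.1.1)) (hp p)
      have e2 := congrArg (res G (inf_le_right : p.1.1 ⊓ p'.1.1 ≤ p'.1.1)) (hp p')
      rw [res_res, res_sum] at e1 e2
      simp only [res_smul, res_res] at e1 e2
      exact e1.symm.trans e2)
  refine ⟨v, fun W hW a ha => ?_⟩
  exact hv ⟨⟨W, a⟩, hW, ha⟩

/-- the value on a section of the partial morphism defined by the images of the generators -/
noncomputable def ofGensVal (V : Opens X) (hV : V ≤ U) (t : G.val.obj (op V)) :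
    H.val.obj (op V) :=
  (ofGens_exists s r hgen hrel h hh V hV t).choose

lemma ofGensVal_spec (V : Opens X) (hV : V ≤ U) (t : G.val.obj (op V)) (W : Opens X)
    (hW : W ≤ V) (a : Fin n → (ModSite.ringSh O).obj.obj (op W))
    (ha : res G hW t = ∑ k, a k • res G (hW.trans hV) (s k)) :
    res H hW (ofGensVal s r hgen hrel h hh V hV t) = ∑ k, a k • res H (hW.trans hV) (h k) :=
  (ofGens_exists s r hgen hrel h hh V hV t).choose_spec W hW a ha

/-- the partial morphism with prescribed values on the generators of a local presentation -/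
noncomputable def ofGens : PHom G H U where
  app V hV t := ofGensVal s r hgen hrel h hh V hV t
  map_add V hV t t' := by
    apply eq_of_locally
    intro x hx
    obtain ⟨W₁, hW₁, hxW₁, a, ha⟩ := hgen V hV t x hx
    obtain ⟨W₂, hW₂, hxW₂, a', ha'⟩ := hgen V hV t' x hx
    have hl : W₁ ⊓ W₂ ≤ W₁ := inf_le_left
    have hr : W₁ ⊓ W₂ ≤ W₂ := inf_le_right
    have ha₁ : res G (hl.trans hW₁) t =
        ∑ k, rres O hl (a k) • res G ((hl.trans hW₁).trans hV) (s k) := by
      rw [← res_res hW₁ hl, ha, res_sum]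
      refine Finset.sum_congr rfl (fun k _ => ?_)
      rw [res_smul, res_res]
    have ha₂ : res G (hl.trans hW₁) t' =
        ∑ k, rres O hr (a' k) • res G ((hl.trans hW₁).trans hV) (s k) := by
      have h0 : res G (hl.trans hW₁) t' = res G hr (res G hW₂ t') := (res_res _ _ _).symm
      rw [h0, ha', res_sum]
      refine Finset.sum_congr rfl (fun k _ => ?_)
      rw [res_smul, res_res]
    refine ⟨W₁ ⊓ W₂, hl.trans hW₁, ⟨hxW₁, hxW₂⟩, ?_⟩
    rw [res_add, ofGensVal_spec s r hgen hrel h hh V hV t _ _ _ ha₁,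
      ofGensVal_spec s r hgen hrel h hh V hV t' _ _ _ ha₂,
      ofGensVal_spec s r hgen hrel h hh V hV (t + t') _ _
        (fun k => rres O hl (a k) + rres O hr (a' k))
        (by rw [res_add, ha₁, ha₂, ← Finset.sum_add_distrib]
            exact Finset.sum_congr rfl (fun k _ => (add_smul _ _ _).symm)),
      ← Finset.sum_add_distrib]
    exact Finset.sum_congr rfl (fun k _ => add_smul _ _ _)
  map_smul V hV b t := by
    apply eq_of_locally
    intro x hx
    obtain ⟨W, hW, hxW, a, ha⟩ := hgen V hV t x hx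
    refine ⟨W, hW, hxW, ?_⟩
    rw [res_smul, ofGensVal_spec s r hgen hrel h hh V hV t _ _ _ ha,
      ofGensVal_spec s r hgen hrel h hh V hV (b • t) _ _ (fun k => rres O hW b * a k)
        (by rw [res_smul, ha, Finset.smul_sum]
            exact Finset.sum_congr rfl (fun k _ => (mul_smul _ _ _).symm)),
      Finset.smul_sum]
    exact Finset.sum_congr rfl (fun k _ => mul_smul _ _ _)
  nat V W hV hW t := by
    apply eq_of_locally
    intro x hx
    obtain ⟨W', hW', hxW', a, ha⟩ := hgen W (hW.trans hV) (res G hW t) x hx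
    refine ⟨W', hW', hxW', ?_⟩
    rw [ofGensVal_spec s r hgen hrel h hh W (hW.trans hV) (res G hW t) _ _ _ ha, res_res,
      ofGensVal_spec s r hgen hrel h hh V hV t W' (hW'.trans hW) a
        (by rw [← res_res hW hW', ha])]

lemma ofGens_gen (k : Fin n) : (ofGens s r hgen hrel h hh).app U le_rfl (s k) = h k := by
  classical
  have h1 := ofGensVal_spec s r hgen hrel h hh U le_rfl (s k) U le_rfl
    (fun l => if l = k then 1 else 0)
    (by simp only [ite_smul, one_smul, zero_smul, Finset.sum_ite_eq', Finset.mem_univ, if_true])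
  rw [res_self] at h1
  refine h1.trans ?_
  simp only [ite_smul, one_smul, zero_smul, Finset.sum_ite_eq', Finset.mem_univ, if_true,
    res_self]

end PHom

end Groth.Agent.Lib.Helper2.RSMod
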