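import Groth.Agent.Lib.Helper2.RSMod.Tools

/-!
# Permanence of finite type / finite presentation on ringed spaces
-/

set_option autoImplicit false
universe u
open CategoryTheory CategoryTheory.Limits Opposite TopologicalSpace

namespace Groth.Agent.Lib.Helper2.RSMod

variable {X : TopCat.{u}} {O : TopCat.Sheaf CommRingCat.{u} X}

section General

variable (F : ModSite.Mod O)

theorem isFinitePresentation_of_pData
    (H : ∀ x : X, ∃ U : Opens X, x ∈ U ∧ ∃ (I : Type) (_ : Fintype I) (s : I → F.val.obj (op U))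
      (K : Type) (_ : Fintype K) (r : K → I → (ModSite.ringSh O).obj.obj (op U)),
      PGen F U s ∧ (∀ k, ∑ j, r k j • s j = 0) ∧ PRel F U s r) :
    SheafOfModules.IsFinitePresentation (R := ModSite.ringSh O) F := by
  rw [isFinitePresentation_iff]
  intro x
  obtain ⟨U, hx, I, hI, s, K, hK, r, hs, hr0, hr⟩ := H x
  refine ⟨U, hx, Fintype.card I, s ∘ (Fintype.equivFin I).symm, Fintype.card K,
    fun k' i' => r ((Fintype.equivFin K).symm k') ((Fintype.equivFin I).symm i'),
    hs.reindex (Fintype.equivFin I), fun k' => ?_,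
    pRel_of_relGen ((relGen_of_pRel hr).reindex (Fintype.equivFin I) (Fintype.equivFin K))⟩
  rw [← hr0 ((Fintype.equivFin K).symm k')]
  exact Fintype.sum_equiv (Fintype.equivFin I).symm _ _ (fun i' => rfl)

end General

section ShortExact

theorem isFiniteType_of_shortExact (S : ShortComplex (ModSite.Mod O)) (hS : S.ShortExact)
    [SheafOfModules.IsFiniteType (R := ModSite.ringSh O) S.X₁]
    [SheafOfModules.IsFiniteType (R := ModSite.ringSh O) S.X₃] :
    SheafOfModules.IsFiniteType (R := ModSite.ringSh O) S.X₂ := by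
  haveI := hS.mono_f
  haveI := hS.epi_g
  have H₁ := (isFiniteType_iff S.X₁).1 inferInstance
  have H₃ := (isFiniteType_iff S.X₃).1 inferInstance
  refine isFiniteType_of_pGen S.X₂ (fun x => ?_)
  obtain ⟨U₁, hx₁, n₁, s₁, h₁⟩ := H₁ x
  obtain ⟨U₃, hx₃, n₃, s₃, h₃⟩ := H₃ x
  obtain ⟨W, hW, hxW, hlift⟩ := exists_common_nbhd (ι := Fin n₃) x (U₁ ⊓ U₃) ⟨hx₁, hx₃⟩
    (fun j W => ∃ (hW : W ≤ U₃) (g : S.X₂.val.obj (op W)),
      S.g.val.app (op W) g = res S.X₃ hW (s₃ j))
    (by
      rintro j W W' hWW' ⟨hW, g, hg⟩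
      refine ⟨hWW'.trans hW, res S.X₂ hWW' g, ?_⟩
      rw [hom_res, hg, res_res])
    (fun j => by
      obtain ⟨W, hW, hxW, g, hg⟩ := exists_lift_nbhd S.g
        (res S.X₃ (inf_le_right : U₁ ⊓ U₃ ≤ U₃) (s₃ j)) x ⟨hx₁, hx₃⟩
      refine ⟨W, hW, hxW, hW.trans inf_le_right, g, ?_⟩
      rw [hg, res_res])
  choose hW₃ t' ht' using hlift
  have hW₁ : W ≤ U₁ := hW.trans inf_le_left
  refine ⟨W, hxW, Fin n₁ ⊕ Fin n₃, inferInstance,
    Sum.elim (fun i => S.f.val.app (op W) (res S.X₁ hW₁ (s₁ i))) t', ?_⟩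
  intro V hV t y hy
  obtain ⟨W₁, hW₁V, hyW₁, b, hb⟩ :=
    h₃ V (hV.trans (hW.trans inf_le_right)) (S.g.val.app (op V) t) y hy
  set t₁ : S.X₂.val.obj (op W₁) :=
    res S.X₂ hW₁V t - ∑ j, b j • res S.X₂ (hW₁V.trans hV) (t' j) with ht₁
  have hgt₁ : S.g.val.app (op W₁) t₁ = 0 := by
    rw [ht₁, hom_sub, hom_res, hb, hom_sum, sub_eq_zero]
    refine Finset.sum_congr rfl (fun j _ => ?_)
    rw [hom_smul, hom_res, ht', res_res]
  obtain ⟨u, hu⟩ := exists_lift_of_exact_mono S hS.exact t₁ hgt₁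
  obtain ⟨W₂, hW₂, hyW₂, a, ha⟩ := h₁ W₁ (hW₁V.trans (hV.trans hW₁)) u y hyW₁
  refine ⟨W₂, hW₂.trans hW₁V, hyW₂, Sum.elim a (fun j => rres O hW₂ (b j)), ?_⟩
  rw [Fintype.sum_sum_type]
  simp only [Sum.elim_inl, Sum.elim_inr]
  have h5 : res S.X₂ (hW₂.trans hW₁V) t = res S.X₂ hW₂ t₁ +
      ∑ j, rres O hW₂ (b j) • res S.X₂ ((hW₂.trans hW₁V).trans hV) (t' j) := by
    rw [ht₁, res_sub, res_res, res_sum]
    simp only [res_smul, res_res]
    abel
  rw [h5, ← hu, ← hom_res, ha, hom_sum]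
  congr 1
  refine Finset.sum_congr rfl (fun i _ => ?_)
  rw [hom_smul, hom_res, hom_res, res_res]

end ShortExact

section Kernel

set_option maxHeartbeats 3200000 in
theorem isFiniteType_kernel {G F : ModSite.Mod O} (θ : G ⟶ F) [Epi θ]
    [SheafOfModules.IsFiniteType (R := ModSite.ringSh O) G]
    [SheafOfModules.IsFinitePresentation (R := ModSite.ringSh O) F] :
    SheafOfModules.IsFiniteType (R := ModSite.ringSh O) (kernel θ) := by
  have HG := (isFiniteType_iff G).1 inferInstance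
  have HF := (isFinitePresentation_iff F).1 inferInstance
  refine isFiniteType_of_pGen (kernel θ) (fun x => ?_)
  obtain ⟨UG, hxG, nG, t, hG⟩ := HG x
  obtain ⟨UF, hxF, n, s, m, r, hF, hr0, hFr⟩ := HF x
  -- lift the generators of `F`
  obtain ⟨W₀, hW₀, hxW₀, hlift⟩ := exists_common_nbhd (ι := Fin n) x (UG ⊓ UF) ⟨hxG, hxF⟩
    (fun i W => ∃ (hW : W ≤ UF) (g : G.val.obj (op W)),
      θ.val.app (op W) g = res F hW (s i))
    (by
      rintro i W W' hWW' ⟨hW, g, hg⟩
      refine ⟨hWW'.trans hW, res G hWW' g, ?_⟩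
      rw [hom_res, hg, res_res])
    (fun i => by
      obtain ⟨W, hW, hxW, g, hg⟩ := exists_lift_nbhd θ
        (res F (inf_le_right : UG ⊓ UF ≤ UF) (s i)) x ⟨hxG, hxF⟩
      refine ⟨W, hW, hxW, hW.trans inf_le_right, g, ?_⟩
      rw [hg, res_res])
  -- express the images of the generators of `G`
  obtain ⟨W, hW, hxW, hA⟩ := exists_common_nbhd (ι := Fin nG) x W₀ hxW₀
    (fun j W => ∃ (hWG : W ≤ UG) (hWF : W ≤ UF) (A : Fin n → (ModSite.ringSh O).obj.obj (op W)),
      θ.val.app (op W) (res G hWG (t j)) = ∑ i, A i • res F hWF (s i))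
    (by
      rintro j W W' hWW' ⟨hWG, hWF, A, hA⟩
      refine ⟨hWW'.trans hWG, hWW'.trans hWF, fun i => rres O hWW' (A i), ?_⟩
      have h1 : res G (hWW'.trans hWG) (t j) = res G hWW' (res G hWG (t j)) := (res_res _ _ _).symm
      rw [h1, hom_res, hA, res_sum]
      refine Finset.sum_congr rfl (fun i _ => ?_)
      rw [res_smul, res_res])
    (fun j => by
      have hW₀G : W₀ ≤ UG := hW₀.trans inf_le_left
      have hW₀F : W₀ ≤ UF := hW₀.trans inf_le_right
      obtain ⟨W, hW, hxW, A, hA⟩ := hF W₀ hW₀F (θ.val.app (op W₀) (res G hW₀G (t j))) x hxW₀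
      refine ⟨W, hW, hxW, hW.trans hW₀G, hW.trans hW₀F, A, ?_⟩
      rw [← hA, ← hom_res, res_res])
  choose hW₀F g hg using hlift
  choose hWG hWF A hA using hA
  have hWG : W ≤ UG := hW.trans (hW₀.trans inf_le_left)
  have hWF : W ≤ UF := hW.trans (hW₀.trans inf_le_right)
  -- the generators of the kernel
  let κ : Fin nG → G.val.obj (op W) := fun j => res G hWG (t j) - ∑ i, A j i • res G hW (g i)
  let l : Fin m → G.val.obj (op W) := fun k => ∑ i, rres O hWF (r k i) • res G hW (g i)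
  have hgW : ∀ i, θ.val.app (op W) (res G hW (g i)) = res F hWF (s i) := fun i => by
    rw [hom_res, hg, res_res]
  have hκ : ∀ j, θ.val.app (op W) (κ j) = 0 := fun j => by
    show θ.val.app (op W) (res G hWG (t j) - ∑ i, A j i • res G hW (g i)) = 0
    rw [hom_sub, hA j, hom_sum, sub_eq_zero]
    refine Finset.sum_congr rfl (fun i _ => ?_)
    rw [hom_smul, hgW]
  have hl : ∀ k, θ.val.app (op W) (l k) = 0 := fun k => by
    show θ.val.app (op W) (∑ i, rres O hWF (r k i) • res G hW (g i)) = 0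
    rw [hom_sum]
    have h1 : ∀ i, θ.val.app (op W) (rres O hWF (r k i) • res G hW (g i)) =
        res F hWF (r k i • s i) := fun i => by
      rw [hom_smul, hgW, res_smul]
    rw [Finset.sum_congr rfl (fun i _ => h1 i), ← res_sum, hr0 k, res_zero]
  choose κ' hκ' using fun j => exists_kernel_lift θ (κ j) (hκ j)
  choose l' hl' using fun k => exists_kernel_lift θ (l k) (hl k)
  refine ⟨W, hxW, Fin nG ⊕ Fin m, inferInstance, Sum.elim κ' l', ?_⟩
  intro V hV z y hy
  set w : G.val.obj (op V) := (kernel.ι θ).val.app (op V) z with hw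
  have hθw : θ.val.app (op V) w = 0 := kernel_ι_comp_apply θ z
  obtain ⟨W₁, hW₁, hyW₁, b, hb⟩ := hG V (hV.trans hWG) w y hy
  -- coefficients of the `g i`
  let c : Fin n → (ModSite.ringSh O).obj.obj (op W₁) :=
    fun i => ∑ j, b j * rres O (hW₁.trans hV) (A j i)
  have hw1 : res G hW₁ w = ∑ j, b j • res G (hW₁.trans hV) (κ j) +
      ∑ i, c i • res G (hW₁.trans (hV.trans hW)) (g i) := by
    rw [hb]
    have h1 : ∀ j, b j • res G (hW₁.trans (hV.trans hWG)) (t j) =
        b j • res G (hW₁.trans hV) (κ j) +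
          ∑ i, (b j * rres O (hW₁.trans hV) (A j i)) • res G (hW₁.trans (hV.trans hW)) (g i) := by
      intro j
      show _ = b j • res G (hW₁.trans hV) (res G hWG (t j) - ∑ i, A j i • res G hW (g i)) + _
      rw [res_sub, res_res, res_sum, smul_sub, Finset.smul_sum]
      simp only [res_smul, res_res, mul_smul]
      abel
    rw [Finset.sum_congr rfl (fun j _ => h1 j), Finset.sum_add_distrib, Finset.sum_comm]
    congr 1
    refine Finset.sum_congr rfl (fun i _ => ?_)
    rw [Finset.sum_smul]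
  have hc0 : ∑ i, c i • res F (hW₁.trans (hV.trans hWF)) (s i) = 0 := by
    have h2 := congrArg (fun v => θ.val.app (op W₁) v) hw1
    simp only [hom_res, hθw, res_zero, hom_add, hom_sum, hom_smul, hκ, smul_zero,
      Finset.sum_const_zero, zero_add, hg, res_res] at h2
    exact h2.symm
  obtain ⟨W₂, hW₂, hyW₂, d, hd⟩ := hFr W₁ (hW₁.trans (hV.trans hWF)) c hc0 y hyW₁
  refine ⟨W₂, hW₂.trans hW₁, hyW₂, Sum.elim (fun j => rres O hW₂ (b j)) d, ?_⟩
  rw [Fintype.sum_sum_type]
  simp only [Sum.elim_inl, Sum.elim_inr]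
  apply mono_injective (kernel.ι θ) W₂
  rw [hom_res, hom_add, hom_sum, hom_sum]
  simp only [hom_smul, hom_res, hκ', hl']
  rw [← res_res hW₁ hW₂ ((kernel.ι θ).val.app (op V) z), ← hw, hw1, res_add, res_sum, res_sum]
  simp only [res_smul, res_res]
  congr 1
  -- the `g`-part
  rw [Finset.sum_congr rfl (fun i _ => by rw [hd i])]
  show _ = ∑ k, d k • res G ((hW₂.trans hW₁).trans hV)
    (∑ i, rres O hWF (r k i) • res G hW (g i))
  simp only [res_sum, res_smul, res_res, Finset.sum_smul, Finset.smul_sum, mul_smul, rres_rres]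
  rw [Finset.sum_comm]

end Kernel

section Cokernel

set_option maxHeartbeats 3200000 in
theorem isFinitePresentation_cokernel {G F : ModSite.Mod O} (φ : G ⟶ F)
    [SheafOfModules.IsFiniteType (R := ModSite.ringSh O) G]
    [SheafOfModules.IsFinitePresentation (R := ModSite.ringSh O) F] :
    SheafOfModules.IsFinitePresentation (R := ModSite.ringSh O) (cokernel φ) := by
  have HG := (isFiniteType_iff G).1 inferInstance
  have HF := (isFinitePresentation_iff F).1 inferInstance
  refine isFinitePresentation_of_pData (cokernel φ) (fun x => ?_)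
  obtain ⟨UG, hxG, nG, t, hG⟩ := HG x
  obtain ⟨UF, hxF, n, s, m, r, hF, hr0, hFr⟩ := HF x
  -- express the images of the generators of `G`
  obtain ⟨W, hW, hxW, hA⟩ := exists_common_nbhd (ι := Fin nG) x (UG ⊓ UF) ⟨hxG, hxF⟩
    (fun j W => ∃ (hWG : W ≤ UG) (hWF : W ≤ UF) (A : Fin n → (ModSite.ringSh O).obj.obj (op W)),
      φ.val.app (op W) (res G hWG (t j)) = ∑ i, A i • res F hWF (s i))
    (by
      rintro j W W' hWW' ⟨hWG, hWF, A, hA⟩
      refine ⟨hWW'.trans hWG, hWW'.trans hWF, fun i => rres O hWW' (A i), ?_⟩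
      have h1 : res G (hWW'.trans hWG) (t j) = res G hWW' (res G hWG (t j)) := (res_res _ _ _).symm
      rw [h1, hom_res, hA, res_sum]
      refine Finset.sum_congr rfl (fun i _ => ?_)
      rw [res_smul, res_res])
    (fun j => by
      have hW₀G : UG ⊓ UF ≤ UG := inf_le_left
      have hW₀F : UG ⊓ UF ≤ UF := inf_le_right
      obtain ⟨W, hW, hxW, A, hA⟩ :=
        hF (UG ⊓ UF) hW₀F (φ.val.app (op (UG ⊓ UF)) (res G hW₀G (t j))) x ⟨hxG, hxF⟩
      refine ⟨W, hW, hxW, hW.trans hW₀G, hW.trans hW₀F, A, ?_⟩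
      rw [← hA, ← hom_res, res_res])
  choose hWG hWF A hA using hA
  have hWG : W ≤ UG := hW.trans inf_le_left
  have hWF : W ≤ UF := hW.trans inf_le_right
  have hπφ : ∀ (V : Opens X) (v : G.val.obj (op V)),
      (cokernel.π φ).val.app (op V) (φ.val.app (op V) v) = 0 := fun V v => by
    have h := cokernel.condition φ
    exact congrArg (fun ψ => (ψ.val.app (op V)).hom v) h
  refine ⟨W, hxW, Fin n, inferInstance,
    fun i => (cokernel.π φ).val.app (op W) (res F hWF (s i)), Fin m ⊕ Fin nG, inferInstance,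
    Sum.elim (fun k i => rres O hWF (r k i)) A, ?_, ?_, ?_⟩
  · -- generation
    intro V hV c y hy
    obtain ⟨W₁, hW₁, hyW₁, f, hf⟩ := exists_lift_nbhd (cokernel.π φ) c y hy
    obtain ⟨W₂, hW₂, hyW₂, a, ha⟩ := hF W₁ (hW₁.trans (hV.trans hWF)) f y hyW₁
    refine ⟨W₂, hW₂.trans hW₁, hyW₂, a, ?_⟩
    rw [← res_res hW₁ hW₂ c, ← hf, ← hom_res, ha, hom_sum]
    refine Finset.sum_congr rfl (fun i _ => ?_)
    rw [hom_smul, ← hom_res, res_res]
  · -- the relations hold
    rintro (k | j)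
    · simp only [Sum.elim_inl]
      have h1 : ∀ i, rres O hWF (r k i) • (cokernel.π φ).val.app (op W) (res F hWF (s i)) =
          (cokernel.π φ).val.app (op W) (res F hWF (r k i • s i)) := fun i => by
        rw [res_smul, hom_smul]
      rw [Finset.sum_congr rfl (fun i _ => h1 i), ← hom_sum, ← res_sum, hr0 k, res_zero,
        hom_zero]
    · simp only [Sum.elim_inr]
      have h1 : ∀ i, A j i • (cokernel.π φ).val.app (op W) (res F hWF (s i)) =
          (cokernel.π φ).val.app (op W) (A j i • res F hWF (s i)) := fun i => by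
        rw [hom_smul]
      rw [Finset.sum_congr rfl (fun i _ => h1 i), ← hom_sum, ← hA j, hπφ]
  · -- the relations generate
    intro V hV a ha y hy
    set f : F.val.obj (op V) := ∑ i, a i • res F (hV.trans hWF) (s i) with hf
    have hπf : (cokernel.π φ).val.app (op V) f = 0 := by
      rw [hf, hom_sum, ← ha]
      refine Finset.sum_congr rfl (fun i _ => ?_)
      rw [hom_smul, ← hom_res, res_res]
    obtain ⟨W₁, hW₁, hyW₁, g', hg'⟩ := exact_nbhd
      (ShortComplex.mk φ (cokernel.π φ) (cokernel.condition φ))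
      (ShortComplex.exact_of_g_is_cokernel _ (cokernelIsCokernel φ)) f hπf y hy
    obtain ⟨W₂, hW₂, hyW₂, b, hb⟩ := hG W₁ (hW₁.trans (hV.trans hWG)) g' y hyW₁
    have hV₂ : W₂ ≤ V := hW₂.trans hW₁
    -- on `W₂`
    let c : Fin n → (ModSite.ringSh O).obj.obj (op W₂) :=
      fun i => rres O hV₂ (a i) - ∑ j, b j * rres O (hV₂.trans hV) (A j i)
    have hc0 : ∑ i, c i • res F (hV₂.trans (hV.trans hWF)) (s i) = 0 := by
      have h1 : res F hV₂ f = ∑ i, rres O hV₂ (a i) • res F (hV₂.trans (hV.trans hWF)) (s i) := by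
        rw [hf, res_sum]
        refine Finset.sum_congr rfl (fun i _ => ?_)
        rw [res_smul, res_res]
      have h2 : res F hV₂ f = ∑ i, (∑ j, b j * rres O (hV₂.trans hV) (A j i)) •
          res F (hV₂.trans (hV.trans hWF)) (s i) := by
        have h3 : res F hV₂ f = res F hW₂ (res F hW₁ f) := (res_res _ _ _).symm
        rw [h3]
        change res F hW₂ (res F hW₁ f) = _
        rw [← hg', ← hom_res, hb, hom_sum]
        have h4 : ∀ j, φ.val.app (op W₂) (b j • res G (hW₂.trans (hW₁.trans (hV.trans hWG))) (t j))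
            = ∑ i, (b j * rres O (hV₂.trans hV) (A j i)) •
              res F (hV₂.trans (hV.trans hWF)) (s i) := by
          intro j
          have h5 : res G (hW₂.trans (hW₁.trans (hV.trans hWG))) (t j) =
              res G (hV₂.trans hV) (res G hWG (t j)) := (res_res _ _ _).symm
          rw [hom_smul, h5, hom_res, hA j, res_sum, Finset.smul_sum]
          refine Finset.sum_congr rfl (fun i _ => ?_)
          rw [res_smul, res_res, mul_smul]
        rw [Finset.sum_congr rfl (fun j _ => h4 j), Finset.sum_comm]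
        refine Finset.sum_congr rfl (fun i _ => ?_)
        rw [Finset.sum_smul]
      show ∑ i, (rres O hV₂ (a i) - ∑ j, b j * rres O (hV₂.trans hV) (A j i)) •
        res F (hV₂.trans (hV.trans hWF)) (s i) = 0
      simp only [sub_smul]
      rw [Finset.sum_sub_distrib, ← h1, ← h2, sub_self]
    obtain ⟨W₃, hW₃, hyW₃, d, hd⟩ := hFr W₂ (hV₂.trans (hV.trans hWF)) c hc0 y hyW₂
    refine ⟨W₃, hW₃.trans hV₂, hyW₃, Sum.elim d (fun j => rres O hW₃ (b j)), fun i => ?_⟩
    rw [Fintype.sum_sum_type]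
    simp only [Sum.elim_inl, Sum.elim_inr]
    have h6 := hd i
    have h7 : rres O hW₃ (c i) = rres O (hW₃.trans hV₂) (a i) -
        ∑ j, rres O hW₃ (b j) * rres O ((hW₃.trans hV₂).trans hV) (A j i) := by
      show rres O hW₃ (rres O hV₂ (a i) - ∑ j, b j * rres O (hV₂.trans hV) (A j i)) = _
      rw [map_sub, map_sum, rres_rres]
      congr 1
      refine Finset.sum_congr rfl (fun j _ => ?_)
      rw [map_mul, rres_rres]
    rw [h7, sub_eq_iff_eq_add] at h6
    rw [h6]
    congr 1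
    refine Finset.sum_congr rfl (fun k _ => ?_)
    rw [rres_rres]

end Cokernel

end Groth.Agent.Lib.Helper2.RSMod
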