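import Groth.Agent.Lib.Helper2.RSMod.PHom

/-!
# Sections of the direct image of a module along a morphism of ringed spaces
-/

set_option autoImplicit false
universe u
open CategoryTheory CategoryTheory.Limits Opposite TopologicalSpace

namespace Groth.Agent.Lib.Helper2.RSMod

section Push

variable {X Y : TopCat.{u}} (f : X ⟶ Y)
    {O_X : TopCat.Sheaf CommRingCat.{u} X} {O_Y : TopCat.Sheaf CommRingCat.{u} Y}
    (c : O_Y ⟶ ((TopologicalSpace.Opens.map f).sheafPushforwardContinuous CommRingCat.{u}
      (Opens.grothendieckTopology Y) (Opens.grothendieckTopology X)).obj O_X)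
    (F : ModSite.Mod O_X)

/-- the direct image -/
noncomputable abbrev pushObj : ModSite.Mod O_Y :=
  (ModSite.RMor.ofFlat (TopologicalSpace.Opens.map f) c).push.obj F

/-- preimage of opens -/
abbrev pre (V : Opens Y) : Opens X := (Opens.map f).obj V

lemma pre_mono {V W : Opens Y} (h : W ≤ V) : pre f W ≤ pre f V := (Opens.map f).monotone h

/-- a section of the direct image, seen as a section of the module -/
def toF {V : Opens Y} (t : (pushObj f c F).val.obj (op V)) : F.val.obj (op (pre f V)) := t

/-- a section of the module over a preimage, seen as a section of the direct image -/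
def ofF {V : Opens Y} (t : F.val.obj (op (pre f V))) : (pushObj f c F).val.obj (op V) := t

/-- the comorphism on sections -/
noncomputable def cmap (V : Opens Y) :
    (ModSite.ringSh O_Y).obj.obj (op V) →+* (ModSite.ringSh O_X).obj.obj (op (pre f V)) :=
  (c.hom.app (op V)).hom

@[simp] lemma toF_ofF {V : Opens Y} (t : F.val.obj (op (pre f V))) : toF f c F (ofF f c F t) = t :=
  rfl

@[simp] lemma ofF_toF {V : Opens Y} (t : (pushObj f c F).val.obj (op V)) :
    ofF f c F (toF f c F t) = t := rfl

lemma toF_res {V W : Opens Y} (h : W ≤ V) (t : (pushObj f c F).val.obj (op V)) :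
    toF f c F (res (pushObj f c F) h t) = res F (pre_mono f h) (toF f c F t) := rfl

lemma toF_smul {V : Opens Y} (b : (ModSite.ringSh O_Y).obj.obj (op V))
    (t : (pushObj f c F).val.obj (op V)) :
    toF f c F (b • t) = cmap f c V b • toF f c F t := rfl

lemma toF_add {V : Opens Y} (t t' : (pushObj f c F).val.obj (op V)) :
    toF f c F (t + t') = toF f c F t + toF f c F t' := rfl

lemma toF_zero {V : Opens Y} : toF f c F (0 : (pushObj f c F).val.obj (op V)) = 0 := rfl

lemma toF_sum {V : Opens Y} {ι : Type*} (T : Finset ι) (g : ι → (pushObj f c F).val.obj (op V)) :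
    toF f c F (∑ k ∈ T, g k) = ∑ k ∈ T, toF f c F (g k) := by
  classical
  induction T using Finset.induction_on with
  | empty => simp [toF_zero]
  | insert a T ha ih => rw [Finset.sum_insert ha, Finset.sum_insert ha, toF_add, ih]

lemma toF_injective {V : Opens Y} : Function.Injective (toF f c F (V := V)) := fun _ _ h => h

lemma cmap_rres {V W : Opens Y} (h : W ≤ V) (b : (ModSite.ringSh O_Y).obj.obj (op V)) :
    cmap f c W (rres O_Y h b) = rres O_X (pre_mono f h) (cmap f c V b) := by
  have h1 := c.hom.naturality (homOfLE h).op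
  exact congrArg (fun φ => φ.hom b) h1

/-- local surjectivity of the comorphism, pointwise -/
lemma cmap_locally_surjective (hc : Sheaf.IsLocallySurjective c) {V : Opens Y}
    (a : (ModSite.ringSh O_X).obj.obj (op (pre f V))) (y : Y) (hy : y ∈ V) :
    ∃ (W : Opens Y) (hW : W ≤ V), y ∈ W ∧ ∃ b : (ModSite.ringSh O_Y).obj.obj (op W),
      cmap f c W b = rres O_X (pre_mono f hW) a := by
  have h1 := Presheaf.imageSieve_mem (Opens.grothendieckTopology Y) c.hom
    (show ToType ((((TopologicalSpace.Opens.map f).sheafPushforwardContinuous CommRingCat.{u}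
      (Opens.grothendieckTopology Y) (Opens.grothendieckTopology X)).obj O_X).obj.obj (op V)) from a)
  obtain ⟨W, g, ⟨b, hb⟩, hyW⟩ := h1 y hy
  exact ⟨W, leOfHom g, hyW, b, hb⟩

end Push

end Groth.Agent.Lib.Helper2.RSMod
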