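import Groth.Agent.Lib.Helper2.RSMod.Push

/-!
# Finite type and direct image along a closed immersion of ringed spaces
-/

set_option autoImplicit false
universe u
open CategoryTheory CategoryTheory.Limits Opposite TopologicalSpace

namespace Groth.Agent.Lib.Helper2.RSMod

section

variable {Z X : TopCat.{u}} (i : Z ⟶ X)
    {O_Z : TopCat.Sheaf CommRingCat.{u} Z} {O_X : TopCat.Sheaf CommRingCat.{u} X}
    (c : O_X ⟶ ((TopologicalSpace.Opens.map i).sheafPushforwardContinuous CommRingCat.{u}
      (Opens.grothendieckTopology X) (Opens.grothendieckTopology Z)).obj O_Z)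
    (F : ModSite.Mod O_Z)

lemma eq_zero_of_empty {V : Opens Z} (t : F.val.obj (op V)) (hV : ∀ z, z ∉ V) : t = 0 :=
  eq_zero_of_locally F t (fun z hz => absurd hz (hV z))

variable {i}

lemma exists_open_pre (hi : Topology.IsClosedEmbedding i) (UZ : Opens Z) (z : Z) (hz : z ∈ UZ)
    (V : Opens X) (hV : i z ∈ V) :
    ∃ U : Opens X, U ≤ V ∧ i z ∈ U ∧ pre i U ≤ UZ := by
  obtain ⟨t, ht, he⟩ := hi.isInducing.isOpen_iff.1 UZ.isOpen
  refine ⟨⟨t, ht⟩ ⊓ V, inf_le_right, ⟨?_, hV⟩, ?_⟩
  · have : z ∈ i ⁻¹' t := by rw [he]; exact hz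
    exact this
  · intro z' hz'
    have : z' ∈ i ⁻¹' t := hz'.1
    rw [he] at this
    exact this

/-- the complement of the image -/
def complRange (hi : Topology.IsClosedEmbedding i) : Opens X :=
  ⟨(Set.range i)ᶜ, hi.isClosed_range.isOpen_compl⟩

lemma pre_complRange (hi : Topology.IsClosedEmbedding i) (W : Opens X) (hW : W ≤ complRange hi)
    (z : Z) : z ∉ pre i W := by
  intro hz
  exact hW hz ⟨z, rfl⟩

variable (i)

set_option maxHeartbeats 1600000 in
theorem push_finiteType (hi : Topology.IsClosedEmbedding i) (hc : Sheaf.IsLocallySurjective c)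
    [SheafOfModules.IsFiniteType (R := ModSite.ringSh O_Z) F] :
    SheafOfModules.IsFiniteType (R := ModSite.ringSh O_X) (pushObj i c F) := by
  classical
  refine isFiniteType_of_pGen (pushObj i c F) (fun x => ?_)
  by_cases hx : x ∈ Set.range i
  · obtain ⟨z, rfl⟩ := hx
    obtain ⟨UZ, hzU, n, s, hs⟩ := (isFiniteType_iff F).1 inferInstance z
    obtain ⟨U, -, hxU, hUZ⟩ := exists_open_pre hi UZ z hzU ⊤ trivial
    refine ⟨U, hxU, Fin n, inferInstance, fun k => ofF i c F (res F hUZ (s k)), ?_⟩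
    have hs' := hs.restrict hUZ
    intro V hV t y hy
    by_cases hyr : y ∈ Set.range i
    · obtain ⟨z', rfl⟩ := hyr
      obtain ⟨WZ, hWZ, hz'W, a, ha⟩ := hs' (pre i V) (pre_mono i hV) (toF i c F t) z' hy
      obtain ⟨W₁, hW₁V, hyW₁, hW₁Z⟩ := exists_open_pre hi WZ z' hz'W V hy
      -- lift the coefficients
      obtain ⟨W, hW, hyW, hb⟩ := exists_common_nbhd (ι := Fin n) (i z') W₁ hyW₁
        (fun k W => ∃ (hWW₁ : W ≤ W₁) (b : (ModSite.ringSh O_X).obj.obj (op W)),
          cmap i c W b = rres O_Z ((pre_mono i hWW₁).trans hW₁Z) (a k))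
        (by
          rintro k W W' hWW' ⟨hWW₁, b, hb⟩
          refine ⟨hWW'.trans hWW₁, rres O_X hWW' b, ?_⟩
          rw [cmap_rres, hb, rres_rres])
        (fun k => by
          obtain ⟨W, hW, hyW, b, hb⟩ := cmap_locally_surjective i c hc
            (rres O_Z hW₁Z (a k)) (i z') hyW₁
          refine ⟨W, hW, hyW, hW, b, ?_⟩
          rw [hb, rres_rres])
      choose hWW₁ b hb using hb
      refine ⟨W, hW.trans hW₁V, hyW, b, ?_⟩
      apply toF_injective i c F
      rw [toF_res, toF_sum]
      have h1 : res F (pre_mono i (hW.trans hW₁V)) (toF i c F t) =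
          res F ((pre_mono i hW).trans hW₁Z) (res F hWZ (toF i c F t)) := (res_res _ _ _).symm
      rw [h1, ha, res_sum]
      refine Finset.sum_congr rfl (fun k _ => ?_)
      rw [toF_smul, hb k, res_smul, toF_res, res_res]
      rfl
    · -- away from the image everything vanishes
      have hyc : y ∈ complRange hi := hyr
      refine ⟨V ⊓ complRange hi, inf_le_left, ⟨hy, hyc⟩, fun _ => 0, ?_⟩
      apply toF_injective i c F
      rw [toF_sum]
      simp only [zero_smul, toF_zero, Finset.sum_const_zero]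
      exact eq_zero_of_empty F _ (pre_complRange hi _ inf_le_right)
  · have hxc : x ∈ complRange hi := hx
    refine ⟨complRange hi, hxc, Fin 0, inferInstance, Fin.elim0, ?_⟩
    intro V hV t y hy
    refine ⟨V, le_rfl, hy, Fin.elim0, ?_⟩
    apply toF_injective i c F
    rw [toF_sum]
    simp only [Finset.univ_eq_empty, Finset.sum_empty]
    exact eq_zero_of_empty F _ (pre_complRange hi _ hV)

theorem finiteType_of_push (hi : Topology.IsClosedEmbedding i)
    [SheafOfModules.IsFiniteType (R := ModSite.ringSh O_X) (pushObj i c F)] :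
    SheafOfModules.IsFiniteType (R := ModSite.ringSh O_Z) F := by
  classical
  refine isFiniteType_of_pGen F (fun z => ?_)
  obtain ⟨U, hxU, n, s, hs⟩ := (isFiniteType_iff (pushObj i c F)).1 inferInstance (i z)
  refine ⟨pre i U, hxU, Fin n, inferInstance, fun k => toF i c F (s k), ?_⟩
  intro VZ hVZ t z' hz'
  obtain ⟨V, hVU, hz'V, hVpre⟩ := exists_open_pre hi VZ z' hz' U (hVZ hz')
  obtain ⟨W, hW, hyW, b, hb⟩ := hs V hVU (ofF i c F (res F hVpre t)) (i z') hz'V
  refine ⟨pre i W, (pre_mono i hW).trans hVpre, hyW, fun k => cmap i c W (b k), ?_⟩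
  have h1 := congrArg (toF i c F) hb
  rw [toF_res, toF_ofF, res_res, toF_sum] at h1
  rw [h1]
  refine Finset.sum_congr rfl (fun k _ => ?_)
  rw [toF_smul, toF_res]

end

end Groth.Agent.Lib.Helper2.RSMod
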