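import Groth.Agent.Lib.Helper2.RSMod.Free

/-!
# Rank of locally free modules on a ringed space with nonzero stalks
-/

set_option autoImplicit false
universe u
open CategoryTheory CategoryTheory.Limits Opposite TopologicalSpace

namespace Groth.Agent.Lib.Helper2.RSMod

section Alg

/-- a left-invertible rectangular matrix over a nontrivial commutative ring -/
lemma le_card_of_matrix_mul_eq_one {A : Type*} [CommRing A] [Nontrivial A] {m : ℕ}
    {I' : Type*} [Fintype I'] [DecidableEq I']
    (b : Fin m → I' → A) (a : I' → Fin m → A)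
    (h : ∀ k l, ∑ j, b k j * a j l = if k = l then 1 else 0) : m ≤ Fintype.card I' := by
  let B : Matrix (Fin m) I' A := Matrix.of b
  let A' : Matrix I' (Fin m) A := Matrix.of a
  have hBA : B * A' = 1 := by
    ext k l
    rw [Matrix.mul_apply, Matrix.one_apply]
    exact h k l
  have hinj : Function.Injective (Matrix.mulVecLin A') := by
    intro v w hvw
    have h1 : B.mulVec (A'.mulVec v) = B.mulVec (A'.mulVec w) := congrArg _ hvw
    rwa [Matrix.mulVec_mulVec, Matrix.mulVec_mulVec, hBA, Matrix.one_mulVec, Matrix.one_mulVec] at h1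
  have := card_le_of_injective A (Matrix.mulVecLin A') hinj
  simpa using this

end Alg

variable {X : TopCat.{u}} {O : TopCat.Sheaf CommRingCat.{u} X}

lemma nontrivial_sections_of_stalk (x : X) (hO : Nontrivial (O.presheaf.stalk x))
    (W : Opens X) (hx : x ∈ W) : Nontrivial (O.obj.obj (op W)) := by
  by_contra hn
  rw [not_nontrivial_iff_subsingleton] at hn
  have h01 : (1 : O.obj.obj (op W)) = 0 := Subsingleton.elim _ _
  have h := congrArg (O.presheaf.germ W x hx).hom h01
  rw [map_one, map_zero] at h
  exact one_ne_zero h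

set_option maxHeartbeats 800000 in
theorem le_card_of_isos (F : ModSite.Mod O) (U V : Opens X) (I I' : Type u) [Fintype I']
    (e : (ModSite.restr O U).obj F ≅ SheafOfModules.free I)
    (e' : (ModSite.restr O V).obj F ≅ SheafOfModules.free I')
    (x : X) (hxU : x ∈ U) (hxV : x ∈ V) (hO : Nontrivial (O.presheaf.stalk x))
    (m : ℕ) (ι : Fin m → I) (hι : Function.Injective ι) : m ≤ Fintype.card I' := by
  classical
  let W : Opens X := U ⊓ V
  let YU : Over U := Over.mk (homOfLE (inf_le_left : W ≤ U))
  let YV : Over V := Over.mk (homOfLE (inf_le_right : W ≤ V))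
  let R := ModSite.ringSh O
  let RU := ModSite.ringSh (O.over U)
  let RV := ModSite.ringSh (O.over V)
  have : Nontrivial (O.obj.obj (op W)) := nontrivial_sections_of_stalk x hO W ⟨hxU, hxV⟩
  -- transfer maps on sections over W
  let pV : (SheafOfModules.free (R := RV) I').val.obj (op YV) → F.val.obj (op W) :=
    fun y => (e'.inv.val.app (op YV)).hom y
  let qV : F.val.obj (op W) → (SheafOfModules.free (R := RV) I').val.obj (op YV) :=
    fun z => (e'.hom.val.app (op YV)).hom z
  let pU : (SheafOfModules.free (R := RU) I).val.obj (op YU) → F.val.obj (op W) :=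
    fun y => (e.inv.val.app (op YU)).hom y
  let qU : F.val.obj (op W) → (SheafOfModules.free (R := RU) I).val.obj (op YU) :=
    fun z => (e.hom.val.app (op YU)).hom z
  have hpqV : ∀ z, pV (qV z) = z := fun z =>
    congrArg (fun ψ => (ψ.val.app (op YV)).hom z) e'.hom_inv_id
  have hqpU : ∀ y, qU (pU y) = y := fun y =>
    congrArg (fun ψ => (ψ.val.app (op YU)).hom y) e.inv_hom_id
  have pV_add : ∀ y y', pV (y + y') = pV y + pV y' := fun y y' =>
    map_add (e'.inv.val.app (op YV)).hom y y'
  have qU_add : ∀ z z', qU (z + z') = qU z + qU z' := fun z z' =>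
    map_add (e.hom.val.app (op YU)).hom z z'
  have pV_zero : pV 0 = 0 := map_zero (e'.inv.val.app (op YV)).hom
  have qU_zero : qU 0 = 0 := map_zero (e.hom.val.app (op YU)).hom
  have pV_smul : ∀ (r : R.obj.obj (op W)) y,
      pV ((show RV.obj.obj (op YV) from r) • y) = r • pV y := fun r y =>
    map_smul (e'.inv.val.app (op YV)).hom (show RV.obj.obj (op YV) from r) y
  have qU_smul : ∀ (r : R.obj.obj (op W)) z,
      qU (r • z) = (show RU.obj.obj (op YU) from r) • qU z := fun r z =>
    map_smul (e.hom.val.app (op YU)).hom (show RU.obj.obj (op YU) from r)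
      (show ((ModSite.restr O U).obj F).val.obj (op YU) from z)
  let T : (SheafOfModules.free (R := RV) I').val.obj (op YV) →
      (SheafOfModules.free (R := RU) I).val.obj (op YU) := fun y => qU (pV y)
  let T' : (SheafOfModules.free (R := RU) I).val.obj (op YU) →
      (SheafOfModules.free (R := RV) I').val.obj (op YV) := fun y => qV (pU y)
  have hTT' : ∀ y, T (T' y) = y := by
    intro y
    show qU (pV (qV (pU y))) = y
    rw [hpqV, hqpU]
  have hTadd : ∀ y y', T (y + y') = T y + T y' := by
    intro y y'
    show qU (pV (y + y')) = qU (pV y) + qU (pV y')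
    rw [pV_add, qU_add]
  have hTzero : T 0 = 0 := by
    show qU (pV 0) = 0
    rw [pV_zero, qU_zero]
  have hTsmul : ∀ (r : R.obj.obj (op W)) y,
      T ((show RV.obj.obj (op YV) from r) • y) =
        (show RU.obj.obj (op YU) from r) • T y := by
    intro r y
    show qU (pV _) = _ • qU (pV y)
    rw [pV_smul, qU_smul]
  have hTsum : ∀ (s : Finset I') (g : I' → (SheafOfModules.free (R := RV) I').val.obj (op YV)),
      T (∑ j ∈ s, g j) = ∑ j ∈ s, T (g j) := by
    intro s g
    induction s using Finset.induction_on with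
    | empty => simpa using hTzero
    | insert j s hj ih => rw [Finset.sum_insert hj, Finset.sum_insert hj, hTadd, ih]
  let E : Fin m → (SheafOfModules.free (R := RU) I).val.obj (op YU) :=
    fun k => basisSec RU I (op YU) (ι k)
  let E' : I' → (SheafOfModules.free (R := RV) I').val.obj (op YV) :=
    fun j => basisSec RV I' (op YV) j
  let b : Fin m → I' → O.obj.obj (op W) := fun k j => coords (op YV) (T' (E k)) j
  let a : I' → Fin m → O.obj.obj (op W) := fun j l => coords (op YU) (T (E' j)) (ι l)
  have hOW : (O.obj.obj (op W) : Type u) = R.obj.obj (op W) := rfl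
  refine le_card_of_matrix_mul_eq_one b a (fun k l => ?_)
  have h1 : T' (E k) = ∑ j, coords (op YV) (T' (E k)) j • E' j := eq_sum_coords (op YV) (T' (E k))
  have h2 : E k = ∑ j, (show RU.obj.obj (op YU) from b k j) • T (E' j) := by
    rw [← hTT' (E k), h1, hTsum]
    refine Finset.sum_congr rfl (fun j _ => ?_)
    exact hTsmul (b k j) (E' j)
  have h3 := congrArg (fun y => coords (op YU) y (ι l)) h2
  simp only at h3
  rw [coords_basisSec, map_sum, Finset.sum_apply] at h3
  have h4 : ∀ j, coords (op YU) ((show RU.obj.obj (op YU) from b k j) • T (E' j)) (ι l) =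
      b k j * a j l := by
    intro j
    rw [map_smul]
    rfl
  rw [Finset.sum_congr rfl (fun j _ => h4 j)] at h3
  have h5 : (∑ j, b k j * a j l : O.obj.obj (op W)) =
      (if ι k = ι l then (1 : O.obj.obj (op W)) else 0) := by
    refine Eq.trans ?_ (h3.symm.trans ?_)
    · rfl
    · by_cases hkl : ι k = ι l
      · rw [if_pos hkl, if_pos hkl]; rfl
      · rw [if_neg hkl, if_neg hkl]; rfl
  rw [h5]
  by_cases hkl : k = l
  · rw [if_pos hkl, if_pos (congrArg ι hkl)]
  · rw [if_neg hkl, if_neg (fun h => hkl (hι h))]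

theorem enatCard_eq_of_isos (F : ModSite.Mod O) (U V : Opens X) (I I' : Type u)
    (e : (ModSite.restr O U).obj F ≅ SheafOfModules.free I)
    (e' : (ModSite.restr O V).obj F ≅ SheafOfModules.free I')
    (x : X) (hxU : x ∈ U) (hxV : x ∈ V) (hO : Nontrivial (O.presheaf.stalk x)) :
    ENat.card I = ENat.card I' := by
  classical
  -- key: if one side is finite then so is the other, with `≤`
  have key : ∀ (U V : Opens X) (I I' : Type u)
      (e : (ModSite.restr O U).obj F ≅ SheafOfModules.free I)
      (e' : (ModSite.restr O V).obj F ≅ SheafOfModules.free I') (hxU : x ∈ U) (hxV : x ∈ V),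
      Finite I' → Finite I ∧ Nat.card I ≤ Nat.card I' := by
    intro U V I I' e e' hxU hxV hfin
    have := Fintype.ofFinite I'
    have hfinI : Finite I := by
      by_contra hinf
      rw [not_finite_iff_infinite] at hinf
      obtain ⟨f⟩ : Nonempty (Fin (Fintype.card I' + 1) ↪ I) := ⟨Infinite.natEmbedding I |>.trans
        ⟨fun n => n, fun _ _ h => h⟩ |> fun g => ⟨fun k => g k.val, fun k l h => Fin.ext (g.injective h)⟩⟩
      have := le_card_of_isos F U V I I' e e' x hxU hxV hO _ f f.injective
      omega
    refine ⟨hfinI, ?_⟩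
    have := Fintype.ofFinite I
    rw [Nat.card_eq_fintype_card, Nat.card_eq_fintype_card]
    let f := (Fintype.equivFin I).symm
    exact le_card_of_isos F U V I I' e e' x hxU hxV hO _ f f.injective
  by_cases hfin : Finite I'
  · obtain ⟨hfinI, hle⟩ := key U V I I' e e' hxU hxV hfin
    obtain ⟨-, hle'⟩ := key V U I' I e' e hxV hxU hfinI
    rw [ENat.card_eq_coe_natCard, ENat.card_eq_coe_natCard]
    exact congrArg _ (le_antisymm hle hle')
  · have hinfI : ¬ Finite I := fun hfinI => hfin (key V U I' I e' e hxV hxU hfinI).1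
    rw [not_finite_iff_infinite] at hfin hinfI
    rw [ENat.card_eq_top_of_infinite, ENat.card_eq_top_of_infinite]

theorem exists_free_nbhd (F : ModSite.Mod O)
    [SheafOfModules.IsLocallyFree (R := ModSite.ringSh O) F] (x : X) :
    ∃ (U : Opens X) (I : Type u), x ∈ U ∧
      Nonempty ((ModSite.restr O U).obj F ≅ SheafOfModules.free I) := by
  obtain ⟨q, hq⟩ :=
    (inferInstance : SheafOfModules.IsLocallyFree (R := ModSite.ringSh O) F).exists_isLocallyFreeData
  obtain ⟨i, hi⟩ := (coversTop_iff q.X).1 q.coversTop x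
  exact ⟨q.X i, (q.generators i).I, hi, ⟨(asIso (q.generators i).π).symm⟩⟩

theorem exists_rank (hO : ∀ x : X, Nontrivial (O.presheaf.stalk x)) (F : ModSite.Mod O)
    [SheafOfModules.IsLocallyFree (R := ModSite.ringSh O) F] :
    ∃ rk : X → ℕ∞, IsLocallyConstant rk ∧
      ∀ (x : X) (U : Opens X) (I : Type u), x ∈ U →
        Nonempty ((ModSite.restr O U).obj F ≅ SheafOfModules.free I) → ENat.card I = rk x := by
  choose Ux Ix hx eiso using exists_free_nbhd F
  refine ⟨fun x => ENat.card (Ix x), ?_, ?_⟩
  · rw [IsLocallyConstant.iff_exists_open]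
    intro x
    refine ⟨Ux x, (Ux x).isOpen, hx x, fun y hy => ?_⟩
    obtain ⟨e1⟩ := eiso y
    obtain ⟨e2⟩ := eiso x
    exact enatCard_eq_of_isos F (Ux y) (Ux x) (Ix y) (Ix x) e1 e2 y (hx y) hy (hO y)
  · intro x U I hxU ⟨e⟩
    obtain ⟨e2⟩ := eiso x
    exact enatCard_eq_of_isos F U (Ux x) I (Ix x) e e2 x hxU (hx x) (hO x)

end Groth.Agent.Lib.Helper2.RSMod
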