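import Mathlib
import Groth.Agent.Lib.Helper17.ModSiteExact
import Groth.Agent.Lib.Helper2.Chaotic.Basic

/-!
# Sheaves of modules on a small site: elementwise tools

Local lifting along epimorphisms, sections of kernels, coordinates on finite free modules.
-/

set_option autoImplicit false
universe u
open CategoryTheory CategoryTheory.Limits Opposite

namespace Groth.Agent.Lib.Helper2.RSMod

variable {D : Type u} [SmallCategory D] {J : GrothendieckTopology D} {R : Sheaf J RingCat.{u}}

section Basic

variable (M N : SheafOfModules.{u} R)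

/-- restriction of sections -/
noncomputable def rs {V W : D} (h : W ⟶ V) (t : M.val.obj (op V)) : M.val.obj (op W) := M.val.map h.op t

variable {M N}

@[simp] lemma rs_id {V : D} (t : M.val.obj (op V)) : rs M (𝟙 V) t = t := by
  unfold rs
  rw [show (𝟙 V).op = 𝟙 (op V) from rfl, M.val.map_id]
  rfl

lemma rs_comp {V W W' : D} (h : W ⟶ V) (k : W' ⟶ W) (t : M.val.obj (op V)) :
    rs M (k ≫ h) t = rs M k (rs M h t) := by
  unfold rs
  exact PresheafOfModules.map_comp_apply M.val h.op k.op t

lemma rs_congr {V W : D} {h h' : W ⟶ V} (e : h = h') (t : M.val.obj (op V)) :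
    rs M h t = rs M h' t := by rw [e]

@[simp] lemma rs_zero {V W : D} (h : W ⟶ V) : rs M h (0 : M.val.obj (op V)) = 0 := by
  unfold rs
  exact map_zero _

lemma rs_add {V W : D} (h : W ⟶ V) (t t' : M.val.obj (op V)) :
    rs M h (t + t') = rs M h t + rs M h t' := by
  unfold rs
  exact map_add _ _ _

lemma rs_smul {V W : D} (h : W ⟶ V) (a : R.obj.obj (op V)) (t : M.val.obj (op V)) :
    rs M h (a • t) = (R.obj.map h.op).hom a • rs M h t := by
  unfold rs
  exact PresheafOfModules.map_smul M.val h.op a t

lemma rs_sum {V W : D} (h : W ⟶ V) {ι : Type*} (s : Finset ι) (f : ι → M.val.obj (op V)) :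
    rs M h (∑ i ∈ s, f i) = ∑ i ∈ s, rs M h (f i) := by
  unfold rs
  exact map_sum _ _ _

lemma hom_rs (φ : M ⟶ N) {V W : D} (h : W ⟶ V) (t : M.val.obj (op V)) :
    φ.val.app (op W) (rs M h t) = rs N h (φ.val.app (op V) t) := by
  unfold rs
  exact PresheafOfModules.naturality_apply φ.val h.op t

end Basic

section Epi

variable {M N : SheafOfModules.{u} R}

/-- local lifting of sections along an epimorphism -/
theorem exists_local_lift (φ : M ⟶ N) [Epi φ] {V : D} (t : N.val.obj (op V)) :
    ∃ S : Sieve V, S ∈ J V ∧ ∀ ⦃W : D⦄ (h : W ⟶ V), S h →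
      ∃ y : M.val.obj (op W), φ.val.app (op W) y = rs N h t := by
  haveI := Groth.Agent.Lib.Helper17.ModSiteExact.toSheaf_preservesFiniteColimits R
  let φ' := (SheafOfModules.toSheaf R).map φ
  haveI : Epi φ' := inferInstance
  haveI : Sheaf.IsLocallySurjective φ' :=
    (Sheaf.isLocallySurjective_iff_epi' AddCommGrpCat.{u} φ').2 inferInstance
  refine ⟨Presheaf.imageSieve φ'.hom t, Presheaf.imageSieve_mem J φ'.hom t, fun W h hh => ?_⟩
  obtain ⟨y, hy⟩ := hh
  exact ⟨y, hy⟩

/-- a morphism along which sections lift locally is an epimorphism -/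
theorem epi_of_local_lift (φ : M ⟶ N)
    (H : ∀ (V : D) (t : N.val.obj (op V)), ∃ S : Sieve V, S ∈ J V ∧ ∀ ⦃W : D⦄ (h : W ⟶ V), S h →
      ∃ y : M.val.obj (op W), φ.val.app (op W) y = rs N h t) : Epi φ := by
  let φ' := (SheafOfModules.toSheaf R).map φ
  haveI : Sheaf.IsLocallySurjective φ' := ⟨fun {V} t => by
    obtain ⟨S, hS, h⟩ := H V t
    refine J.superset_covering (fun W k hk => ?_) hS
    obtain ⟨y, hy⟩ := h k hk
    exact ⟨y, hy⟩⟩
  haveI : Epi φ' := (Sheaf.isLocallySurjective_iff_epi' AddCommGrpCat.{u} φ').1 inferInstance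
  exact (SheafOfModules.toSheaf R).epi_of_epi_map this

end Epi

section Kernel

variable {M N : SheafOfModules.{u} R}

instance evaluation_additive (X : Dᵒᵖ) : (SheafOfModules.evaluation.{u} R X).Additive := by
  unfold SheafOfModules.evaluation
  infer_instance

theorem mono_injective (φ : M ⟶ N) [Mono φ] (V : D) :
    Function.Injective (φ.val.app (op V)) := by
  haveI := Groth.Agent.Lib.Helper2.Chaotic.evaluation_preservesLimits R (op V)
  have : Mono ((SheafOfModules.evaluation.{u} R (op V)).map φ) := inferInstance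
  exact (ModuleCat.mono_iff_injective _).1 this

theorem exists_kernel_lift (φ : M ⟶ N) {V : D} (y : M.val.obj (op V))
    (hy : φ.val.app (op V) y = 0) :
    ∃ z : (kernel φ).val.obj (op V), (kernel.ι φ).val.app (op V) z = y := by
  have hS : (ShortComplex.mk (kernel.ι φ) φ (kernel.condition φ)).Exact :=
    ShortComplex.exact_of_f_is_kernel _ (kernelIsKernel φ)
  haveI := Groth.Agent.Lib.Helper2.Chaotic.evaluation_preservesLimits R (op V)
  have hS' := hS.map_of_mono_of_preservesKernel (SheafOfModules.evaluation.{u} R (op V))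
    (by dsimp; infer_instance) inferInstance
  exact (ShortComplex.moduleCat_exact_iff _).1 hS' y hy

theorem kernel_ι_comp_apply (φ : M ⟶ N) {V : D} (z : (kernel φ).val.obj (op V)) :
    φ.val.app (op V) ((kernel.ι φ).val.app (op V) z) = 0 := by
  have h := kernel.condition φ
  have h2 := congrArg (fun ψ => (ψ.val.app (op V)).hom z) h
  exact h2

end Kernel

section Free

variable (R) (I : Type u)

/-- the basis sections of a free module -/
noncomputable def basisSec (X : Dᵒᵖ) (i : I) : (SheafOfModules.free (R := R) I).val.obj X :=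
  ((SheafOfModules.ιFree (R := R) i).val.app X).hom (1 : R.obj.obj X)

/-- the coordinate morphisms -/
noncomputable def coordHom [DecidableEq I] (j : I) :
    SheafOfModules.free (R := R) I ⟶ SheafOfModules.unit R :=
  Sigma.desc (fun k => if k = j then 𝟙 (SheafOfModules.unit R) else 0)

lemma ιFree_coordHom [DecidableEq I] (k j : I) :
    SheafOfModules.ιFree (R := R) k ≫ coordHom R I j =
      if k = j then 𝟙 (SheafOfModules.unit R) else 0 :=
  Sigma.ι_desc _ _

lemma sum_coordHom [Fintype I] [DecidableEq I] :
    ∑ j, coordHom R I j ≫ SheafOfModules.ιFree (R := R) j = 𝟙 (SheafOfModules.free I) := by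
  apply Sigma.hom_ext
  intro k
  change SheafOfModules.ιFree (R := R) k ≫ _ = SheafOfModules.ιFree (R := R) k ≫ _
  rw [Preadditive.comp_sum, Category.comp_id, Finset.sum_eq_single k]
  · rw [← Category.assoc, ιFree_coordHom, if_pos rfl, Category.id_comp]
  · intro j _ hjk
    rw [← Category.assoc, ιFree_coordHom, if_neg (Ne.symm hjk), zero_comp]
  · intro h; exact absurd (Finset.mem_univ k) h

variable {R I}

/-- the coordinates of a section of a finite free module -/
noncomputable def coords [DecidableEq I] (X : Dᵒᵖ) :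
    (SheafOfModules.free (R := R) I).val.obj X →ₗ[R.obj.obj X] (I → R.obj.obj X) :=
  LinearMap.pi (fun j => ((coordHom R I j).val.app X).hom)

lemma coords_apply [DecidableEq I] (X : Dᵒᵖ) (y : (SheafOfModules.free (R := R) I).val.obj X)
    (j : I) : coords X y j = ((coordHom R I j).val.app X).hom y := rfl

lemma eq_sum_coords [Fintype I] [DecidableEq I] (X : Dᵒᵖ)
    (y : (SheafOfModules.free (R := R) I).val.obj X) :
    y = ∑ j, coords X y j • basisSec R I X j := by
  have h1 : (SheafOfModules.evaluation R X).map (∑ j, coordHom R I j ≫ SheafOfModules.ιFree j) =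
      (SheafOfModules.evaluation R X).map (𝟙 (SheafOfModules.free (R := R) I)) :=
    congrArg _ (sum_coordHom R I)
  rw [CategoryTheory.Functor.map_sum, CategoryTheory.Functor.map_id] at h1
  have h2 : (∑ j, (SheafOfModules.evaluation R X).map
      (coordHom R I j ≫ SheafOfModules.ιFree j)).hom y =
      ModuleCat.Hom.hom (𝟙 ((SheafOfModules.evaluation R X).obj (SheafOfModules.free I))) y :=
    congrArg (fun g => ModuleCat.Hom.hom g y) h1
  rw [ModuleCat.hom_sum, LinearMap.sum_apply, ModuleCat.hom_id, LinearMap.id_apply] at h2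
  refine h2.symm.trans (Finset.sum_congr rfl (fun j _ => ?_))
  change ((SheafOfModules.ιFree (R := R) j).val.app X).hom (((coordHom R I j).val.app X).hom y) = _
  have hr : (((coordHom R I j).val.app X).hom y : (SheafOfModules.unit R).val.obj X) =
      coords X y j • (show (SheafOfModules.unit R).val.obj X from (1 : R.obj.obj X)) := by
    change coords X y j = coords X y j * 1
    rw [mul_one]
  rw [hr]
  exact ((SheafOfModules.ιFree (R := R) j).val.app X).hom.map_smul _ _

lemma coords_basisSec [DecidableEq I] (X : Dᵒᵖ) (i j : I) :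
    coords X (basisSec R I X i) j = if i = j then 1 else 0 := by
  rw [coords_apply]
  unfold basisSec
  have h := ιFree_coordHom R I i j
  have h2 := congrArg (fun ψ => (ψ.val.app X).hom (1 : R.obj.obj X)) h
  refine h2.trans ?_
  split_ifs
  · rfl
  · rfl

lemma coords_sum_smul [Fintype I] [DecidableEq I] (X : Dᵒᵖ) (a : I → R.obj.obj X) :
    coords X (∑ j, a j • basisSec R I X j) = a := by
  funext k
  rw [map_sum, Finset.sum_apply, Finset.sum_eq_single k]
  · rw [map_smul, Pi.smul_apply, coords_basisSec, if_pos rfl, smul_eq_mul, mul_one]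
  · intro j _ hjk
    rw [map_smul, Pi.smul_apply, coords_basisSec, if_neg hjk, smul_zero]
  · intro h; exact absurd (Finset.mem_univ k) h

lemma basisSec_rs {V W : D} (h : W ⟶ V) (i : I) :
    rs (SheafOfModules.free (R := R) I) h (basisSec R I (op V) i) = basisSec R I (op W) i := by
  unfold basisSec
  rw [← hom_rs]
  congr 1
  exact (PresheafOfModules.unit_map_one (R := R.obj) h.op)

lemma coords_rs [DecidableEq I] {V W : D} (h : W ⟶ V)
    (y : (SheafOfModules.free (R := R) I).val.obj (op V)) (j : I) :
    coords (op W) (rs _ h y) j = (R.obj.map h.op).hom (coords (op V) y j) := by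
  rw [coords_apply, coords_apply]
  exact hom_rs (coordHom R I j) h y

lemma hom_eq_sum [Fintype I] [DecidableEq I] {M : SheafOfModules.{u} R}
    (π : SheafOfModules.free (R := R) I ⟶ M) (X : Dᵒᵖ)
    (y : (SheafOfModules.free (R := R) I).val.obj X) :
    π.val.app X y = ∑ j, coords X y j • π.val.app X (basisSec R I X j) := by
  conv_lhs => rw [eq_sum_coords X y]
  rw [map_sum]
  refine Finset.sum_congr rfl (fun j _ => ?_)
  exact (π.val.app X).hom.map_smul _ _

end Free

end Groth.Agent.Lib.Helper2.RSMod
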