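import Groth.Agent.Lib.Helper2.RSMod.Free
import Groth.Prelude.Def_ModSite2
import Mathlib.Topology.Sheaves.Points

/-!
# Germs of sections of modules on a ringed space (stalks at the point of the site of opens)
-/

set_option autoImplicit false
universe u
open CategoryTheory CategoryTheory.Limits Opposite TopologicalSpace

namespace Groth.Agent.Lib.Helper2.RSMod

variable {X : TopCat.{u}} {O : TopCat.Sheaf CommRingCat.{u} X}

section Germ

variable (F G : ModSite.Mod O) (x : X)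

/-- the point of the site of opens attached to `x` -/
abbrev pt : GrothendieckTopology.Point.{u} (Opens.grothendieckTopology X) :=
  Opens.pointGrothendieckTopology x

/-- the germ at `x` of a section -/
noncomputable def gm {U : Opens X} (hx : x ∈ U) (s : F.val.obj (op U)) :
    ModSite.stalkAb (pt x) F :=
  ModSite.germ (pt x) F U ⟨⟨hx⟩⟩ s

variable {F G}

lemma gm_res {U W : Opens X} (h : W ≤ U) (hx : x ∈ W) (s : F.val.obj (op U)) :
    gm F x hx (res F h s) = gm F x (h hx) s :=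
  (pt x).toPresheafFiber_w_apply (homOfLE h) ⟨⟨hx⟩⟩ (ModSite.toAb F).obj s

lemma gm_surj (m : ModSite.stalkAb (pt x) F) :
    ∃ (U : Opens X) (hx : x ∈ U) (s : F.val.obj (op U)), gm F x hx s = m := by
  obtain ⟨U, ⟨⟨hx⟩⟩, s, hs⟩ :=
    (pt x).toPresheafFiber_jointly_surjective (P := (ModSite.toAb F).obj) m
  exact ⟨U, hx, s, hs⟩

lemma gm_eq_iff {U : Opens X} (hx : x ∈ U) (s s' : F.val.obj (op U)) :
    gm F x hx s = gm F x hx s' ↔
      ∃ (W : Opens X) (h : W ≤ U), x ∈ W ∧ res F h s = res F h s' := by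
  refine ((pt x).toPresheafFiber_eq_iff' (P := (ModSite.toAb F).obj) U ⟨⟨hx⟩⟩ s s').trans ?_
  constructor
  · rintro ⟨W, f, ⟨⟨hxW⟩⟩, -, h⟩
    exact ⟨W, leOfHom f, hxW, h⟩
  · rintro ⟨W, h, hxW, h'⟩
    exact ⟨W, homOfLE h, ⟨⟨hxW⟩⟩, rfl, h'⟩

lemma gm_add {U : Opens X} (hx : x ∈ U) (s s' : F.val.obj (op U)) :
    gm F x hx (s + s') = gm F x hx s + gm F x hx s' :=
  map_add ((pt x).toPresheafFiber U ⟨⟨hx⟩⟩ (ModSite.toAb F).obj).hom s s'

lemma gm_zero {U : Opens X} (hx : x ∈ U) : gm F x hx (0 : F.val.obj (op U)) = 0 :=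
  map_zero ((pt x).toPresheafFiber U ⟨⟨hx⟩⟩ (ModSite.toAb F).obj).hom

lemma gm_sum {U : Opens X} (hx : x ∈ U) {ι : Type*} (t : Finset ι) (f : ι → F.val.obj (op U)) :
    gm F x hx (∑ i ∈ t, f i) = ∑ i ∈ t, gm F x hx (f i) :=
  map_sum ((pt x).toPresheafFiber U ⟨⟨hx⟩⟩ (ModSite.toAb F).obj).hom f t

lemma stalkMap_gm (φ : F ⟶ G) {U : Opens X} (hx : x ∈ U) (s : F.val.obj (op U)) :
    (ModSite.stalkMap (pt x) φ).hom (gm F x hx s) = gm G x hx (φ.val.app (op U) s) :=
  (pt x).toPresheafFiber_naturality_apply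
    ((SheafOfModules.toSheaf (ModSite.ringSh O)).map φ).hom U ⟨⟨hx⟩⟩ s

end Germ

section LocEpi

variable {F G : ModSite.Mod O}

theorem epi_restr_of_local_lift (φ : G ⟶ F) (W : Opens X)
    (H : ∀ (V : Opens X) (_ : V ≤ W) (t : F.val.obj (op V)) (z : X), z ∈ V →
      ∃ (W' : Opens X) (hW' : W' ≤ V), z ∈ W' ∧ ∃ y : G.val.obj (op W'),
        φ.val.app (op W') y = res F hW' t) :
    Epi ((ModSite.restr O W).map φ) := by
  apply epi_of_local_lift
  intro Y t
  let t' : F.val.obj (op Y.left) := t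
  let S₀ : Sieve Y.left :=
    { arrows := fun V' f => ∃ y : G.val.obj (op V'), φ.val.app (op V') y = rs F f t'
      downward_closed := by
        rintro V' V'' f ⟨y, hy⟩ k
        refine ⟨rs G k y, ?_⟩
        rw [hom_rs, hy, ← rs_comp] }
  have hS₀ : S₀ ∈ Opens.grothendieckTopology X Y.left := by
    intro z hz
    obtain ⟨W', hW', hzW', y, hy⟩ := H Y.left (leOfHom Y.hom) t' z hz
    exact ⟨W', homOfLE hW', ⟨y, hy⟩, hzW'⟩
  refine ⟨(Sieve.overEquiv Y).symm S₀, (GrothendieckTopology.mem_over_iff _ _).2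
    (((Sieve.overEquiv Y).apply_symm_apply S₀).symm ▸ hS₀), fun Y' k hk => ?_⟩
  have hk' : S₀ k.left := (Sieve.overEquiv_symm_iff S₀ k).1 hk
  obtain ⟨y, hy⟩ := hk'
  exact ⟨y, hy⟩

theorem exists_epi_restr_of_stalk_surjective (φ : G ⟶ F)
    [SheafOfModules.IsFiniteType (R := ModSite.ringSh O) F] (x : X)
    (hx : Function.Surjective (ModSite.stalkMap (Opens.pointGrothendieckTopology x) φ).hom) :
    ∃ U : Opens X, x ∈ U ∧ Epi ((ModSite.restr O U).map φ) := by
  obtain ⟨U, hxU, n, s, hs⟩ := (isFiniteType_iff F).1 inferInstance x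
  obtain ⟨W, hW, hxW, hlift⟩ := exists_common_nbhd (ι := Fin n) x U hxU
    (fun k W => ∃ (hWU : W ≤ U) (g : G.val.obj (op W)), φ.val.app (op W) g = res F hWU (s k))
    (by
      rintro k W W' hWW' ⟨hWU, g, hg⟩
      refine ⟨hWW'.trans hWU, res G hWW' g, ?_⟩
      rw [hom_res, hg, res_res])
    (fun k => by
      obtain ⟨m, hm⟩ := hx (gm F x hxU (s k))
      obtain ⟨U', hxU', g, rfl⟩ := gm_surj x m
      rw [stalkMap_gm] at hm
      have hxI : x ∈ U' ⊓ U := ⟨hxU', hxU⟩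
      have h1 : gm F x hxI (res F inf_le_left (φ.val.app (op U') g)) =
          gm F x hxI (res F inf_le_right (s k)) := by
        rw [gm_res, gm_res]
        exact hm
      obtain ⟨W, hW, hxW, h2⟩ := (gm_eq_iff x hxI _ _).1 h1
      rw [res_res, res_res] at h2
      refine ⟨W, hW.trans inf_le_right, hxW, hW.trans inf_le_right,
        res G (hW.trans inf_le_left) g, ?_⟩
      rw [hom_res]
      exact h2)
  choose hWU g hg using hlift
  refine ⟨W, hxW, epi_restr_of_local_lift φ W ?_⟩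
  intro V hV t z hz
  obtain ⟨W', hW', hzW', a, ha⟩ := hs V (hV.trans hW) t z hz
  refine ⟨W', hW', hzW', ∑ k, a k • res G (hW'.trans hV) (g k), ?_⟩
  rw [ha, hom_sum]
  refine Finset.sum_congr rfl (fun k _ => ?_)
  rw [hom_smul, hom_res, hg, res_res]

end LocEpi

end Groth.Agent.Lib.Helper2.RSMod
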