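import Groth.Agent.Lib.Helper2.RSMod.FreeStalk
import Mathlib.Topology.Sheaves.Stalks
import Mathlib.RingTheory.LocalRing.Module

/-!
# Local stalks: the stalk at the point of the site is a local ring
-/

set_option autoImplicit false
universe u
open CategoryTheory CategoryTheory.Limits Opposite TopologicalSpace

namespace Groth.Agent.Lib.Helper2.RSMod

variable {X : TopCat.{u}} (O : TopCat.Sheaf CommRingCat.{u} X) (x : X)

/-- a function whose germ (in the stalk of the presheaf) is a unit is a unit near the point -/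
lemma unit_nbhd {U : Opens X} (hx : x ∈ U) (a : (ModSite.ringSh O).obj.obj (op U))
    (h : IsUnit ((O.presheaf.germ U x hx).hom (show O.presheaf.obj (op U) from a))) :
    ∃ (W : Opens X) (hW : W ≤ U), x ∈ W ∧ IsUnit (rres O hW a) := by
  obtain ⟨c', hc'⟩ := h.exists_right_inv
  obtain ⟨V, hxV, c, rfl⟩ := O.presheaf.exists_germ_eq c'
  let a' : O.presheaf.obj (op U) := a
  let b₀ : O.presheaf.obj (op (U ⊓ V)) := O.presheaf.map (homOfLE inf_le_left).op a'
  let c₀ : O.presheaf.obj (op (U ⊓ V)) := O.presheaf.map (homOfLE inf_le_right).op c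
  have hxW₀ : x ∈ U ⊓ V := ⟨hx, hxV⟩
  have h1 : O.presheaf.germ (U ⊓ V) x hxW₀ (b₀ * c₀) = O.presheaf.germ (U ⊓ V) x hxW₀ 1 := by
    rw [map_mul, map_one]
    have e1 : O.presheaf.germ (U ⊓ V) x hxW₀ b₀ = O.presheaf.germ U x hx a' :=
      O.presheaf.germ_res_apply (homOfLE inf_le_left) x hxW₀ a'
    have e2 : O.presheaf.germ (U ⊓ V) x hxW₀ c₀ = O.presheaf.germ V x hxV c :=
      O.presheaf.germ_res_apply (homOfLE inf_le_right) x hxW₀ c
    rw [e1, e2]
    exact hc'
  obtain ⟨W, hxW, iU, iV, h2⟩ := O.presheaf.germ_eq x hxW₀ hxW₀ _ _ h1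
  have hWU : W ≤ U := (leOfHom iU).trans inf_le_left
  refine ⟨W, hWU, hxW, ?_⟩
  rw [map_mul, map_one] at h2
  have h3 : (O.presheaf.map iU.op) b₀ = rres O hWU a := by
    have h4 := O.presheaf.map_comp (homOfLE (inf_le_left : U ⊓ V ≤ U)).op iU.op
    have h5 := congrArg (fun φ => φ.hom a') h4
    exact h5.symm
  have h6 : (O.presheaf.map iU.op) c₀ * (O.presheaf.map iU.op) b₀ = 1 := by
    rw [mul_comm]
    exact h2
  let u : Units ((ModSite.ringSh O).obj.obj (op W)) :=
    ⟨rres O hWU a, (show (ModSite.ringSh O).obj.obj (op W) from (O.presheaf.map iU.op) c₀),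
      by rw [← h3]; exact h2, by rw [← h3]; exact h6⟩
  exact ⟨u, rfl⟩

variable {O}

theorem isLocalRing_stalkRing (hO : IsLocalRing (O.presheaf.stalk x)) :
    IsLocalRing (ModSite.stalkRing (pt x) O) := by
  haveI : Nontrivial (ModSite.stalkRing (pt x) O) := by
    refine ⟨⟨0, 1, fun h01 => ?_⟩⟩
    have h1 : gmR O x (U := ⊤) trivial 0 = gmR O x (U := ⊤) trivial 1 := by
      rw [map_zero, map_one]
      exact h01
    obtain ⟨W, hW, hxW, h2⟩ := (gmR_eq_iff x _ _ _).1 h1
    rw [map_zero, map_one] at h2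
    have h3 : (0 : O.presheaf.stalk x) = 1 := by
      have h4 := congrArg (fun a => (O.presheaf.germ W x hxW).hom
        (show O.presheaf.obj (op W) from a)) h2
      have h5 : (O.presheaf.germ W x hxW).hom (0 : O.presheaf.obj (op W)) = 0 := map_zero _
      have h6 : (O.presheaf.germ W x hxW).hom (1 : O.presheaf.obj (op W)) = 1 := map_one _
      exact h5.symm.trans (h4.trans h6)
    exact zero_ne_one h3
  apply IsLocalRing.of_isUnit_or_isUnit_one_sub_self
  intro r
  obtain ⟨U, hxU, a, rfl⟩ := gmR_surj x r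
  rcases IsLocalRing.isUnit_or_isUnit_one_sub_self
    ((O.presheaf.germ U x hxU).hom (show O.presheaf.obj (op U) from a)) with h | h
  · obtain ⟨W, hW, hxW, hu⟩ := unit_nbhd O x hxU a h
    left
    rw [← gmR_rres x hW hxW]
    exact hu.map (gmR O x hxW)
  · let a' : O.presheaf.obj (op U) := a
    have h' : IsUnit ((O.presheaf.germ U x hxU).hom (1 - a')) := by
      have h8 := map_sub (O.presheaf.germ U x hxU).hom (1 : O.presheaf.obj (op U)) a'
      rw [map_one] at h8
      rw [h8]
      exact h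
    obtain ⟨W, hW, hxW, hu⟩ := unit_nbhd O x hxU (1 - a) h'
    right
    have h9 : 1 - gmR O x hxU a = gmR O x hxW (rres O hW (1 - a)) := by
      rw [gmR_rres, map_sub, map_one]
    rw [h9]
    exact hu.map (gmR O x hxW)

section StalkFree

variable {F G H : ModSite.Mod O}

lemma stalkMap_comp_apply (φ : F ⟶ G) (ψ : G ⟶ H) (v : ModSite.stalkAb (pt x) F) :
    (ModSite.stalkMap (pt x) (φ ≫ ψ)).hom v =
      (ModSite.stalkMap (pt x) ψ).hom ((ModSite.stalkMap (pt x) φ).hom v) := by
  obtain ⟨U, hxU, s, rfl⟩ := gm_surj x v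
  rw [stalkMap_gm, stalkMap_gm, stalkMap_gm]
  rfl

lemma stalkMap_id_apply (v : ModSite.stalkAb (pt x) F) :
    (ModSite.stalkMap (pt x) (𝟙 F)).hom v = v := by
  obtain ⟨U, hxU, s, rfl⟩ := gm_surj x v
  rw [stalkMap_gm]
  rfl

lemma exists_ring_sections {I : Type*} [Finite I] (c : I → ModSite.stalkRing (pt x) O)
    {U : Opens X} (hxU : x ∈ U) :
    ∃ (W : Opens X) (_ : W ≤ U) (hxW : x ∈ W) (α : I → (ModSite.ringSh O).obj.obj (op W)),
      ∀ k, gmR O x hxW (α k) = c k := by
  obtain ⟨W₁, hW₁, hxW₁, hα⟩ := exists_common_nbhd (ι := I) x U hxU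
    (fun k W => ∀ hxW : x ∈ W, ∃ α : (ModSite.ringSh O).obj.obj (op W), gmR O x hxW α = c k)
    (by
      intro k W W' hWW' h hxW'
      obtain ⟨α, hα⟩ := h (hWW' hxW')
      exact ⟨rres O hWW' α, by rw [gmR_rres]; exact hα⟩)
    (fun k => by
      obtain ⟨U', hxU', α, hα⟩ := gmR_surj x (c k)
      refine ⟨U' ⊓ U, inf_le_right, ⟨hxU', hxU⟩, fun hxW => ?_⟩
      exact ⟨rres O inf_le_left α, by rw [gmR_rres]; exact hα⟩)
  choose α hα using fun k => hα k hxW₁
  exact ⟨W₁, hW₁, hxW₁, α, hα⟩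

theorem stalk_linearCombination_bijective {I : Type*} [Fintype I] {U : Opens X} (hxU : x ∈ U)
    (h : I → F.val.obj (op U)) (hh : PBasis F U h) :
    Function.Bijective (Fintype.linearCombination (ModSite.stalkRing (pt x) O)
      (fun k => gm F x hxU (h k))) := by
  constructor
  · rw [injective_iff_map_eq_zero]
    intro c hc
    rw [Fintype.linearCombination_apply] at hc
    obtain ⟨W, hW, hxW, α, hα⟩ := exists_ring_sections x c hxU
    have h1 : gm F x hxW (∑ k, α k • res F hW (h k)) = gm F x hxW 0 := by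
      rw [gm_sum, gm_zero, ← hc]
      refine Finset.sum_congr rfl (fun k _ => ?_)
      rw [gm_smul, hα, gm_res]
    obtain ⟨W', hW', hxW', h2⟩ := (gm_eq_iff x hxW _ _).1 h1
    rw [res_zero, res_sum] at h2
    have h3 : ∑ k, rres O hW' (α k) • res F (hW'.trans hW) (h k) = 0 := by
      rw [← h2]
      refine Finset.sum_congr rfl (fun k _ => ?_)
      rw [res_smul, res_res]
    have h4 := hh.2 W' (hW'.trans hW) _ h3
    funext k
    rw [← hα k, ← gmR_rres x hW' hxW', h4 k, map_zero]
    rfl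
  · intro v
    obtain ⟨V, hxV, t, rfl⟩ := gm_surj x v
    have hxW : x ∈ V ⊓ U := ⟨hxV, hxU⟩
    obtain ⟨a, ha⟩ := hh.1 (V ⊓ U) inf_le_right (res F inf_le_left t)
    refine ⟨fun k => gmR O x hxW (a k), ?_⟩
    rw [Fintype.linearCombination_apply, ← gm_res x inf_le_left hxW t, ha, gm_sum]
    refine Finset.sum_congr rfl (fun k _ => ?_)
    rw [gm_smul, gm_res]

theorem stalk_free_of_summand (hO : IsLocalRing (ModSite.stalkRing (pt x) O))
    (i : F ⟶ H) (p : H ⟶ F) (hip : i ≫ p = 𝟙 F)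
    {I : Type*} [Fintype I] {U : Opens X} (hxU : x ∈ U)
    (h : I → H.val.obj (op U)) (hh : PBasis H U h) :
    ∃ ρ : ℕ, Nonempty (ModSite.stalkMod (pt x) F ≃ₗ[ModSite.stalkRing (pt x) O]
      (Fin ρ → ModSite.stalkRing (pt x) O)) := by
  classical
  let eH := LinearEquiv.ofBijective _ (stalk_linearCombination_bijective x hxU h hh)
  haveI : Module.Free (ModSite.stalkRing (pt x) O) (ModSite.stalkMod (pt x) H) :=
    Module.Free.of_equiv eH
  haveI : Module.Finite (ModSite.stalkRing (pt x) O) (ModSite.stalkMod (pt x) H) :=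
    Module.Finite.equiv eH
  let ix := (ModSite.stalkMap (pt x) i).hom
  let px := (ModSite.stalkMap (pt x) p).hom
  have hpi : px ∘ₗ ix = LinearMap.id := by
    ext v
    have h1 := stalkMap_comp_apply x i p v
    rw [hip, stalkMap_id_apply] at h1
    exact h1.symm
  haveI : Module.Projective (ModSite.stalkRing (pt x) O) (ModSite.stalkMod (pt x) F) :=
    Module.Projective.of_split ix px hpi
  haveI : Module.Finite (ModSite.stalkRing (pt x) O) (ModSite.stalkMod (pt x) F) :=
    Module.Finite.of_surjective px (fun v => ⟨ix v, LinearMap.congr_fun hpi v⟩)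
  haveI : Module.Free (ModSite.stalkRing (pt x) O) (ModSite.stalkMod (pt x) F) :=
    Module.free_of_flat_of_isLocalRing
  exact ⟨_, ⟨(Module.finBasis (ModSite.stalkRing (pt x) O)
    (ModSite.stalkMod (pt x) F)).equivFun⟩⟩

end StalkFree

end Groth.Agent.Lib.Helper2.RSMod
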