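import Groth.Agent.Lib.Helper2.RSMod.Free
import Mathlib.Algebra.Category.ModuleCat.Presheaf.Submodule

/-!
# Subsheaves of modules cut out by a local condition
-/

set_option autoImplicit false
universe u
open CategoryTheory CategoryTheory.Limits Opposite TopologicalSpace

namespace Groth.Agent.Lib.Helper2.RSMod

variable {X : TopCat.{u}} {O : TopCat.Sheaf CommRingCat.{u} X}

/-- a family of submodules of the modules of sections, stable under restriction and local -/
structure LocSub (F : ModSite.Mod O) where
  carrier : ∀ V : Opens X, Submodule ((ModSite.ringSh O).obj.obj (op V)) (F.val.obj (op V))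
  res_mem : ∀ {V W : Opens X} (h : W ≤ V) (t : F.val.obj (op V)),
    t ∈ carrier V → res F h t ∈ carrier W
  loc : ∀ (V : Opens X) (t : F.val.obj (op V)),
    (∀ x ∈ V, ∃ (W : Opens X) (h : W ≤ V), x ∈ W ∧ res F h t ∈ carrier W) → t ∈ carrier V

namespace LocSub

variable {F : ModSite.Mod O} (N : LocSub F)

/-- the associated family of submodules in Mathlib's sense -/
def toSubmodule : PresheafOfModules.Submodule F.val where
  obj Y := N.carrier Y.unop
  map {Y Z} f := by
    intro t ht
    exact N.res_mem (leOfHom f.unop) t ht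

lemma isSheaf : Presheaf.IsSheaf (Opens.grothendieckTopology X)
    N.toSubmodule.toPresheafOfModules.presheaf := by
  have hF : Presieve.IsSheaf (Opens.grothendieckTopology X)
      (F.val.presheaf ⋙ forget AddCommGrpCat.{u}) :=
    (isSheaf_iff_isSheaf_of_type _ _).1
      ((Presheaf.isSheaf_iff_isSheaf_forget _ F.val.presheaf (forget AddCommGrpCat.{u})).1
        F.isSheaf)
  refine (Presheaf.isSheaf_iff_isSheaf_forget _ _ (forget AddCommGrpCat.{u})).2 ?_
  refine (isSheaf_iff_isSheaf_of_type _ _).2 ?_
  intro V S hS fam hfam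
  -- the family in `F`
  let fam' : Presieve.FamilyOfElements (F.val.presheaf ⋙ forget AddCommGrpCat.{u}) S.arrows :=
    fun W f hf => (show N.carrier W from fam f hf).val
  have hfam' : fam'.Compatible := by
    intro W₁ W₂ Z g₁ g₂ f₁ f₂ h₁ h₂ e
    have h := hfam g₁ g₂ h₁ h₂ e
    exact congrArg (fun z => (show N.carrier Z from z).val) h
  obtain ⟨t, ht, htu⟩ := hF S hS fam' hfam'
  have htm : t ∈ N.carrier V := by
    apply N.loc
    intro x hx
    obtain ⟨W, f, hf, hxW⟩ := hS x hx
    refine ⟨W, leOfHom f, hxW, ?_⟩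
    have h1 : res F (leOfHom f) t = fam' f hf := ht f hf
    rw [h1]
    exact (show N.carrier W from fam f hf).2
  refine ⟨(⟨t, htm⟩ : N.carrier V), ?_, ?_⟩
  · intro W f hf
    apply Subtype.ext
    exact ht f hf
  · intro t₂ ht₂
    apply Subtype.ext
    apply htu
    intro W f hf
    exact congrArg (fun z => (show N.carrier W from z).val) (ht₂ f hf)

/-- the subsheaf of modules -/
noncomputable def sheaf : ModSite.Mod O where
  val := N.toSubmodule.toPresheafOfModules
  isSheaf := N.isSheaf

/-- the inclusion -/
noncomputable def ι : N.sheaf ⟶ F := ⟨N.toSubmodule.ι⟩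

lemma ι_apply {V : Opens X} (z : N.carrier V) : N.ι.val.app (op V) z = z.val := rfl

theorem mem_of_epi [Epi N.ι] {V : Opens X} (t : F.val.obj (op V)) : t ∈ N.carrier V := by
  apply N.loc
  intro x hx
  obtain ⟨W, hW, hxW, z, hz⟩ := exists_lift_nbhd N.ι t x hx
  refine ⟨W, hW, hxW, ?_⟩
  rw [← hz]
  exact (show N.carrier W from z).2

theorem epi_of_cokernel (h : cokernel.π N.ι = 0) : Epi N.ι :=
  Preadditive.epi_of_cokernel_zero h

/-- an element of the carrier is killed by the cokernel projection -/
lemma cokernel_π_apply {V : Opens X} (t : F.val.obj (op V)) (ht : t ∈ N.carrier V) :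
    (cokernel.π N.ι).val.app (op V) t = 0 := by
  have h := cokernel.condition N.ι
  exact congrArg (fun ψ => (ψ.val.app (op V)).hom (⟨t, ht⟩ : N.carrier V)) h

end LocSub

end Groth.Agent.Lib.Helper2.RSMod
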