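import Groth.Agent.Lib.Helper2.RSMod.StalkLocal

/-!
# Direct summands of finite locally free modules on locally ringed spaces
-/

set_option autoImplicit false
universe u
open CategoryTheory CategoryTheory.Limits Opposite TopologicalSpace

namespace Groth.Agent.Lib.Helper2.RSMod

variable {X : TopCat.{u}} {O : TopCat.Sheaf CommRingCat.{u} X}

lemma rres_self {V : Opens X} (h : V ≤ V) (a : (ModSite.ringSh O).obj.obj (op V)) :
    rres O h a = a := by
  have h1 := (ModSite.ringSh O).obj.map_id (op V)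
  exact congrArg (fun φ => φ.hom a) h1

lemma PBasis.reindex {F : ModSite.Mod O} {U : Opens X} {I I' : Type*} [Fintype I] [Fintype I']
    (e : I ≃ I') {s : I → F.val.obj (op U)} (h : PBasis F U s) : PBasis F U (s ∘ e.symm) := by
  constructor
  · intro V hV t
    obtain ⟨a, ha⟩ := h.1 V hV t
    refine ⟨a ∘ e.symm, ?_⟩
    rw [ha]
    exact (Fintype.sum_equiv e.symm _ _ (fun i' => rfl)).symm
  · intro V hV a ha i'
    have h1 : ∑ i, (a ∘ e) i • res F hV (s i) = 0 := by
      rw [← ha]
      refine Fintype.sum_equiv e _ _ (fun i => ?_)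
      simp
    have h2 := h.2 V hV _ h1 (e.symm i')
    simpa using h2

set_option maxHeartbeats 1600000 in
theorem isFinitePresentation_of_summand {F H : ModSite.Mod O}
    (hH : ∀ x : X, ∃ (U : Opens X) (n : ℕ), x ∈ U ∧
      Nonempty ((ModSite.restr O U).obj H ≅ SheafOfModules.free (ULift.{u} (Fin n))))
    (i : F ⟶ H) (p : H ⟶ F) (hip : i ≫ p = 𝟙 F) :
    SheafOfModules.IsFinitePresentation (R := ModSite.ringSh O) F := by
  classical
  refine isFinitePresentation_of_pData F (fun x => ?_)
  obtain ⟨U, n, hxU, ⟨e⟩⟩ := hH x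
  obtain ⟨h₀, hh₀⟩ := exists_pBasis_of_iso H U e
  have hh := hh₀.reindex (Equiv.ulift.{u, 0})
  set h : Fin n → H.val.obj (op U) := h₀ ∘ (Equiv.ulift.{u, 0}).symm with hdef
  have hpi : ∀ (V : Opens X) (y : F.val.obj (op V)),
      p.val.app (op V) (i.val.app (op V) y) = y := fun V y =>
    congrArg (fun ψ => (ψ.val.app (op V)).hom y) hip
  choose E hE using fun k => hh.1 U le_rfl (i.val.app (op U) (p.val.app (op U) (h k)))
  simp only [res_self] at hE
  refine ⟨U, hxU, Fin n, inferInstance, fun k => p.val.app (op U) (h k), Fin n, inferInstance,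
    fun k l => (if k = l then 1 else 0) - E k l, ?_, ?_, ?_⟩
  · intro V hV t z hz
    obtain ⟨a, ha⟩ := hh.1 V hV (i.val.app (op V) t)
    refine ⟨V, le_rfl, hz, a, ?_⟩
    rw [res_self]
    have h1 := congrArg (fun v => p.val.app (op V) v) ha
    simp only [hpi, hom_sum, hom_smul, hom_res] at h1
    exact h1
  · intro k
    simp only [sub_smul]
    rw [Finset.sum_sub_distrib]
    simp only [ite_smul, one_smul, zero_smul, Finset.sum_ite_eq, Finset.mem_univ, if_true]
    have h1 := congrArg (fun v => p.val.app (op U) v) (hE k)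
    simp only [hpi, hom_sum, hom_smul] at h1
    rw [← h1, sub_self]
  · intro V hV a ha z hz
    refine ⟨V, le_rfl, hz, a, fun l => ?_⟩
    rw [rres_self]
    have h1 : ∑ l, (∑ k, a k * rres O hV (E k l)) • res H hV (h l) = 0 := by
      have h2 := congrArg (fun v => i.val.app (op V) v) ha
      simp only [hom_sum, hom_smul, hom_res, hom_zero, hE, res_sum, res_smul,
        Finset.smul_sum] at h2
      rw [← h2, Finset.sum_comm]
      refine Finset.sum_congr rfl (fun l _ => ?_)
      rw [Finset.sum_smul]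
      refine Finset.sum_congr rfl (fun k _ => ?_)
      rw [mul_smul]
    have h3 := hh.2 V hV _ h1 l
    have h4 : ∀ k, a k * rres O (le_rfl.trans hV) ((if k = l then 1 else 0) - E k l) =
        (if k = l then a k else 0) - a k * rres O hV (E k l) := by
      intro k
      rw [map_sub, mul_sub]
      congr 1
      split_ifs
      · rw [map_one, mul_one]
      · rw [map_zero, mul_zero]
    rw [Finset.sum_congr rfl (fun k _ => h4 k), Finset.sum_sub_distrib, h3, sub_zero,
      Finset.sum_ite_eq', if_pos (Finset.mem_univ l)]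

theorem locFree_of_summand (hO : ∀ x : X, IsLocalRing (O.presheaf.stalk x)) {F H : ModSite.Mod O}
    (hH : ∀ x : X, ∃ (U : Opens X) (n : ℕ), x ∈ U ∧
      Nonempty ((ModSite.restr O U).obj H ≅ SheafOfModules.free (ULift.{u} (Fin n))))
    (i : F ⟶ H) (p : H ⟶ F) (hip : i ≫ p = 𝟙 F) (x : X) :
    ∃ (U : Opens X) (n : ℕ), x ∈ U ∧
      Nonempty ((ModSite.restr O U).obj F ≅ SheafOfModules.free (ULift.{u} (Fin n))) := by
  classical
  haveI := isFinitePresentation_of_summand hH i p hip
  obtain ⟨U, n, hxU, ⟨e⟩⟩ := hH x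
  obtain ⟨h, hh⟩ := exists_pBasis_of_iso H U e
  obtain ⟨ρ, hρ⟩ := stalk_free_of_summand x (isLocalRing_stalkRing x (hO x)) i p hip hxU h hh
  obtain ⟨U', hxU', hU'⟩ := free_nbhd_of_free_stalk F x ρ hρ
  exact ⟨U', ρ, hxU', hU'⟩

end Groth.Agent.Lib.Helper2.RSMod
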